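import Mathlib.AlgebraicGeometry.Modules.Sheaf

/-!
Elementary tools for sheaves of modules on a scheme: restriction of sections, locality,
and construction of morphisms from local descriptions.
-/

universe u

open CategoryTheory CategoryTheory.Limits AlgebraicGeometry TopologicalSpace Opposite

namespace Groth.CohTwo

variable {X : Scheme.{u}}

/-- Restriction of sections of a module. -/
noncomputable def res (M : X.Modules) {W' W : X.Opens} (h : W' ≤ W) : Γ(M, W) →+ Γ(M, W') :=
  (M.presheaf.map (homOfLE h).op).hom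

/-- Restriction of functions. -/
noncomputable def resR (X : Scheme.{u}) {W' W : X.Opens} (h : W' ≤ W) : Γ(X, W) →+* Γ(X, W') :=
  (X.presheaf.map (homOfLE h).op).hom

@[simp] lemma res_rfl (M : X.Modules) {W : X.Opens} (h : W ≤ W) (s : Γ(M, W)) : res M h s = s := by
  simp [res]

@[simp] lemma res_res (M : X.Modules) {A B C : X.Opens} (h : A ≤ B) (h' : B ≤ C) (s : Γ(M, C)) :
    res M h (res M h' s) = res M (h.trans h') s := by
  simp only [res]
  rw [← ConcreteCategory.comp_apply, ← Functor.map_comp]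
  rfl

lemma res_smul (M : X.Modules) {A B : X.Opens} (h : A ≤ B) (r : Γ(X, B)) (s : Γ(M, B)) :
    res M h (r • s) = resR X h r • res M h s :=
  Scheme.Modules.map_smul M (homOfLE h) r s

lemma app_res {M N : X.Modules} (φ : M ⟶ N) {A B : X.Opens} (h : A ≤ B) (s : Γ(M, B)) :
    φ.app A (res M h s) = res N h (φ.app B s) :=
  congr($(φ.mapPresheaf.naturality (homOfLE h).op).hom s)

lemma hom_ext_app {M N : X.Modules} {φ ψ : M ⟶ N} (h : ∀ W s, φ.app W s = ψ.app W s) : φ = ψ :=
  Scheme.Modules.hom_ext _ _ fun W => by ext s; exact h W s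

/-- Sections agreeing locally are equal. -/
lemma eq_of_local (M : X.Modules) {W : X.Opens} (s t : Γ(M, W))
    (h : ∀ x ∈ W, ∃ (W' : X.Opens) (hle : W' ≤ W), x ∈ W' ∧ res M hle s = res M hle t) : s = t := by
  choose W' hle hx heq using h
  refine TopCat.Sheaf.eq_of_locally_eq' ⟨M.presheaf, M.isSheaf⟩ (fun x : W => W' x.1 x.2) W
    (fun x => homOfLE (hle x.1 x.2)) ?_ s t (fun x => heq x.1 x.2)
  intro x hxW
  exact Opens.mem_iSup.2 ⟨⟨x, hxW⟩, hx x hxW⟩

/-- Glueing of locally given sections. -/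
lemma exists_glue (M : X.Modules) {W : X.Opens} {ι : Type u} (U : ι → X.Opens) (hU : ∀ i, U i ≤ W)
    (hcov : ∀ x ∈ W, ∃ i, x ∈ U i) (sf : ∀ i, Γ(M, U i))
    (hc : ∀ i j, res M (inf_le_left : U i ⊓ U j ≤ U i) (sf i) = res M inf_le_right (sf j)) :
    ∃ s : Γ(M, W), ∀ i, res M (hU i) s = sf i := by
  obtain ⟨s, hs, -⟩ := TopCat.Sheaf.existsUnique_gluing' ⟨M.presheaf, M.isSheaf⟩ U W
    (fun i => homOfLE (hU i)) (fun x hx => Opens.mem_iSup.2 (hcov x hx)) sf hc
  exact ⟨s, hs⟩

lemma mono_iff_app_injective {M N : X.Modules} (φ : M ⟶ N) :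
    Mono φ ↔ ∀ W, Function.Injective (φ.app W) := by
  constructor
  · intro h W
    have h1 : Mono φ.mapPresheaf := (Scheme.Modules.toPresheaf X).map_mono φ
    have h2 := (NatTrans.mono_iff_mono_app φ.mapPresheaf).1 h1 (op W)
    exact (ConcreteCategory.mono_iff_injective_of_preservesPullback _).1 h2
  · intro h
    refine ⟨fun g k hgk => hom_ext_app fun W s => h W ?_⟩
    exact congr(($hgk).app W s)

lemma app_injective {M N : X.Modules} (φ : M ⟶ N) [Mono φ] (W : X.Opens) :
    Function.Injective (φ.app W) :=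
  (mono_iff_app_injective φ).1 inferInstance W

lemma isIso_of_app_bijective {M N : X.Modules} (φ : M ⟶ N)
    (h : ∀ W, Function.Bijective (φ.app W)) : IsIso φ :=
  Scheme.Modules.Hom.isIso_iff_isIso_app.2 fun W => (ConcreteCategory.isIso_iff_bijective _).2 (h W)

/-- A morphism of modules given by a local relation between sections which has unique values,
is compatible with restriction, linear, and has values locally. -/
theorem exists_hom_of_local {T F : X.Modules} (R : ∀ W : X.Opens, Γ(T, W) → Γ(F, W) → Prop)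
    (hres : ∀ {W' W : X.Opens} (h : W' ≤ W) (s : Γ(T, W)) (t : Γ(F, W)),
      R W s t → R W' (res T h s) (res F h t))
    (huniq : ∀ (W : X.Opens) (s : Γ(T, W)) (t t' : Γ(F, W)), R W s t → R W s t' → t = t')
    (hloc : ∀ (W : X.Opens) (s : Γ(T, W)) (t : Γ(F, W)),
      (∀ x ∈ W, ∃ (W' : X.Opens) (h : W' ≤ W), x ∈ W' ∧ R W' (res T h s) (res F h t)) → R W s t)
    (hex : ∀ (W : X.Opens) (s : Γ(T, W)), ∀ x ∈ W,
      ∃ (W' : X.Opens) (h : W' ≤ W) (t : Γ(F, W')), x ∈ W' ∧ R W' (res T h s) t)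
    (hadd : ∀ (W : X.Opens) (s s' : Γ(T, W)) (t t' : Γ(F, W)),
      R W s t → R W s' t' → R W (s + s') (t + t'))
    (hsmul : ∀ (W : X.Opens) (r : Γ(X, W)) (s : Γ(T, W)) (t : Γ(F, W)),
      R W s t → R W (r • s) (r • t)) :
    ∃ φ : T ⟶ F, ∀ W s, R W s (φ.app W s) := by
  have key : ∀ (W : X.Opens) (s : Γ(T, W)), ∃ t, R W s t := by
    intro W s
    choose U hU t hx hR using hex W s
    obtain ⟨g, hg⟩ := exists_glue F (fun x : W => U x.1 x.2) (fun x => hU x.1 x.2)
      (fun x hxW => ⟨⟨x, hxW⟩, hx x hxW⟩) (fun x => t x.1 x.2) (by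
        intro i j
        refine huniq _ (res T (inf_le_left.trans (hU i.1 i.2)) s) _ _ ?_ ?_
        · simpa using hres inf_le_left _ _ (hR i.1 i.2)
        · simpa using hres (inf_le_right : U i.1 i.2 ⊓ U j.1 j.2 ≤ U j.1 j.2) _ _ (hR j.1 j.2))
    exact ⟨g, hloc W s g fun x hxW => ⟨U x hxW, hU x hxW, hx x hxW,
      by rw [hg ⟨x, hxW⟩]; exact hR x hxW⟩⟩
  choose f hf using key
  let a : ∀ W : X.Opens, Γ(T, W) →+ Γ(F, W) := fun W =>
    AddMonoidHom.mk' (f W) fun s s' =>
      huniq W _ _ _ (hf W (s + s')) (hadd W _ _ _ _ (hf W s) (hf W s'))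
  let φ : T.val.presheaf ⟶ F.val.presheaf :=
    { app := fun W => AddCommGrpCat.ofHom (a W.unop)
      naturality := fun W W' i => by
        ext s
        have h : W'.unop ≤ W.unop := leOfHom i.unop
        exact huniq W'.unop _ _ _ (hf W'.unop (res T h s)) (hres h _ _ (hf W.unop s)) }
  exact ⟨⟨PresheafOfModules.homMk φ fun W r s =>
    huniq W.unop _ _ _ (hf W.unop _) (hsmul W.unop r s _ (hf W.unop s))⟩, fun W s => hf W s⟩

end Groth.CohTwo
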