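import Groth.Agent.QCohMod.Coherent
import Mathlib.RingTheory.Spectrum.Prime.Module

/-!
Stalk-local properties of coherent modules.
-/

universe u

open CategoryTheory CategoryTheory.Limits AlgebraicGeometry TopologicalSpace Opposite

namespace Groth.CohTwo

open Groth.QCohMod

variable {X : Scheme.{u}}

/-- The support of a finite type quasi-coherent module is closed. -/
theorem isClosed_support (M : X.Modules) (hM : Coh.IsCoh M) : IsClosed (CohB1.support M) := by
  haveI := hM.1
  refine isOpen_compl_iff.1 (isOpen_iff_forall_mem_open.2 fun x hx => ?_)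
  obtain ⟨U, hU, hxU⟩ := exists_affine_mem x
  haveI := finite_sections M hM.2 hU
  obtain ⟨_, ⟨_, ⟨a, rfl⟩, rfl⟩, hxa, ha⟩ := PrimeSpectrum.isBasis_basic_opens.exists_subset_of_mem_open
    (show hU.primeIdealOf ⟨x, hxU⟩ ∈ (Module.support Γ(X, U) Γ(M, U))ᶜ from
      fun h => hx ((mem_support_iff M hU x hxU).2 h))
    (Module.isClosed_support (R := Γ(X, U)) (M := Γ(M, U))).isOpen_compl
  refine ⟨X.basicOpen a, fun y hy h => ?_, (X.basicOpen a).2, ?_⟩
  · have hyU : y ∈ U := X.basicOpen_le a hy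
    exact ha ((mem_basicOpen_iff_notMem_primeIdealOf hU a y hyU).1 hy)
      ((mem_support_iff M hU y hyU).1 h)
  · exact (mem_basicOpen_iff_notMem_primeIdealOf hU a x hxU).2 hxa

/-- The stalks of a restriction. -/
lemma subsingleton_stalk_restrict (M : X.Modules) (U : X.Opens) (y : (U : Scheme.{u}))
    (h : U.ι.base y ∉ CohB1.support M) :
    IsZero ((stalk y).obj ((Scheme.Modules.restrictFunctor U.ι).obj M)) := by
  haveI : Subsingleton ↑((stalk (U.ι.base y)).obj M) := not_not.1 h
  exact (AddCommGrpCat.isZero_of_subsingleton _).of_iso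
    ((Scheme.Modules.restrictStalkNatIso U.ι y).app M)

/-- A coherent module with vanishing stalk at `x` vanishes near `x`. -/
theorem exists_isZero_restrict (M : X.Modules) (hM : Coh.IsCoh M) (x : X)
    (hx : Subsingleton ↑(M.presheaf.stalk x)) :
    ∃ U : X.Opens, x ∈ U ∧ (∀ y ∈ U, y ∉ CohB1.support M) ∧
      IsZero ((Scheme.Modules.restrictFunctor U.ι).obj M) := by
  refine ⟨⟨(CohB1.support M)ᶜ, (isClosed_support M hM).isOpen_compl⟩, fun h => h hx, fun y hy => hy, ?_⟩
  exact (isZero_iff_stalk _).2 fun y => subsingleton_stalk_restrict M _ y y.2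

end Groth.CohTwo

namespace Groth.CohTwo

open Groth.QCohMod

variable {X : Scheme.{u}}

lemma restrict_stalk_map {M N : X.Modules} (φ : M ⟶ N) (U : X.Opens) (y : (U : Scheme.{u})) :
    (stalk y).map ((Scheme.Modules.restrictFunctor U.ι).map φ) =
      ((Scheme.Modules.restrictStalkNatIso U.ι y).app M).hom ≫ (stalk (U.ι.base y)).map φ ≫
        ((Scheme.Modules.restrictStalkNatIso U.ι y).app N).inv := by
  rw [← Category.assoc]
  refine (Iso.eq_comp_inv _).2 ?_
  exact (Scheme.Modules.restrictStalkNatIso U.ι y).hom.naturality φ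

/-- An injective stalk map of coherent modules is injective nearby. -/
theorem exists_injective_nhd [IsLocallyNoetherian X] {M N : X.Modules} (hM : Coh.IsCoh M)
    (hN : Coh.IsCoh N) (φ : M ⟶ N) (x : X) (h : Function.Injective ((stalk x).map φ)) :
    ∃ U : X.Opens, x ∈ U ∧ ∀ y ∈ U, Mono ((stalk y).map φ) := by
  haveI := hN.1
  haveI := (AddCommGrpCat.mono_iff_injective _).2 h
  obtain ⟨U, hxU, hU, -⟩ := exists_isZero_restrict (kernel φ) (isCoh_kernel φ hM) x
    (AddCommGrpCat.subsingleton_of_isZero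
      ((isZero_kernel_of_mono ((stalk x).map φ)).of_iso (PreservesKernel.iso (stalk x) φ)))
  refine ⟨U, hxU, fun y hy => Preadditive.mono_of_kernel_zero ?_⟩
  haveI : Subsingleton ↑((stalk y).obj (kernel φ)) := not_not.1 (hU y hy)
  exact ((AddCommGrpCat.isZero_of_subsingleton _).of_iso
    (PreservesKernel.iso (stalk y) φ).symm).eq_of_src _ _

/-- A surjective stalk map into a coherent module is surjective nearby. -/
theorem exists_surjective_nhd {M N : X.Modules} (hM : Coh.IsCoh M) (hN : Coh.IsCoh N) (φ : M ⟶ N)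
    (x : X) (h : Function.Surjective ((stalk x).map φ)) :
    ∃ U : X.Opens, x ∈ U ∧ ∀ y ∈ U, Epi ((stalk y).map φ) := by
  haveI := hM.1
  haveI := (AddCommGrpCat.epi_iff_surjective _).2 h
  obtain ⟨U, hxU, hU, -⟩ := exists_isZero_restrict (cokernel φ) (isCoh_cokernel φ hN) x
    (AddCommGrpCat.subsingleton_of_isZero
      ((isZero_cokernel_of_epi ((stalk x).map φ)).of_iso (PreservesCokernel.iso (stalk x) φ)))
  refine ⟨U, hxU, fun y hy => Preadditive.epi_of_cokernel_zero ?_⟩
  haveI : Subsingleton ↑((stalk y).obj (cokernel φ)) := not_not.1 (hU y hy)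
  exact ((AddCommGrpCat.isZero_of_subsingleton _).of_iso
    (PreservesCokernel.iso (stalk y) φ).symm).eq_of_tgt _ _

/-- A bijective stalk map of coherent modules is an isomorphism nearby. -/
theorem exists_isIso_nhd [IsLocallyNoetherian X] {M N : X.Modules} (hM : Coh.IsCoh M)
    (hN : Coh.IsCoh N) (φ : M ⟶ N) (x : X) (h : Function.Bijective ((stalk x).map φ)) :
    ∃ U : X.Opens, x ∈ U ∧ IsIso ((Scheme.Modules.restrictFunctor U.ι).map φ) := by
  obtain ⟨U, hxU, hU⟩ := exists_injective_nhd hM hN φ x h.1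
  obtain ⟨V, hxV, hV⟩ := exists_surjective_nhd hM hN φ x h.2
  refine ⟨U ⊓ V, ⟨hxU, hxV⟩, isIso_of_stalk _ fun y => ?_⟩
  haveI : Mono ((stalk ((U ⊓ V).ι.base y)).map φ) := hU _ y.2.1
  haveI : Epi ((stalk ((U ⊓ V).ι.base y)).map φ) := hV _ y.2.2
  haveI : IsIso ((stalk ((U ⊓ V).ι.base y)).map φ) := isIso_of_mono_of_epi _
  rw [restrict_stalk_map]
  infer_instance

/-- An injective stalk map of coherent modules gives a monomorphism nearby. -/
theorem exists_mono_nhd [IsLocallyNoetherian X] {M N : X.Modules} (hM : Coh.IsCoh M)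
    (hN : Coh.IsCoh N) (φ : M ⟶ N) (x : X) (h : Function.Injective ((stalk x).map φ)) :
    ∃ U : X.Opens, x ∈ U ∧ Mono ((Scheme.Modules.restrictFunctor U.ι).map φ) := by
  obtain ⟨U, hxU, hU⟩ := exists_injective_nhd hM hN φ x h
  refine ⟨U, hxU, (mono_iff_stalk _).2 fun y => (AddCommGrpCat.mono_iff_injective _).1 ?_⟩
  haveI : Mono ((stalk (U.ι.base y)).map φ) := hU _ y.2
  rw [restrict_stalk_map]
  infer_instance

end Groth.CohTwo
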