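import Groth.Agent.CohTwo.Glue

/-!
Lifting through monomorphisms of modules, checked on affine opens.
-/

universe u

open CategoryTheory CategoryTheory.Limits AlgebraicGeometry TopologicalSpace Opposite

namespace Groth.CohTwo

variable {X : Scheme.{u}} {A B C : X.Modules}

/-- A morphism factors through a monomorphism if it does so on sections over small enough opens. -/
theorem exists_lift_of_local (α : A ⟶ C) (β : B ⟶ C) [Mono β]
    (h : ∀ (W : X.Opens) (a : Γ(A, W)), ∀ x ∈ W, ∃ (W' : X.Opens) (h : W' ≤ W) (b : Γ(B, W')),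
      x ∈ W' ∧ β.app W' b = res C h (α.app W a)) :
    ∃ γ : A ⟶ B, γ ≫ β = α := by
  obtain ⟨γ, hγ⟩ := exists_hom_of_local (T := A) (F := B)
    (fun W a b => β.app W b = α.app W a)
    (fun h a b e => by rw [app_res, app_res, e])
    (fun W a b b' e e' => app_injective β W (e.trans e'.symm))
    (fun W a b e => eq_of_local C _ _ fun x hx => by
      obtain ⟨A', hA, hxA, hh⟩ := e x hx
      exact ⟨A', hA, hxA, by rw [← app_res, ← app_res, hh]⟩)
    (fun W a x hx => by
      obtain ⟨W', hW, b, hxW, e⟩ := h W a x hx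
      exact ⟨W', hW, b, hxW, e.trans (app_res α hW a).symm⟩)
    (fun W a a' b b' e e' => by simp [e, e'])
    (fun W r a b e => by simp [e])
  exact ⟨γ, hom_ext_app hγ⟩

/-- A morphism factors through a monomorphism if it does so on sections over affine opens. -/
theorem exists_lift_of_affine_range (α : A ⟶ C) (β : B ⟶ C) [Mono β]
    (h : ∀ U : X.Opens, IsAffineOpen U → ∀ a, α.app U a ∈ Set.range (β.app U)) :
    ∃ γ : A ⟶ B, γ ≫ β = α := by
  refine exists_lift_of_local α β fun W a x hx => ?_
  obtain ⟨_, ⟨U, hU, rfl⟩, hxU, hUW⟩ :=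
    X.isBasis_affineOpens.exists_subset_of_mem_open hx W.2
  obtain ⟨b, hb⟩ := h U hU (res A hUW a)
  exact ⟨U, hUW, b, hxU, hb.trans (app_res α hUW a)⟩

/-- Two submodules with the same sections on affine opens are isomorphic over the ambient module. -/
theorem exists_iso_of_affine_range (α : A ⟶ C) (β : B ⟶ C) [Mono α] [Mono β]
    (h : ∀ U : X.Opens, IsAffineOpen U → Set.range (α.app U) = Set.range (β.app U)) :
    ∃ e : A ≅ B, e.hom ≫ β = α := by
  obtain ⟨γ, hγ⟩ := exists_lift_of_affine_range α β fun U hU a => (h U hU).le ⟨a, rfl⟩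
  obtain ⟨δ, hδ⟩ := exists_lift_of_affine_range β α fun U hU b => (h U hU).ge ⟨b, rfl⟩
  refine ⟨⟨γ, δ, ?_, ?_⟩, hγ⟩
  · rw [← cancel_mono α, Category.assoc, hδ, hγ, Category.id_comp]
  · rw [← cancel_mono β, Category.assoc, hγ, hδ, Category.id_comp]

end Groth.CohTwo
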