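import Groth.Agent.CohTwo.IdealMul
import Groth.Agent.CohTwo.SubLift
import Groth.Agent.PropsBasic2.NoethScheme

/-!
Morphisms of quasi-coherent modules out of powers `I^n · G`.
-/

universe u

open CategoryTheory CategoryTheory.Limits AlgebraicGeometry TopologicalSpace Opposite

namespace Groth.CohTwo

open Groth.QCohMod hiding res res_res res_smul

variable {X : Scheme.{u}}

/-- A morphism out of a quasi-coherent module which is zero on the sections over the members of an
affine cover is zero. -/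
theorem eq_zero_of_affine_cover {M F : X.Modules} [M.IsQuasicoherent] (φ : M ⟶ F) {ι : Type*}
    (V : ι → X.Opens) (hV : ∀ i, IsAffineOpen (V i)) (hcov : ∀ x, ∃ i, x ∈ V i)
    (h : ∀ i s, φ.app (V i) s = 0) : φ = 0 := by
  refine hom_ext_app fun W s => (eq_of_local F _ 0 fun x hx => ?_).trans rfl
  obtain ⟨i, hi⟩ := hcov x
  obtain ⟨f, hxf, hfW⟩ := exists_basicOpen_mem (hV i) hi hx
  refine ⟨X.basicOpen f, hfW, hxf, ?_⟩
  obtain ⟨n, t, ht⟩ := exists_pow_smul_eq_res M (hV i) f (res M hfW s)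
  rw [map_zero, ← app_res]
  have hu : IsUnit (resFun X (X.basicOpen_le f) f) := X.toRingedSpace.isUnit_res_basicOpen f
  refine (hu.pow n).smul_left_cancel.1 ?_
  rw [smul_zero, ← φ.app_smul, ← ht]
  change φ.app _ (res M (X.basicOpen_le f) t) = 0
  rw [app_res, h, map_zero]

/-- A morphism whose restriction to `U` vanishes is zero on sections over opens inside `U`. -/
theorem app_eq_zero_of_restrict {M F : X.Modules} {U : X.Opens} (φ : M ⟶ F)
    (hφ : (Scheme.Modules.restrictFunctor U.ι).map φ = 0) {W : X.Opens} (hW : W ≤ U) (s : Γ(M, W)) :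
    φ.app W s = 0 := by
  have hle : W ≤ U.ι ''ᵁ (U.ι ⁻¹ᵁ W) := by
    rw [Scheme.Hom.image_preimage_eq_opensRange_inf, Scheme.Opens.opensRange_ι]
    exact le_inf hW le_rfl
  have h0 : φ.app (U.ι ''ᵁ (U.ι ⁻¹ᵁ W)) (res M (U.ι.image_preimage_le W) s) = 0 :=
    congr(($hφ).app (U.ι ⁻¹ᵁ W) (res M (U.ι.image_preimage_le W) s))
  have h1 := congrArg (res F hle) h0
  rw [map_zero, ← app_res, res_res, res_rfl] at h1
  exact h1

/-- `D(f) ⊆ U` for `f ∈ I(V)` and `U` the complement of the support of `I`. -/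
theorem basicOpen_le_compl_support (I : X.IdealSheafData) {U : X.Opens}
    (hU : (U : Set X) = (I.support : Set X)ᶜ) {V : X.Opens} (hV : IsAffineOpen V) {f : Γ(X, V)}
    (hf : f ∈ I.ideal ⟨V, hV⟩) : X.basicOpen f ≤ U := by
  intro x hx
  change x ∈ (U : Set X)
  rw [hU, Set.mem_compl_iff]
  intro hxI
  have := (Scheme.IdealSheafData.mem_support_iff_of_mem (U := ⟨V, hV⟩) (X.basicOpen_le f hx)).1 hxI
  exact (Scheme.mem_zeroLocus_iff _ _ _).1 this f hf hx

/-- The submodule of sections over an affine open of `I^n · G`. -/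
theorem range_idealMulι_pow (I : X.IdealSheafData) (n : ℕ) (G : X.Modules) [G.IsQuasicoherent]
    {V : X.Opens} (hV : IsAffineOpen V) (y : Γ(G, V)) :
    y ∈ Set.range ((Dual3.idealMulι (I ^ n) G).app V) ↔
      y ∈ I.ideal ⟨V, hV⟩ ^ n • (⊤ : Submodule Γ(X, V) Γ(G, V)) := by
  rw [mem_range_idealMulι_iff (I ^ n) G hV, Scheme.IdealSheafData.ideal_pow, Pi.pow_apply]

/-- The inclusion `I^N G ⟶ I^n G` for `n ≤ N`. -/
theorem exists_pow_incl (I : X.IdealSheafData) {n N : ℕ} (h : n ≤ N) (G : X.Modules)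
    [G.IsQuasicoherent] :
    ∃ ι : (Dual3.idealMul (I ^ N)).obj G ⟶ (Dual3.idealMul (I ^ n)).obj G,
      ι ≫ Dual3.idealMulι (I ^ n) G = Dual3.idealMulι (I ^ N) G := by
  refine exists_lift_of_affine_range _ _ fun U hU a => ?_
  exact (range_idealMulι_pow I n G hU _).2
    (Submodule.smul_mono_left (Ideal.pow_le_pow_right h)
      ((range_idealMulι_pow I N G hU _).1 ⟨a, rfl⟩))

end Groth.CohTwo
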