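import Groth.Agent.CohTwo.Devissage

/-!
The stalk of `i_* O_Z` at the image of the generic point, and comparison with powers of it.
-/

universe u

open CategoryTheory CategoryTheory.Limits AlgebraicGeometry TopologicalSpace Opposite

namespace Groth.CohTwo

open Groth.QCohMod hiding res res_res res_smul

/-- A finite module killed by the maximal ideal is a power of a cyclic one. -/
theorem exists_equiv_pow_cyclic {R : Type*} [CommRing R] [IsLocalRing R] {M N : Type*}
    [AddCommGroup M] [Module R M] [AddCommGroup N] [Module R N] [Module.Finite R M]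
    [Nontrivial N] (g : N) (hg : ∀ x : N, ∃ a : R, a • g = x)
    (hM : ∀ a ∈ IsLocalRing.maximalIdeal R, ∀ m : M, a • m = 0)
    (hN : ∀ a ∈ IsLocalRing.maximalIdeal R, ∀ m : N, a • m = 0) :
    ∃ r : ℕ, Nonempty ((Fin r → N) ≃ₗ[R] M) := by
  let I := IsLocalRing.maximalIdeal R
  have tM : Module.IsTorsionBySet R M I := fun m a => hM a.1 a.2 m
  have tN : Module.IsTorsionBySet R N I := fun m a => hN a.1 a.2 m
  letI : Module (R ⧸ I) M := tM.module
  letI : Module (R ⧸ I) N := tN.module
  haveI : IsScalarTower R (R ⧸ I) M := tM.isScalarTower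
  haveI : IsScalarTower R (R ⧸ I) N := tN.isScalarTower
  letI := Ideal.Quotient.field I
  haveI : Module.Finite R N :=
    Module.Finite.of_surjective (LinearMap.toSpanSingleton R N g) fun x => hg x
  haveI := Module.Finite.of_restrictScalars_finite R (R ⧸ I) M
  haveI := Module.Finite.of_restrictScalars_finite R (R ⧸ I) N
  have hg0 : g ≠ 0 := by
    rintro rfl
    obtain ⟨x, hx⟩ := exists_ne (0 : N)
    obtain ⟨a, rfl⟩ := hg x
    exact hx (smul_zero a)
  have h1 : Module.finrank (R ⧸ I) N = 1 := by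
    refine finrank_eq_one g hg0 fun w => ?_
    obtain ⟨a, rfl⟩ := hg w
    exact ⟨Ideal.Quotient.mk I a, rfl⟩
  refine ⟨Module.finrank (R ⧸ I) M, ⟨(LinearEquiv.ofFinrankEq (R := R ⧸ I)
    (Fin (Module.finrank (R ⧸ I) M) → N) M ?_).restrictScalars R⟩⟩
  rw [Module.finrank_pi_fintype]
  simp [h1]

variable {X Z : Scheme.{u}}

lemma pushStalk_smul (i : Z ⟶ X) (M : Z.Modules) (z : Z) (a : X.presheaf.stalk (i z))
    (t : ↑(((Scheme.Modules.pushforward i).obj M).presheaf.stalk (i z))) :
    pushStalk i M z (a • t) = i.stalkMap z a • pushStalk i M z t := by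
  obtain ⟨U, hU, m, rfl⟩ := stalk_exists_germ _ (i z) t
  obtain ⟨V, hV, b, rfl⟩ := TopCat.Presheaf.exists_germ_eq X.presheaf a
  have hW : i z ∈ U ⊓ V := ⟨hU, hV⟩
  rw [← stalk_germ_res _ (i z) (inf_le_left : U ⊓ V ≤ U) hW m,
    ← TopCat.Presheaf.germ_res_apply X.presheaf (homOfLE (inf_le_right : U ⊓ V ≤ V)) (i z) hW b]
  refine (congrArg (pushStalk i M z) (stalk_germ_smul _ (i z) (U := U ⊓ V) hW
    (resR X inf_le_right b) (res _ inf_le_left m)).symm).trans ?_
  rw [pushStalk_germ, pushStalk_germ, Scheme.Hom.germ_stalkMap_apply]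
  exact stalk_germ_smul M z (U := i ⁻¹ᵁ (U ⊓ V)) hW _ _

/-- The stalk of `i_* O_Z` at the image of the generic point: cyclic, killed by the maximal ideal. -/
theorem push_unit_stalk [IsIntegral Z] (i : Z ⟶ X) [IsClosedImmersion i] :
    let N := ((Scheme.Modules.pushforward i).obj (Coh.structureModule Z)).presheaf.stalk
      (i (genericPoint Z))
    Nontrivial ↑N ∧ (∃ g : ↑N, ∀ x, ∃ a : X.presheaf.stalk (i (genericPoint Z)), a • g = x) ∧
      ∀ a ∈ IsLocalRing.maximalIdeal (X.presheaf.stalk (i (genericPoint Z))), ∀ m : ↑N, a • m = 0 := by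
  intro N
  let η := genericPoint Z
  let P := pushStalk i (Coh.structureModule Z) η
  have hP : Function.Bijective P := bijective_pushStalk i (Coh.structureModule Z) η
  have hb := bijective_toSpanSingleton_one (X := Z) η
  haveI : Nontrivial ↑((Coh.structureModule Z).presheaf.stalk η) := hb.1.nontrivial
  refine ⟨(Equiv.ofBijective P hP).nontrivial, ?_, fun a ha m => hP.1 ?_⟩
  · obtain ⟨g, hg⟩ := hP.2 ((Coh.structureModule Z).presheaf.germ ⊤ η trivial
      (show Γ(Coh.structureModule Z, ⊤) from (1 : Γ(Z, ⊤))))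
    refine ⟨g, fun x => ?_⟩
    obtain ⟨c, hc⟩ := hb.2 (P x)
    obtain ⟨a, rfl⟩ := i.stalkMap_surjective η c
    refine ⟨a, hP.1 ?_⟩
    rw [pushStalk_smul, hg, ← hc]
    rfl
  · rw [map_zero, pushStalk_smul]
    have h0 : i.stalkMap η a = 0 := by
      by_contra h
      exact (IsLocalRing.mem_maximalIdeal _).1 ha
        ((isUnit_map_iff (i.stalkMap η).hom a).1 (isUnit_iff_ne_zero.2 h))
    rw [h0, zero_smul]

end Groth.CohTwo
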