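import Groth.Agent.CohTwo.Glue
import Mathlib.Algebra.Category.ModuleCat.Presheaf

/-!
The subsheaf `below C V ⊆ C` of sections vanishing near every point outside the open `V`
(the extension by zero of `C|_V`), and morphisms out of it.
-/

universe u

open CategoryTheory CategoryTheory.Limits AlgebraicGeometry TopologicalSpace Opposite

namespace Groth.CohTwo

variable {X : Scheme.{u}}

/-- `s` vanishes in a neighbourhood of every point outside `V`. -/
def VanishOff (C : X.Modules) (V : X.Opens) {W : X.Opens} (s : Γ(C, W)) : Prop :=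
  ∀ x ∈ W, x ∉ V → ∃ (W' : X.Opens) (h : W' ≤ W), x ∈ W' ∧ res C h s = 0

namespace VanishOff

variable {C D : X.Modules} {V V' : X.Opens} {W : X.Opens}

lemma zero : VanishOff C V (0 : Γ(C, W)) := fun _ hx _ => ⟨W, le_rfl, hx, map_zero _⟩

lemma add {s t : Γ(C, W)} (hs : VanishOff C V s) (ht : VanishOff C V t) :
    VanishOff C V (s + t) := by
  intro x hx hxV
  obtain ⟨A, hA, hxA, h1⟩ := hs x hx hxV
  obtain ⟨B, hB, hxB, h2⟩ := ht x hx hxV
  refine ⟨A ⊓ B, inf_le_left.trans hA, ⟨hxA, hxB⟩, ?_⟩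
  rw [map_add, ← res_res C inf_le_left hA, h1, ← res_res C inf_le_right hB, h2, map_zero,
    map_zero, add_zero]

lemma neg {s : Γ(C, W)} (hs : VanishOff C V s) : VanishOff C V (-s) := by
  intro x hx hxV
  obtain ⟨A, hA, hxA, h1⟩ := hs x hx hxV
  exact ⟨A, hA, hxA, by simp [h1]⟩

lemma smul (r : Γ(X, W)) {s : Γ(C, W)} (hs : VanishOff C V s) : VanishOff C V (r • s) := by
  intro x hx hxV
  obtain ⟨A, hA, hxA, h1⟩ := hs x hx hxV
  exact ⟨A, hA, hxA, by rw [res_smul, h1, smul_zero]⟩

lemma res {W' : X.Opens} (h : W' ≤ W) {s : Γ(C, W)} (hs : VanishOff C V s) :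
    VanishOff C V (res C h s) := by
  intro x hx hxV
  obtain ⟨A, hA, hxA, h1⟩ := hs x (h hx) hxV
  refine ⟨A ⊓ W', inf_le_right, ⟨hxA, hx⟩, ?_⟩
  rw [res_res, ← res_res C inf_le_left hA, h1, map_zero]

lemma mono (hV : V ≤ V') {s : Γ(C, W)} (hs : VanishOff C V s) : VanishOff C V' s :=
  fun x hx hxV => hs x hx fun h => hxV (hV h)

lemma map (φ : C ⟶ D) {s : Γ(C, W)} (hs : VanishOff C V s) : VanishOff D V (φ.app W s) := by
  intro x hx hxV
  obtain ⟨A, hA, hxA, h1⟩ := hs x hx hxV
  exact ⟨A, hA, hxA, by rw [← app_res, h1, map_zero]⟩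

lemma of_map (φ : C ⟶ D) [Mono φ] {s : Γ(C, W)} (hs : VanishOff D V (φ.app W s)) :
    VanishOff C V s := by
  intro x hx hxV
  obtain ⟨A, hA, hxA, h1⟩ := hs x hx hxV
  exact ⟨A, hA, hxA, app_injective φ A (by rw [app_res, h1, map_zero])⟩

lemma of_le (h : W ≤ V) (s : Γ(C, W)) : VanishOff C V s := fun _ hx hxV => absurd (h hx) hxV

lemma of_local {s : Γ(C, W)}
    (h : ∀ x ∈ W, ∃ (A : X.Opens) (hA : A ≤ W), x ∈ A ∧ VanishOff C V (Groth.CohTwo.res C hA s)) :
    VanishOff C V s := by
  intro x hx hxV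
  obtain ⟨A, hA, hxA, h1⟩ := h x hx
  obtain ⟨B, hB, hxB, h2⟩ := h1 x hxA hxV
  exact ⟨B, hB.trans hA, hxB, by simpa using h2⟩

end VanishOff

/-- The submodule of sections vanishing off `V`. -/
noncomputable def belowSub (C : X.Modules) (V W : X.Opens) : Submodule Γ(X, W) Γ(C, W) where
  carrier := {s | VanishOff C V s}
  add_mem' := VanishOff.add
  zero_mem' := VanishOff.zero
  smul_mem' r _ hs := hs.smul r

/-- The presheaf of abelian groups underlying `below`. -/
noncomputable def belowAb (C : X.Modules) (V : X.Opens) : (Opens X)ᵒᵖ ⥤ AddCommGrpCat.{u} where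
  obj W := AddCommGrpCat.of (belowSub C V W.unop)
  map {W W'} i := AddCommGrpCat.ofHom
    (AddMonoidHom.mk' (fun s => ⟨res C (leOfHom i.unop) s.1, s.2.res _⟩)
      (fun s t => Subtype.ext (map_add _ _ _)))
  map_id W := by
    ext s
    exact res_rfl C (leOfHom (𝟙 W : W ⟶ W).unop) _
  map_comp i j := by
    ext s
    exact (res_res C (leOfHom j.unop) (leOfHom i.unop) _).symm

noncomputable instance (C : X.Modules) (V : X.Opens) (W : (Opens X)ᵒᵖ) :
    Module (X.ringCatSheaf.obj.obj W) ((belowAb C V).obj W) :=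
  inferInstanceAs (Module Γ(X, W.unop) (belowSub C V W.unop))

/-- The subsheaf of `C` of sections vanishing off `V`. -/
noncomputable def below (C : X.Modules) (V : X.Opens) : X.Modules where
  val := PresheafOfModules.ofPresheaf (belowAb C V) fun W W' i r s =>
    Subtype.ext (res_smul C (leOfHom i.unop) r s.1)
  isSheaf := by
    change TopCat.Presheaf.IsSheaf (X := X.toPresheafedSpace) (belowAb C V)
    rw [TopCat.Presheaf.isSheaf_iff_isSheafUniqueGluing]
    intro ι U sf hsf
    obtain ⟨s, hs⟩ := exists_glue C U (fun i => le_iSup U i) (fun x hx => Opens.mem_iSup.1 hx)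
      (fun i => (sf i).1) (fun i j => congrArg Subtype.val (hsf i j))
    have hv : VanishOff C V s := VanishOff.of_local fun x hx => by
      obtain ⟨i, hi⟩ := Opens.mem_iSup.1 hx
      exact ⟨U i, le_iSup U i, hi, by rw [hs]; exact (sf i).2⟩
    refine ⟨⟨s, hv⟩, fun i => Subtype.ext (hs i), fun t ht => Subtype.ext ?_⟩
    refine eq_of_local C _ _ fun x hx => ?_
    obtain ⟨i, hi⟩ := Opens.mem_iSup.1 hx
    exact ⟨U i, le_iSup U i, hi, (congrArg Subtype.val (ht i)).trans (hs i).symm⟩

/-- The inclusion `below C V ⟶ C`. -/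
noncomputable def belowι (C : X.Modules) (V : X.Opens) : below C V ⟶ C :=
  ⟨PresheafOfModules.homMk
    { app := fun W => AddCommGrpCat.ofHom (AddMonoidHom.mk' (fun s => s.1) fun _ _ => rfl)
      naturality := fun _ _ _ => rfl }
    fun _ _ _ => rfl⟩

variable {C D F T : X.Modules} {V V' W : X.Opens}

/-- A section of `below C V`. -/
noncomputable def belowMk (s : Γ(C, W)) (hs : VanishOff C V s) : Γ(below C V, W) := ⟨s, hs⟩

lemma belowι_app_injective (W : X.Opens) : Function.Injective ((belowι C V).app W) :=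
  fun _ _ h => Subtype.ext h

instance (C : X.Modules) (V : X.Opens) : Mono (belowι C V) :=
  (mono_iff_app_injective _).2 belowι_app_injective

@[simp] lemma belowι_app_belowMk (s : Γ(C, W)) (hs : VanishOff C V s) :
    (belowι C V).app W (belowMk s hs) = s := rfl

lemma vanishOff_belowι_app (s : Γ(below C V, W)) : VanishOff C V ((belowι C V).app W s) :=
  Subtype.property (p := fun t : Γ(C, W) => VanishOff C V t) s

lemma vanishOff_below (s : Γ(below C V, W)) : VanishOff (below C V) V s :=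
  VanishOff.of_map (belowι C V) (vanishOff_belowι_app s)

lemma exists_belowLift (φ : T ⟶ C) (h : ∀ W s, VanishOff C V (φ.app W s)) :
    ∃ ψ : T ⟶ below C V, ψ ≫ belowι C V = φ := by
  obtain ⟨ψ, hψ⟩ := exists_hom_of_local (T := T) (F := below C V)
    (fun W s t => (belowι C V).app W t = φ.app W s)
    (fun h s t e => by rw [app_res, app_res, e])
    (fun W s t t' e e' => belowι_app_injective W (e.trans e'.symm))
    (fun W s t e => eq_of_local C _ _ fun x hx => by
      obtain ⟨A, hA, hxA, hh⟩ := e x hx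
      exact ⟨A, hA, hxA, by rw [← app_res, ← app_res, hh]⟩)
    (fun W s x hx => ⟨W, le_rfl, belowMk (φ.app W s) (h W s), hx, by simp⟩)
    (fun W s s' t t' e e' => by simp [e, e'])
    (fun W r s t e => by simp [e])
  exact ⟨ψ, hom_ext_app hψ⟩

/-- Lift of a morphism whose values vanish off `V`. -/
noncomputable def belowLift (φ : T ⟶ C) (h : ∀ W s, VanishOff C V (φ.app W s)) : T ⟶ below C V :=
  (exists_belowLift φ h).choose

@[simp] lemma belowLift_ι (φ : T ⟶ C) (h : ∀ W s, VanishOff C V (φ.app W s)) :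
    belowLift φ h ≫ belowι C V = φ :=
  (exists_belowLift φ h).choose_spec

/-- Functoriality of `below` in the module. -/
noncomputable def belowMap (φ : C ⟶ D) (V : X.Opens) : below C V ⟶ below D V :=
  belowLift (belowι C V ≫ φ) fun _ s => (vanishOff_belowι_app s).map φ

@[simp] lemma belowMap_ι (φ : C ⟶ D) (V : X.Opens) :
    belowMap φ V ≫ belowι D V = belowι C V ≫ φ := belowLift_ι _ _

/-- Monotonicity of `below` in the open. -/
noncomputable def belowIncl (C : X.Modules) (h : V ≤ V') : below C V ⟶ below C V' :=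
  belowLift (belowι C V) fun _ s => (vanishOff_belowι_app s).mono h

@[simp] lemma belowIncl_ι (h : V ≤ V') : belowIncl C h ≫ belowι C V' = belowι C V := belowLift_ι _ _

lemma belowIncl_app_belowMk (h : V ≤ V') (s : Γ(C, W)) (hs : VanishOff C V s) :
    (belowIncl C h).app W (belowMk s hs) = belowMk s (hs.mono h) :=
  belowι_app_injective W (congr(($(belowIncl_ι (C := C) h)).app W (belowMk s hs)))

/-- Morphisms from a module all of whose sections vanish off `V` are determined on opens inside `V`. -/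
lemma hom_ext_vanishOff (hT : ∀ W (s : Γ(T, W)), VanishOff T V s) {φ ψ : T ⟶ F}
    (h : ∀ W, W ≤ V → ∀ s, φ.app W s = ψ.app W s) : φ = ψ := by
  refine hom_ext_app fun W s => eq_of_local F _ _ fun x hx => ?_
  by_cases hxV : x ∈ V
  · exact ⟨W ⊓ V, inf_le_left, ⟨hx, hxV⟩, by rw [← app_res, ← app_res, h _ inf_le_right]⟩
  · obtain ⟨A, hA, hxA, h0⟩ := hT W s x hx hxV
    exact ⟨A, hA, hxA, by rw [← app_res, ← app_res, h0, map_zero, map_zero]⟩

/-- Morphisms out of `below C V` are determined on sections over opens inside `V`. -/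
lemma below_hom_ext {φ ψ : below C V ⟶ F}
    (h : ∀ W (hW : W ≤ V) (s : Γ(C, W)),
      φ.app W (belowMk s (.of_le hW s)) = ψ.app W (belowMk s (.of_le hW s))) : φ = ψ :=
  hom_ext_vanishOff (fun _ => vanishOff_below) fun W hW s => h W hW ((belowι C V).app W s)

/-- A morphism `C|_V ⟶ F|_V`, given on sections over opens inside `V`. -/
structure HomOn (C F : X.Modules) (V : X.Opens) where
  /-- the map on sections over an open inside `V` -/
  app : ∀ W, W ≤ V → (Γ(C, W) →+ Γ(F, W))
  map_smul : ∀ W (h : W ≤ V) (r : Γ(X, W)) (s : Γ(C, W)), app W h (r • s) = r • app W h s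
  res_app : ∀ {W' W} (h' : W' ≤ W) (h : W ≤ V) (s : Γ(C, W)),
    app W' (h'.trans h) (Groth.CohTwo.res C h' s) = Groth.CohTwo.res F h' (app W h s)

/-- The morphism on `V` underlying a morphism out of `below C V`. -/
noncomputable def homOnOfBelow (g : below C V ⟶ F) : HomOn C F V where
  app W hW := AddMonoidHom.mk' (fun s => g.app W (belowMk s (.of_le hW s))) fun s t => by
    rw [← map_add]
    rfl
  map_smul W hW r s := by
    change g.app W (belowMk (r • s) _) = r • g.app W (belowMk s _)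
    rw [← Scheme.Modules.Hom.app_smul]
    rfl
  res_app h' h s := by
    change g.app _ (belowMk _ _) = Groth.CohTwo.res F h' (g.app _ (belowMk s _))
    rw [← app_res]
    rfl

/-- A morphism restricted to an open. -/
noncomputable def homOnOfHom (g : C ⟶ F) (V : X.Opens) : HomOn C F V where
  app W _ := (g.app W).hom
  map_smul W _ r s := g.app_smul r s
  res_app h' _ s := app_res g h' s

/-- Compatible morphisms on a family of opens glue to a morphism out of `below`. -/
theorem exists_glueHom {ι : Type u} (Vf : ι → X.Opens) (V : X.Opens) (hle : ∀ i, Vf i ≤ V)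
    (hcov : ∀ x ∈ V, ∃ i, x ∈ Vf i) (g : ∀ i, HomOn C F (Vf i))
    (hc : ∀ i j W (hi : W ≤ Vf i) (hj : W ≤ Vf j) (s : Γ(C, W)),
      (g i).app W hi s = (g j).app W hj s) :
    ∃ G : below C V ⟶ F, ∀ i W (hW : W ≤ Vf i) (s : Γ(C, W)),
      G.app W (belowMk s (.of_le (hW.trans (hle i)) s)) = (g i).app W hW s := by
  refine (exists_hom_of_local (T := below C V) (F := F)
    (fun W s t => (∀ i A (hA : A ≤ W) (hi : A ≤ Vf i),
      res F hA t = (g i).app A hi (res C hA ((belowι C V).app W s))) ∧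
      ∀ x ∈ W, x ∉ V → ∃ (A : X.Opens) (hA : A ≤ W), x ∈ A ∧ res F hA t = 0)
    ?_ ?_ ?_ ?_ ?_ ?_).elim fun G hG => ⟨G, fun i W hW s => ?_⟩
  rotate_right
  · have := (hG W (belowMk s (.of_le (hW.trans (hle i)) s))).1 i W le_rfl hW
    simpa using this
  · intro W' W h s t hst
    refine ⟨fun i A hA hi => ?_, fun x hx hxV => ?_⟩
    · rw [res_res, app_res, res_res]
      exact hst.1 i A _ hi
    · obtain ⟨A, hA, hxA, h0⟩ := hst.2 x (h hx) hxV
      refine ⟨A ⊓ W', inf_le_right, ⟨hxA, hx⟩, ?_⟩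
      rw [res_res, ← res_res F inf_le_left hA, h0, map_zero]
  · intro W s t t' ht ht'
    refine eq_of_local F _ _ fun x hx => ?_
    by_cases hxV : x ∈ V
    · obtain ⟨i, hi⟩ := hcov x hxV
      exact ⟨W ⊓ Vf i, inf_le_left, ⟨hx, hi⟩,
        (ht.1 i _ _ inf_le_right).trans (ht'.1 i _ _ inf_le_right).symm⟩
    · obtain ⟨A, hA, hxA, h0⟩ := ht.2 x hx hxV
      obtain ⟨B, hB, hxB, h1⟩ := ht'.2 x hx hxV
      refine ⟨A ⊓ B, inf_le_left.trans hA, ⟨hxA, hxB⟩, ?_⟩
      rw [← res_res F inf_le_left hA, h0, map_zero, ← res_res F (inf_le_right : A ⊓ B ≤ B) hB, h1,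
        map_zero]
  · intro W s t h
    refine ⟨fun i A hA hi => eq_of_local F _ _ fun x hx => ?_, fun x hx hxV => ?_⟩
    · obtain ⟨B, hB, hxB, hR, -⟩ := h x (hA hx)
      refine ⟨B ⊓ A, inf_le_right, ⟨hxB, hx⟩, ?_⟩
      have e := hR i (B ⊓ A) inf_le_left (inf_le_right.trans hi)
      rw [res_res, app_res, res_res] at e
      rw [res_res, e, ← (g i).res_app inf_le_right hi, res_res]
    · obtain ⟨B, hB, hxB, -, h0⟩ := h x hx
      obtain ⟨A, hA, hxA, h1⟩ := h0 x hxB hxV
      exact ⟨A, hA.trans hB, hxA, by simpa using h1⟩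
  · intro W s x hx
    by_cases hxV : x ∈ V
    · obtain ⟨i, hi⟩ := hcov x hxV
      refine ⟨W ⊓ Vf i, inf_le_left,
        (g i).app _ inf_le_right (res C inf_le_left ((belowι C V).app W s)), ⟨hx, hi⟩,
        fun j A hA hj => ?_, fun y hy hyV => absurd (hle i hy.2) hyV⟩
      rw [← (g i).res_app hA inf_le_right, app_res, res_res, hc i j A (hA.trans inf_le_right) hj]
    · obtain ⟨A, hA, hxA, h0⟩ := vanishOff_belowι_app s x hx hxV
      refine ⟨A, hA, 0, hxA, fun j B hB hj => ?_, fun y hy _ => ⟨A, le_rfl, hy, map_zero _⟩⟩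
      rw [app_res, h0, map_zero, map_zero, map_zero]
  · intro W s s' t t' ht ht'
    refine ⟨fun i A hA hi => ?_, fun x hx hxV => ?_⟩
    · simp [ht.1 i A hA hi, ht'.1 i A hA hi]
    · exact VanishOff.add (fun x hx hxV => ht.2 x hx hxV) (fun x hx hxV => ht'.2 x hx hxV) x hx hxV
  · intro W r s t ht
    refine ⟨fun i A hA hi => ?_, fun x hx hxV => ?_⟩
    · simp [res_smul, ht.1 i A hA hi, (g i).map_smul]
    · exact VanishOff.smul r (fun x hx hxV => ht.2 x hx hxV) x hx hxV

end Groth.CohTwo
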