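import Groth.Agent.CohTwo.Stalk
import Groth.Agent.CohTwo.Below
import Mathlib.Topology.Sheaves.Skyscraper
import Mathlib.LinearAlgebra.DFinsupp

/-!
Stalks commute with colimits of modules; coproducts and extensions by zero are stalkwise flat.
-/

universe u

open CategoryTheory CategoryTheory.Limits AlgebraicGeometry TopologicalSpace Opposite

namespace Groth.CohTwo

variable {X : Scheme.{u}}

instance preservesColimitsOfShape_toSheaf (J : Type u) [SmallCategory J] :
    PreservesColimitsOfShape J (SheafOfModules.toSheaf.{u} X.ringCatSheaf) where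
  preservesColimit {K} := by
    let α : X.ringCatSheaf.obj ⟶ X.ringCatSheaf.obj := 𝟙 _
    let R := SheafOfModules.forget.{u} X.ringCatSheaf ⋙ PresheafOfModules.restrictScalars α
    let S := PresheafOfModules.sheafification.{u} α
    let e : (K ⋙ R) ⋙ S ≅ K :=
      (Functor.associator K R S) ≪≫
        Functor.isoWhiskerLeft K (asIso (PresheafOfModules.sheafificationAdjunction α).counit) ≪≫
        K.rightUnitor
    haveI : PreservesColimit ((K ⋙ R) ⋙ S) (SheafOfModules.toSheaf.{u} X.ringCatSheaf) :=
      preservesColimit_of_preserves_colimit_cocone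
        (isColimitOfPreserves S (colimit.isColimit (K ⋙ R)))
        (isColimitOfPreserves
          (PresheafOfModules.toPresheaf.{u} X.ringCatSheaf.obj ⋙
            presheafToSheaf (Opens.grothendieckTopology X) AddCommGrpCat.{u})
          (colimit.isColimit (K ⋙ R)))
    exact preservesColimit_of_iso_diagram _ e

/-- The stalk as a functor to abelian groups. -/
noncomputable def stalkAb (X : Scheme.{u}) (x : X) : X.Modules ⥤ AddCommGrpCat.{u} :=
  SheafOfModules.toSheaf.{u} X.ringCatSheaf ⋙
    TopCat.Sheaf.forget AddCommGrpCat.{u} X.toPresheafedSpace ⋙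
      TopCat.Presheaf.stalkFunctor AddCommGrpCat.{u} x

instance (J : Type u) [SmallCategory J] (x : X) : PreservesColimitsOfShape J (stalkAb X x) := by
  classical
  haveI h2 : PreservesColimitsOfShape J (TopCat.Sheaf.forget AddCommGrpCat.{u} X.toPresheafedSpace ⋙
      TopCat.Presheaf.stalkFunctor AddCommGrpCat.{u} x) :=
    ((stalkSkyscraperSheafAdjunction (C := AddCommGrpCat.{u}) x).leftAdjoint_preservesColimits.{u, u}).preservesColimitsOfShape
  exact @comp_preservesColimitsOfShape _ _ _ _ _ _ _ _ (SheafOfModules.toSheaf.{u} X.ringCatSheaf)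
    (TopCat.Sheaf.forget AddCommGrpCat.{u} X.toPresheafedSpace ⋙
      TopCat.Presheaf.stalkFunctor AddCommGrpCat.{u} x) (preservesColimitsOfShape_toSheaf J) h2

/-- The map on stalks, as a linear map. -/
noncomputable def stalkLin {M N : X.Modules} (φ : M ⟶ N) (x : X) :
    M.presheaf.stalk x →ₗ[X.presheaf.stalk x] N.presheaf.stalk x where
  toFun := (stalkAb X x).map φ
  map_add' a b := map_add ((stalkAb X x).map φ).hom a b
  map_smul' r m := by
    obtain ⟨U, hU, s, rfl⟩ := stalk_exists_germ M x m
    obtain ⟨V, hV, a, rfl⟩ := TopCat.Presheaf.exists_germ_eq X.presheaf r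
    rw [← stalk_germ_res M x (inf_le_left : U ⊓ V ≤ U) ⟨hU, hV⟩ s,
      ← TopCat.Presheaf.germ_res_apply X.presheaf (homOfLE (inf_le_right : U ⊓ V ≤ V)) x ⟨hU, hV⟩ a,
      RingHom.id_apply]
    have key : ∀ t : Γ(M, U ⊓ V), (stalkAb X x).map φ (M.presheaf.germ (U ⊓ V) x ⟨hU, hV⟩ t) =
        N.presheaf.germ (U ⊓ V) x ⟨hU, hV⟩ (φ.app (U ⊓ V) t) := fun t =>
      TopCat.Presheaf.stalkFunctor_map_germ_apply (F := M.presheaf) (G := N.presheaf) _ x _
        φ.mapPresheaf t
    refine (congrArg ((stalkAb X x).map φ) (stalk_germ_smul M x (U := U ⊓ V) ⟨hU, hV⟩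
      (resR X inf_le_right a) (res M inf_le_left s)).symm).trans ?_
    rw [key, key, φ.app_smul]
    exact stalk_germ_smul N x _ _ _

lemma stalkLin_germ {M N : X.Modules} (φ : M ⟶ N) (x : X) {U : X.Opens} (hx : x ∈ U) (s : Γ(M, U)) :
    stalkLin φ x (M.presheaf.germ U x hx s) = N.presheaf.germ U x hx (φ.app U s) :=
  TopCat.Presheaf.stalkFunctor_map_germ_apply (F := M.presheaf) (G := N.presheaf) _ x hx
    φ.mapPresheaf s

lemma stalkLin_comp {M N P : X.Modules} (φ : M ⟶ N) (ψ : N ⟶ P) (x : X) (m : M.presheaf.stalk x) :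
    stalkLin (φ ≫ ψ) x m = stalkLin ψ x (stalkLin φ x m) :=
  congr($((stalkAb X x).map_comp φ ψ) m)

lemma stalkLin_id (M : X.Modules) (x : X) (m : M.presheaf.stalk x) : stalkLin (𝟙 M) x m = m :=
  congr($((stalkAb X x).map_id M) m)

lemma stalkLin_zero {M N : X.Modules} (x : X) (m : M.presheaf.stalk x) :
    stalkLin (0 : M ⟶ N) x m = 0 := by
  obtain ⟨U, hU, s, rfl⟩ := stalk_exists_germ M x m
  rw [stalkLin_germ]
  exact map_zero _

/-- A coproduct of stalkwise flat modules is stalkwise flat. -/
theorem isFlat_sigma {ι : Type u} (M : ι → X.Modules) (h : ∀ i, FlatMod.IsFlat (M i)) :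
    FlatMod.IsFlat (∐ M) := by
  classical
  intro x
  let Φ : (Π₀ i, (M i).presheaf.stalk x) →ₗ[X.presheaf.stalk x] (∐ M).presheaf.stalk x :=
    DFinsupp.lsum ℕ fun i => stalkLin (Sigma.ι M i) x
  have hΦ : ∀ i m, Φ (DFinsupp.single i m) = stalkLin (Sigma.ι M i) x m := fun i m => by
    simp [Φ]
  have hinj : Function.Injective Φ := by
    refine fun a b hab => DFinsupp.ext fun i => ?_
    let p : ∐ M ⟶ M i := Sigma.desc fun j => if hj : j = i then eqToHom (hj ▸ rfl) else 0
    have hp : (stalkLin p x).comp Φ = DFinsupp.lapply i := by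
      refine DFinsupp.lhom_ext fun j m => ?_
      rw [LinearMap.comp_apply, hΦ, ← stalkLin_comp, Sigma.ι_desc, DFinsupp.lapply_apply,
        DFinsupp.single_apply]
      split_ifs with hj
      · subst hj
        rw [eqToHom_refl, stalkLin_id]
      · rw [stalkLin_zero]
    exact (LinearMap.congr_fun hp a).symm.trans
      ((congrArg (stalkLin p x) hab).trans (LinearMap.congr_fun hp b))
  have hsurj : Function.Surjective Φ := by
    rw [← LinearMap.range_eq_top, ← Submodule.toAddSubgroup_inj, Submodule.top_toAddSubgroup]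
    set H := (LinearMap.range Φ).toAddSubgroup with hH
    let q : (stalkAb X x).obj (∐ M) ⟶ AddCommGrpCat.of ((∐ M).presheaf.stalk x ⧸ H) :=
      AddCommGrpCat.ofHom (QuotientAddGroup.mk' H)
    have hq : q = 0 :=
      (isColimitOfPreserves (stalkAb X x) (coproductIsCoproduct M)).hom_ext fun ⟨i⟩ => by
        ext m
        refine (QuotientAddGroup.eq_zero_iff _).2 ?_
        exact ⟨DFinsupp.single i m, hΦ i m⟩
    exact eq_top_iff.2 fun t _ => (QuotientAddGroup.eq_zero_iff t).1 congr($hq t)
  haveI : ∀ i, Module.Flat (X.presheaf.stalk x) ((M i).presheaf.stalk x) := fun i => h i x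
  haveI : Module.Flat (X.presheaf.stalk x) (Π₀ i, (M i).presheaf.stalk x) :=
    Module.Flat.dfinsupp
  exact Module.Flat.of_linearEquiv (LinearEquiv.ofBijective Φ ⟨hinj, hsurj⟩).symm

/-- The stalk of `below C V` at a point of `V` is that of `C`. -/
lemma bijective_stalkLin_belowι (C : X.Modules) {V : X.Opens} {x : X} (hx : x ∈ V) :
    Function.Bijective (stalkLin (belowι C V) x) := by
  constructor
  · rw [injective_iff_map_eq_zero]
    intro m hm
    obtain ⟨U, hU, s, rfl⟩ := stalk_exists_germ _ x m
    rw [stalkLin_germ, ← map_zero (C.presheaf.germ U x hU).hom] at hm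
    obtain ⟨W, hxW, iU, iU', he⟩ := TopCat.Presheaf.germ_eq C.presheaf x hU hU _ _ hm
    rw [← stalk_germ_res _ x (leOfHom iU) hxW s]
    have : res (below C V) (leOfHom iU) s = 0 := belowι_app_injective W (by
      rw [app_res, map_zero]
      exact he.trans (map_zero _))
    rw [this, map_zero]
  · intro m
    obtain ⟨U, hU, s, rfl⟩ := stalk_exists_germ _ x m
    have hxUV : x ∈ U ⊓ V := ⟨hU, hx⟩
    refine ⟨(below C V).presheaf.germ (U ⊓ V) x hxUV
      (belowMk (res C inf_le_left s) (.of_le inf_le_right _)), ?_⟩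
    exact (stalkLin_germ _ _ _ _).trans (stalk_germ_res C x inf_le_left hxUV s)

/-- The stalk of `below C V` outside `V` is zero. -/
lemma subsingleton_stalk_below (C : X.Modules) {V : X.Opens} {x : X} (hx : x ∉ V) :
    Subsingleton ((below C V).presheaf.stalk x) := by
  refine subsingleton_of_forall_eq 0 fun m => ?_
  obtain ⟨U, hU, s, rfl⟩ := stalk_exists_germ _ x m
  obtain ⟨A, hA, hxA, h0⟩ := vanishOff_below s x hU hx
  rw [← stalk_germ_res _ x hA hxA s, h0, map_zero]

/-- Flatness passes along isomorphisms. -/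
theorem isFlat_of_iso {M N : X.Modules} (e : M ≅ N) (h : FlatMod.IsFlat N) : FlatMod.IsFlat M := by
  intro x
  haveI : Module.Flat (X.presheaf.stalk x) (N.presheaf.stalk x) := h x
  have hb : Function.Bijective (stalkLin e.hom x) := by
    refine Function.bijective_iff_has_inverse.2 ⟨stalkLin e.inv x, fun m => ?_, fun m => ?_⟩ <;>
      rw [← stalkLin_comp]
    · rw [e.hom_inv_id, stalkLin_id]
    · rw [e.inv_hom_id, stalkLin_id]
  exact Module.Flat.of_linearEquiv (LinearEquiv.ofBijective _ hb)

/-- The stalk of the structure module is free on the germ of `1`. -/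
lemma bijective_toSpanSingleton_one (x : X) :
    Function.Bijective (LinearMap.toSpanSingleton (X.presheaf.stalk x)
      ((Coh.structureModule X).presheaf.stalk x)
      ((Coh.structureModule X).presheaf.germ ⊤ x trivial
        (show Γ(Coh.structureModule X, ⊤) from (1 : Γ(X, ⊤))))) := by
  have key : ∀ (U : X.Opens) (hU : x ∈ U) (a : Γ(X, U)),
      X.presheaf.germ U x hU a • (Coh.structureModule X).presheaf.germ ⊤ x trivial
          (show Γ(Coh.structureModule X, ⊤) from (1 : Γ(X, ⊤))) =
        (Coh.structureModule X).presheaf.germ U x hU (show Γ(Coh.structureModule X, U) from a) := by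
    intro U hU a
    rw [← stalk_germ_res (Coh.structureModule X) x (le_top : U ≤ ⊤) hU, ← stalk_germ_smul]
    congr 1
    change a * resR X le_top 1 = a
    rw [map_one]
    exact mul_one (show Γ(X, U) from a)
  constructor
  · rw [injective_iff_map_eq_zero]
    intro r hr
    obtain ⟨U, hU, a, rfl⟩ := TopCat.Presheaf.exists_germ_eq X.presheaf r
    rw [LinearMap.toSpanSingleton_apply, key,
      ← map_zero ((Coh.structureModule X).presheaf.germ U x hU).hom] at hr
    obtain ⟨W, hW, i, i', he⟩ :=
      TopCat.Presheaf.germ_eq (Coh.structureModule X).presheaf x hU hU _ _ hr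
    rw [← TopCat.Presheaf.germ_res_apply X.presheaf i x hW a]
    refine (congrArg (X.presheaf.germ W x hW) ?_).trans (map_zero _)
    exact he.trans (map_zero _)
  · intro m
    obtain ⟨U, hU, a, rfl⟩ := stalk_exists_germ _ x m
    exact ⟨X.presheaf.germ U x hU (show Γ(X, U) from a), key U hU a⟩

/-- `below O_X V` is stalkwise flat. -/
theorem isFlat_below_structureModule (V : X.Opens) :
    FlatMod.IsFlat (below (Coh.structureModule X) V) := by
  intro x
  by_cases hx : x ∈ V
  · haveI : Module.Flat (X.presheaf.stalk x) ((Coh.structureModule X).presheaf.stalk x) :=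
      Module.Flat.of_linearEquiv
        (LinearEquiv.ofBijective _ (bijective_toSpanSingleton_one x)).symm
    exact Module.Flat.of_linearEquiv
      (LinearEquiv.ofBijective _ (bijective_stalkLin_belowι (Coh.structureModule X) hx))
  · haveI := subsingleton_stalk_below (Coh.structureModule X) hx
    exact inferInstanceAs (Module.Flat _ _)

end Groth.CohTwo
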