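import Groth.Agent.CohTwo.Below

/-!
`below` and restriction along an open immersion: extension of morphisms from an open by zero,
restriction preserves injective modules.
-/

universe u

open CategoryTheory CategoryTheory.Limits AlgebraicGeometry TopologicalSpace Opposite

namespace Groth.CohTwo

variable {U X : Scheme.{u}} (j : U ⟶ X) [IsOpenImmersion j] {C D F : X.Modules}

lemma image_preimage_of_le {W : X.Opens} (h : W ≤ j.opensRange) : j ''ᵁ (j ⁻¹ᵁ W) = W := by
  rw [Scheme.Hom.image_preimage_eq_opensRange_inf, inf_eq_right.2 h]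

lemma restrictMap_app (φ : C ⟶ F) (W : U.Opens) (s : Γ(C, j ''ᵁ W)) :
    ((Scheme.Modules.restrictFunctor j).map φ).app W s = φ.app (j ''ᵁ W) s := rfl

/-- The components of a morphism on the open subscheme, as maps of sections over images. -/
noncomputable def imgApp (g : C.restrict j ⟶ F.restrict j) (W : U.Opens) :
    Γ(C, j ''ᵁ W) →+ Γ(F, j ''ᵁ W) :=
  (g.app W).hom

lemma imgApp_smul (g : C.restrict j ⟶ F.restrict j) (W : U.Opens) (r : Γ(X, j ''ᵁ W))
    (s : Γ(C, j ''ᵁ W)) : imgApp j g W (r • s) = r • imgApp j g W s := by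
  have h : ∀ (r' : Γ(U, W)) (s : Γ(C, j ''ᵁ W)), imgApp j g W ((j.appIso W).inv r' • s) =
      (j.appIso W).inv r' • imgApp j g W s := fun r' s => g.app_smul r' s
  have := h ((j.appIso W).hom r) s
  rwa [CategoryTheory.Iso.hom_inv_id_apply] at this

lemma imgApp_res (g : C.restrict j ⟶ F.restrict j) {W' W : U.Opens} (h : W' ≤ W)
    (h' : j ''ᵁ W' ≤ j ''ᵁ W) (s : Γ(C, j ''ᵁ W)) :
    imgApp j g W' (res C h' s) = res F h' (imgApp j g W s) := app_res g h s

lemma resR_self {W : X.Opens} (h : W ≤ W) (r : Γ(X, W)) : resR X h r = r :=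
  congr($(X.presheaf.map_id (op W)).hom r)

lemma resR_resR {A B D : X.Opens} (h : A ≤ B) (h' : B ≤ D) (r : Γ(X, D)) :
    resR X h (resR X h' r) = resR X (h.trans h') r := by
  simp only [resR]
  rw [← ConcreteCategory.comp_apply, ← Functor.map_comp]
  rfl

/-- A morphism on the open subscheme as a `HomOn`. -/
noncomputable def homOnOfRestrict (g : C.restrict j ⟶ F.restrict j) :
    HomOn C F j.opensRange where
  app W h := (res F (image_preimage_of_le j h).ge).comp
    ((imgApp j g (j ⁻¹ᵁ W)).comp (res C (image_preimage_of_le j h).le))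
  map_smul W h r s := by
    simp only [AddMonoidHom.comp_apply, res_smul, imgApp_smul, resR_resR, resR_self]
  res_app {W' W} h' h s := by
    simp only [AddMonoidHom.comp_apply, res_res]
    have hle : j ⁻¹ᵁ W' ≤ j ⁻¹ᵁ W := fun x hx => h' hx
    rw [← res_res C (Scheme.Hom.image_mono j hle) (image_preimage_of_le j h).le s,
      imgApp_res j g hle, res_res]

lemma homOnOfRestrict_app_image (g : C.restrict j ⟶ F.restrict j) (W : U.Opens)
    (h : j ''ᵁ W ≤ j.opensRange) (s : Γ(C, j ''ᵁ W)) :
    (homOnOfRestrict j g).app (j ''ᵁ W) h s = imgApp j g W s := by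
  change res F _ (imgApp j g (j ⁻¹ᵁ (j ''ᵁ W)) (res C _ s)) = _
  rw [imgApp_res j g (j.preimage_image_eq W).le, res_res, res_rfl]

theorem exists_extend (g : C.restrict j ⟶ F.restrict j) :
    ∃ G : below C j.opensRange ⟶ F, (Scheme.Modules.restrictFunctor j).map G =
      (Scheme.Modules.restrictFunctor j).map (belowι C j.opensRange) ≫ g := by
  obtain ⟨G, hG⟩ := exists_glueHom (ι := PUnit.{u + 1}) (fun _ => j.opensRange) j.opensRange
    (fun _ => le_rfl) (fun x hx => ⟨⟨⟩, hx⟩) (fun _ => homOnOfRestrict j g)
    (fun _ _ _ _ _ _ => rfl)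
  refine ⟨G, hom_ext_app fun W s => ?_⟩
  change G.app (j ''ᵁ W) s = g.app W _
  have := hG ⟨⟩ (j ''ᵁ W) (Scheme.Hom.image_le_opensRange j W)
    ((belowι C j.opensRange).app (j ''ᵁ W) s)
  rw [homOnOfRestrict_app_image] at this
  exact this

/-- Extension by zero of a morphism defined on the open subscheme. -/
noncomputable def extend (g : C.restrict j ⟶ F.restrict j) : below C j.opensRange ⟶ F :=
  (exists_extend j g).choose

lemma restrict_extend (g : C.restrict j ⟶ F.restrict j) :
    (Scheme.Modules.restrictFunctor j).map (extend j g) =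
      (Scheme.Modules.restrictFunctor j).map (belowι C j.opensRange) ≫ g :=
  (exists_extend j g).choose_spec

/-- Morphisms agreeing on the open subscheme agree on every open inside it. -/
lemma app_eq_of_restrictMap_eq {φ ψ : C ⟶ F}
    (h : (Scheme.Modules.restrictFunctor j).map φ = (Scheme.Modules.restrictFunctor j).map ψ)
    {W : X.Opens} (hW : W ≤ j.opensRange) (s : Γ(C, W)) : φ.app W s = ψ.app W s := by
  obtain ⟨W', rfl⟩ : ∃ W' : U.Opens, j ''ᵁ W' = W := ⟨_, image_preimage_of_le j hW⟩
  exact congr(($h).app W' s)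

lemma below_hom_ext_restrict {V : X.Opens} (hV : V ≤ j.opensRange) {φ ψ : below C V ⟶ F}
    (h : (Scheme.Modules.restrictFunctor j).map φ = (Scheme.Modules.restrictFunctor j).map ψ) :
    φ = ψ :=
  below_hom_ext fun _ hW _ => app_eq_of_restrictMap_eq j h (hW.trans hV) _

/-- Restricting the inclusion `below C V ⟶ C` to an open inside `V` gives an isomorphism. -/
lemma isIso_restrictMap_belowι {V : X.Opens} (hV : j.opensRange ≤ V) :
    IsIso ((Scheme.Modules.restrictFunctor j).map (belowι C V)) :=
  isIso_of_app_bijective _ fun W => ⟨belowι_app_injective (j ''ᵁ W),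
    fun s => ⟨belowMk s (.of_le ((Scheme.Hom.image_le_opensRange j W).trans hV) s), rfl⟩⟩

lemma mono_restrictMap (φ : C ⟶ D) [Mono φ] :
    Mono ((Scheme.Modules.restrictFunctor j).map φ) :=
  (mono_iff_app_injective _).2 fun W => app_injective φ (j ''ᵁ W)

/-- Restriction along an open immersion preserves injective modules. -/
theorem injective_restrict (I : X.Modules) [Injective I] : Injective (I.restrict j) := by
  refine ⟨fun {A B} g f hf => ?_⟩
  let cA := (Scheme.Modules.restrictAdjunction j).counit.app A
  let cB := (Scheme.Modules.restrictAdjunction j).counit.app B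
  let P := (Scheme.Modules.pushforward j).obj A
  let e : below P j.opensRange ⟶ I := extend j (cA ≫ g)
  have : Mono ((Scheme.Modules.pushforward j).map f) := Functor.map_mono _ f
  let h : (Scheme.Modules.pushforward j).obj B ⟶ I :=
    Injective.factorThru e (belowι P j.opensRange ≫ (Scheme.Modules.pushforward j).map f)
  refine ⟨inv cB ≫ (Scheme.Modules.restrictFunctor j).map h, ?_⟩
  have hiso := isIso_restrictMap_belowι (C := P) j (le_refl j.opensRange)
  have key : (Scheme.Modules.restrictFunctor j).map ((Scheme.Modules.pushforward j).map f) ≫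
      (Scheme.Modules.restrictFunctor j).map h = cA ≫ g := by
    rw [← cancel_epi ((Scheme.Modules.restrictFunctor j).map (belowι P j.opensRange))]
    refine Eq.trans ?_ (restrict_extend j (cA ≫ g))
    rw [← Functor.map_comp, ← Functor.map_comp]
    congr 1
    rw [← Category.assoc]
    exact Injective.comp_factorThru _ _
  rw [← cancel_epi cA, ← key]
  have nat : (Scheme.Modules.restrictFunctor j).map ((Scheme.Modules.pushforward j).map f) ≫ cB =
      cA ≫ f := (Scheme.Modules.restrictAdjunction j).counit.naturality f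
  rw [← reassoc_of% nat, IsIso.hom_inv_id_assoc]

end Groth.CohTwo
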