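import Groth.Agent.CohTwo.Glue
import Groth.Prelude.Def_FlatMod2

/-!
Stalks of modules on schemes: germs are semilinear.
-/

universe u

open CategoryTheory CategoryTheory.Limits AlgebraicGeometry TopologicalSpace Opposite

namespace Groth.CohTwo

variable {X : Scheme.{u}}

lemma stalk_germ_smul (M : X.Modules) (x : X) {U : X.Opens} (hx : x ∈ U) (r : Γ(X, U))
    (m : Γ(M, U)) :
    M.presheaf.germ U x hx (r • m) = X.presheaf.germ U x hx r • M.presheaf.germ U x hx m :=
  PresheafOfModules.germ_smul (R := X.presheaf)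
    (show PresheafOfModules (X.presheaf ⋙ forget₂ CommRingCat RingCat) from M.val) x U hx r m

lemma stalk_germ_res (M : X.Modules) (x : X) {U V : X.Opens} (h : V ≤ U) (hx : x ∈ V) (m : Γ(M, U)) :
    M.presheaf.germ V x hx (res M h m) = M.presheaf.germ U x (h hx) m :=
  TopCat.Presheaf.germ_res_apply M.presheaf (homOfLE h) x hx m

lemma stalk_exists_germ (M : X.Modules) (x : X) (t : M.presheaf.stalk x) :
    ∃ (U : X.Opens) (hx : x ∈ U) (m : Γ(M, U)), M.presheaf.germ U x hx m = t :=
  TopCat.Presheaf.exists_germ_eq M.presheaf t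

end Groth.CohTwo
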