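import Groth.Agent.CohTwo.IdealMul
import Groth.Agent.CohTwo.Glue
import Groth.Agent.CohTwo.Stalk
import Groth.Agent.QCohMod.Coherent
import Mathlib.Algebra.Module.FinitePresentation

/-!
Morphisms of quasi-coherent modules on an affine open from maps of sections, and morphisms near a
point from maps of stalks.
-/

universe u

open CategoryTheory CategoryTheory.Limits AlgebraicGeometry TopologicalSpace Opposite

namespace Groth.CohTwo

open Groth.QCohMod hiding res res_res res_smul

variable {X : Scheme.{u}}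

/-- A morphism `G|_V ⟶ F|_V` on sections of `X` over an open inside `V`. -/
noncomputable def appOn {G F : X.Modules} {V : X.Opens} (φ : G.restrict V.ι ⟶ F.restrict V.ι)
    {W : X.Opens} (hW : W ≤ V) (a : Γ(G, W)) : Γ(F, W) :=
  res F (show W ≤ V.ι ''ᵁ (V.ι ⁻¹ᵁ W) by
    rw [Scheme.Hom.image_preimage_eq_opensRange_inf, Scheme.Opens.opensRange_ι]
    exact le_inf hW le_rfl)
    (φ.app (V.ι ⁻¹ᵁ W) (res G (V.ι.image_preimage_le W) a))

lemma appOn_res {G F : X.Modules} {V : X.Opens} (φ : G.restrict V.ι ⟶ F.restrict V.ι)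
    {W' W : X.Opens} (h : W' ≤ W) (hW : W ≤ V) (a : Γ(G, W)) :
    appOn φ (h.trans hW) (res G h a) = res F h (appOn φ hW a) := by
  unfold appOn
  let z : Γ(G.restrict V.ι, V.ι ⁻¹ᵁ W) := res G (V.ι.image_preimage_le W) a
  have h1 := app_res φ (V.ι.preimage_mono h) z
  have h2 : res (G.restrict V.ι) (V.ι.preimage_mono h) z =
      res G (V.ι.image_preimage_le W') (res G h a) := by
    change res G (V.ι.opensFunctor.map (homOfLE (V.ι.preimage_mono h))).le
      (res G (V.ι.image_preimage_le W) a) = _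
    rw [res_res, res_res]
  rw [h2] at h1
  refine (congrArg (res F _) h1).trans ?_
  let w : Γ(F, V.ι ''ᵁ (V.ι ⁻¹ᵁ W)) := φ.app (V.ι ⁻¹ᵁ W) z
  change res F _ (res F (V.ι.opensFunctor.map (homOfLE (V.ι.preimage_mono h))).le w) =
    res F h (res F _ w)
  rw [res_res, res_res]

lemma appOn_smul {G F : X.Modules} {V : X.Opens} (φ : G.restrict V.ι ⟶ F.restrict V.ι)
    {W : X.Opens} (hW : W ≤ V) (r : Γ(X, W)) (a : Γ(G, W)) :
    appOn φ hW (r • a) = r • appOn φ hW a := by
  unfold appOn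
  rw [res_smul]
  let r' := (V.ι.appIso (V.ι ⁻¹ᵁ W)).hom (resR X (V.ι.image_preimage_le W) r)
  have hr : (V.ι.appIso (V.ι ⁻¹ᵁ W)).inv r' = resR X (V.ι.image_preimage_le W) r :=
    (V.ι.appIso (V.ι ⁻¹ᵁ W)).hom_inv_id_apply _
  rw [← hr]
  have h1 := φ.app_smul r'
    (show Γ(G.restrict V.ι, V.ι ⁻¹ᵁ W) from res G (V.ι.image_preimage_le W) a)
  refine (congrArg (res F _) h1).trans ((res_smul F _ _ _).trans ?_)
  congr 1
  change resR X _ ((V.ι.appIso (V.ι ⁻¹ᵁ W)).inv r') = r
  rw [hr]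
  exact congr($((X.presheaf.map_comp _ _).symm) r).trans (congr($(X.presheaf.map_id _) r))

lemma res_chain (G F : X.Modules) {A B B' O W : X.Opens} (e1 : B' = B) (e2 : O = B')
    (e3 : B' = O) (e4 : B = B') (ψ : Γ(G, O) ⟶ Γ(F, O)) (hW : W ≤ B) (hB : B ≤ A) (a : Γ(G, A)) :
    res F hW (((G.presheaf.map (eqToHom e1).op ≫ G.presheaf.map (eqToHom e2).op) ≫
      ψ ≫ F.presheaf.map (eqToHom e3).op ≫ F.presheaf.map (eqToHom e4).op) (res G hB a)) =
    res F (hW.trans (e4.le.trans e3.le)) (ψ (res G ((e2.le.trans e1.le).trans hB) a)) := by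
  subst e1 e2
  simp only [eqToHom_refl, op_id, CategoryTheory.Functor.map_id, Category.comp_id, Category.id_comp]

/-- A linear map of sections over an affine open extends to a morphism over it. -/
theorem exists_hom_of_sections (G F : X.Modules) [G.IsQuasicoherent] {V : X.Opens}
    (hV : IsAffineOpen V) (g : Γ(G, V) →ₗ[Γ(X, V)] Γ(F, V)) :
    ∃ φ : G.restrict V.ι ⟶ F.restrict V.ι, ∀ a, appOn φ le_rfl a = g a := by
  let eG := topEquiv hV G
  let eF := topEquiv hV F
  haveI : IsIso ((tilde.adjunction (R := Γ(X, V))).counit.app (G.restrict hV.fromSpec)) :=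
    (inferInstance : IsIso (G.restrict hV.fromSpec).fromTildeΓ)
  have heG : ∀ (r : Γ(X, V)) (y : Γ(G.restrict hV.fromSpec, ⊤)), eG (r • y) = r • eG y :=
    fun r y => by
      simp only [eG, topEquiv]
      rw [secEquiv_smul hV G ⊤ _ le_rfl, resFun_self]
  have heF : ∀ (r : Γ(X, V)) (y : Γ(F.restrict hV.fromSpec, ⊤)), eF (r • y) = r • eF y :=
    fun r y => by
      simp only [eF, topEquiv]
      rw [secEquiv_smul hV F ⊤ _ le_rfl, resFun_self]
  let g' : (moduleSpecΓFunctor (R := Γ(X, V))).obj (G.restrict hV.fromSpec) ⟶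
      (moduleSpecΓFunctor (R := Γ(X, V))).obj (F.restrict hV.fromSpec) :=
    ModuleCat.ofHom (X := Γ(G.restrict hV.fromSpec, (⊤ : (Spec Γ(X, V)).Opens)))
      (Y := Γ(F.restrict hV.fromSpec, (⊤ : (Spec Γ(X, V)).Opens)))
      { toFun := fun y => eF.symm (g (eG y))
        map_add' := fun a b => by simp
        map_smul' := fun r y => by
          apply eF.injective
          rw [AddEquiv.apply_symm_apply, RingHom.id_apply]
          refine (congrArg g (heG r y)).trans ((g.map_smul r _).trans ?_)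
          refine Eq.trans ?_ (heF r _).symm
          rw [AddEquiv.apply_symm_apply] }
  obtain ⟨φ', hφ'⟩ := exists_map_eq_of_counit (tilde.adjunction (R := Γ(X, V))) _ g'
  let e := Scheme.Modules.restrictFunctorCongr hV.isoSpec_hom_fromSpec.symm ≪≫
    Scheme.Modules.restrictFunctorComp hV.isoSpec.hom hV.fromSpec
  refine ⟨e.hom.app G ≫ (Scheme.Modules.restrictFunctor hV.isoSpec.hom).map φ' ≫ e.inv.app F,
    fun a => ?_⟩
  let O := hV.isoSpec.hom ''ᵁ (V.ι ⁻¹ᵁ V)
  have hO : O = ⊤ := by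
    simp only [O, Scheme.Opens.ι_preimage_self, Scheme.Hom.image_top_eq_opensRange,
      Scheme.Hom.opensRange_of_isIso]
  have htop : φ'.app ⊤ (eG.symm a) = eF.symm (g a) := by
    refine (congr($hφ' (eG.symm a))).trans ?_
    change eF.symm (g (eG (eG.symm a))) = _
    rw [AddEquiv.apply_symm_apply]
  have hVle : hV.fromSpec ''ᵁ O ≤ V := by
    rw [hO]
    exact (image_top_fromSpec hV).le
  have key : φ'.app O (res G hVle a) =
      res (F.restrict hV.fromSpec) (le_top : O ≤ ⊤) (eF.symm (g a)) := by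
    rw [← htop, ← app_res]
    congr 1
    have ha : eG (eG.symm a) = a := eG.apply_symm_apply a
    conv_lhs => rw [← ha]
    simp only [eG, topEquiv, secEquiv_apply]
    change res G _ (res G _ ((G.restrictAppIso hV.fromSpec ⊤).hom _)) =
      res G (hV.fromSpec.opensFunctor.map (homOfLE (le_top : O ≤ ⊤))).le _
    rw [res_res]
    rfl
  unfold appOn
  simp only [e, Iso.trans_hom, Iso.trans_inv, NatTrans.comp_app, Scheme.Modules.Hom.comp_app,
    Scheme.Modules.restrictFunctorCongr_hom_app_app, Scheme.Modules.restrictFunctorComp_hom_app_app,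
    Scheme.Modules.restrictFunctorCongr_inv_app_app, Scheme.Modules.restrictFunctorComp_inv_app_app]
  let ψ : Γ(G, hV.fromSpec ''ᵁ O) ⟶ Γ(F, hV.fromSpec ''ᵁ O) := φ'.app O
  have hle : V ≤ hV.fromSpec ''ᵁ O := by
    rw [hO]
    exact (image_top_fromSpec hV).ge
  refine (res_chain G F _ _ _ _ ψ _ _ a).trans ?_
  change res F hle (ψ (res G hVle a)) = g a
  refine (congrArg (res F hle) key).trans ?_
  have hg : eF (eF.symm (g a)) = g a := eF.apply_symm_apply (g a)
  refine Eq.trans ?_ hg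
  simp only [eF, topEquiv, secEquiv_apply]
  let w : Γ(F, hV.fromSpec ''ᵁ ⊤) := (topEquiv hV F).symm (g a)
  change res F hle (res F (hV.fromSpec.opensFunctor.map (homOfLE (le_top : O ≤ ⊤))).le w) =
    res F (image_top_fromSpec hV).ge w
  rw [res_res]

lemma appOn_add {G F : X.Modules} {V : X.Opens} (φ : G.restrict V.ι ⟶ F.restrict V.ι)
    {W : X.Opens} (hW : W ≤ V) (a b : Γ(G, W)) :
    appOn φ hW (a + b) = appOn φ hW a + appOn φ hW b := by
  unfold appOn
  rw [map_add]
  exact (congrArg (res F _) (map_add (φ.app _).hom _ _)).trans (map_add _ _ _)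

/-- The stalk map of a morphism over an affine open is determined on sections over that open. -/
theorem germ_appOn_eq {G F : X.Modules} [G.IsQuasicoherent] {V : X.Opens} (hV : IsAffineOpen V)
    (φ : G.restrict V.ι ⟶ F.restrict V.ι) {x : X} (hxV : x ∈ V)
    (σ : ↑(G.presheaf.stalk x) →ₗ[X.presheaf.stalk x] ↑(F.presheaf.stalk x))
    (h : ∀ m : Γ(G, V), F.presheaf.germ V x hxV (appOn φ le_rfl m) =
      σ (G.presheaf.germ V x hxV m))
    {W : X.Opens} (hxW : x ∈ W) (hW : W ≤ V) (a : Γ(G, W)) :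
    F.presheaf.germ W x hxW (appOn φ hW a) = σ (G.presheaf.germ W x hxW a) := by
  obtain ⟨f, hxf, hfW⟩ := exists_basicOpen_mem hV hxV hxW
  obtain ⟨n, m, hm⟩ := exists_pow_smul_eq_res G hV f (res G hfW a)
  rw [← stalk_germ_res F x hfW hxf, ← stalk_germ_res G x hfW hxf, ← appOn_res φ hfW hW]
  let b : Γ(X, X.basicOpen f) := resR X (X.basicOpen_le f) f ^ n
  have hb : IsUnit (X.presheaf.germ _ x hxf b) :=
    ((X.toRingedSpace.isUnit_res_basicOpen f).pow n).map (X.presheaf.germ _ x hxf).hom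
  refine hb.smul_left_cancel.1 ?_
  rw [← stalk_germ_smul, ← appOn_smul, ← σ.map_smul, ← stalk_germ_smul,
    show b • res G hfW a = res G (X.basicOpen_le f) m from hm.symm,
    appOn_res φ (X.basicOpen_le f) le_rfl, stalk_germ_res, stalk_germ_res, h]

/-- A linear map of stalks of coherent modules comes from a morphism near the point. -/
theorem exists_hom_nhd [IsLocallyNoetherian X] (G F : X.Modules) (hG : Coh.IsCoh G)
    [F.IsQuasicoherent] (x : X)
    (ψ : ↑(G.presheaf.stalk x) →ₗ[X.presheaf.stalk x] ↑(F.presheaf.stalk x)) :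
    ∃ (U : X.Opens) (_ : x ∈ U) (φ : G.restrict U.ι ⟶ F.restrict U.ι),
      ∀ (W : X.Opens) (hxW : x ∈ W) (hW : W ≤ U) (a : Γ(G, W)),
        F.presheaf.germ W x hxW (appOn φ hW a) = ψ (G.presheaf.germ W x hxW a) := by
  haveI := hG.1
  obtain ⟨V, hV, hxV⟩ := exists_affine_mem x
  haveI := finite_sections G hG.2 hV
  haveI := IsLocallyNoetherian.component_noetherian (X := X) ⟨V, hV⟩
  haveI := Module.finitePresentation_of_finite Γ(X, V) Γ(G, V)
  let _ := stalkModule F x hxV
  let _ := stalkModule G x hxV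
  haveI := isLocalizedModule_germ F hV x hxV
  let ψ' : Γ(G, V) →ₗ[Γ(X, V)] F.presheaf.stalk x :=
    { toFun := fun a => ψ (G.presheaf.germ V x hxV a)
      map_add' := fun a b => by rw [map_add, map_add]
      map_smul' := fun r a => by
        refine (congrArg ψ (Groth.QCohMod.germ_smul G x hxV r a)).trans ?_
        exact ψ.map_smul _ _ }
  obtain ⟨g, ⟨s, hs⟩, hg⟩ := Module.FinitePresentation.exists_lift_of_isLocalizedModule
    (hV.primeIdealOf ⟨x, hxV⟩).asIdeal.primeCompl (Groth.QCohMod.germₗ F x hxV) ψ'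
  have hxs : x ∈ X.basicOpen s := (mem_basicOpen_iff_notMem_primeIdealOf hV s x hxV).2 hs
  obtain ⟨φV, hφV⟩ := exists_hom_of_sections G F hV g
  let c := X.presheaf.germ V x hxV s
  let D := X.basicOpen s
  have hDV : D ≤ V := X.basicOpen_le s
  have hu : IsUnit (resR X hDV s) := X.toRingedSpace.isUnit_res_basicOpen s
  let gD : Γ(G, D) →ₗ[Γ(X, D)] Γ(F, D) :=
    { toFun := fun a => (hu.unit⁻¹ : Γ(X, D)ˣ).1 • appOn φV hDV a
      map_add' := fun a b => by rw [appOn_add, smul_add]
      map_smul' := fun r a => by rw [appOn_smul, RingHom.id_apply, smul_comm] }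
  obtain ⟨φD, hφD⟩ := exists_hom_of_sections G F (hV.basicOpen s) gD
  refine ⟨D, hxs, φD, fun W hxW hW a => germ_appOn_eq (hV.basicOpen s) φD hxs ψ ?_ hxW hW a⟩
  intro m
  rw [hφD]
  have hVgerm : F.presheaf.germ D x hxs (appOn φV hDV m) = (c • ψ) (G.presheaf.germ D x hxs m) := by
    refine germ_appOn_eq hV φV hxV (c • ψ) (fun m' => ?_) hxs hDV m
    rw [hφV]
    exact LinearMap.congr_fun hg m'
  change F.presheaf.germ D x hxs ((hu.unit⁻¹ : Γ(X, D)ˣ).1 • appOn φV hDV m) = _
  rw [stalk_germ_smul, hVgerm, LinearMap.smul_apply, ← mul_smul]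
  have hc : c = X.presheaf.germ D x hxs (resR X hDV s) :=
    (TopCat.Presheaf.germ_res_apply X.presheaf (homOfLE hDV) x hxs s).symm
  rw [hc, ← map_mul, IsUnit.val_inv_mul, map_one, one_smul]

end Groth.CohTwo
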