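import Groth.Agent.CohTwo.FreeRange
import Groth.Agent.CohTwo.Glue
import Groth.Agent.QCohMod.QCQS

/-!
Coherent submodules of quasi-coherent modules on Noetherian schemes through given sections.
-/

universe u

open CategoryTheory CategoryTheory.Limits AlgebraicGeometry TopologicalSpace Opposite

namespace Groth.CohTwo

open Groth.QCohMod hiding res res_res res_smul

variable {X : Scheme.{u}} [IsNoetherian X]

lemma exists_cover_inter {W W' : X.Opens} (hW : IsAffineOpen W) (hW' : IsAffineOpen W') :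
    ∃ D : Finset Γ(X, W), (∀ f ∈ D, ∃ g : Γ(X, W'), X.basicOpen f = X.basicOpen g) ∧
      ∀ x ∈ W, x ∈ W' → ∃ f ∈ D, x ∈ X.basicOpen f := by
  classical
  have h : ∀ x : (W ⊓ W' : X.Opens), ∃ f : Γ(X, W),
      (∃ g : Γ(X, W'), X.basicOpen f = X.basicOpen g) ∧ x.1 ∈ X.basicOpen f := by
    intro x
    obtain ⟨f, g, e, hx⟩ := exists_basicOpen_le_affine_inter hW hW' x.1 x.2
    exact ⟨f, ⟨g, e⟩, hx⟩
  choose f hf hxf using h
  obtain ⟨t, ht⟩ := (NoetherianSpace.isCompact ((W ⊓ W' : X.Opens) : Set X)).elim_finite_subcover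
    (fun x : (W ⊓ W' : X.Opens) => (X.basicOpen (f x) : Set X)) (fun x => (X.basicOpen (f x)).2)
    (fun x hx => Set.mem_iUnion.2 ⟨⟨x, hx⟩, hxf ⟨x, hx⟩⟩)
  refine ⟨t.image f, fun g hg => ?_, fun x hx hx' => ?_⟩
  · obtain ⟨y, -, rfl⟩ := Finset.mem_image.1 hg
    exact hf y
  · obtain ⟨y, hy, hxy⟩ := Set.mem_iUnion₂.1 (ht ⟨hx, hx'⟩)
    exact ⟨f y, Finset.mem_image_of_mem f hy, hxy⟩

/-- A quasi-coherent submodule `K' ⊆ K` with finitely generated sections over the affine `W`, containing
given finite sets of sections over given affines. -/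
theorem exists_shrink (K : X.Modules) [K.IsQuasicoherent] {W : X.Opens} (hW : IsAffineOpen W)
    {J : Type u} [Finite J] (Wj : J → X.Opens) (hWj : ∀ j, IsAffineOpen (Wj j))
    (S : ∀ j, Finset Γ(K, Wj j)) :
    ∃ (K' : X.Modules) (i : K' ⟶ K), Mono i ∧ K'.IsQuasicoherent ∧
      Module.Finite Γ(X, W) Γ(K', W) ∧ ∀ j, ∀ s ∈ S j, s ∈ Set.range (i.app (Wj j)) := by
  classical
  choose D hDg hDcov using fun j => exists_cover_inter hW (hWj j)
  have hlift : ∀ (j : J) (f : Γ(X, W)) (hf : f ∈ D j) (s : Γ(K, Wj j)), ∃ (n : ℕ) (t : Γ(K, W))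
      (h : X.basicOpen f ≤ Wj j), res K (X.basicOpen_le f) t =
        resR X (X.basicOpen_le f) f ^ n • res K h s := by
    intro j f hf s
    obtain ⟨g, hg⟩ := hDg j f hf
    have h : X.basicOpen f ≤ Wj j := hg.le.trans (X.basicOpen_le g)
    obtain ⟨n, t, ht⟩ := exists_pow_smul_eq_res K hW f (res K h s)
    exact ⟨n, t, h, ht⟩
  choose n t hle ht using hlift
  let ι : Type u := Σ j : J, {f // f ∈ D j} × {s // s ∈ S j}
  haveI : Fintype ι := Fintype.ofFinite ι
  let m : ι → Γ(K.restrict W.ι, (⊤ : (W : Scheme.{u}).Opens)) := fun i =>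
    res K (by rw [Scheme.Opens.ι_image_top] : W.ι ''ᵁ ⊤ ≤ W) (t i.1 i.2.1.1 i.2.1.2 i.2.2.1)
  let T := freeHom (K.restrict W.ι) m
  haveI : (K.restrict W.ι).IsQuasicoherent := Scheme.Modules.isQuasicoherent_restrictFunctor _ K
  haveI : (∐ fun _ : ι => Coh.structureModule (W : Scheme.{u})).IsQuasicoherent := isQCoh_sigma _
  let adj := Scheme.Modules.restrictAdjunction W.ι
  let u := adj.homEquiv K _ (cokernel.π T)
  haveI : ((Scheme.Modules.pushforward W.ι).obj (cokernel T)).IsQuasicoherent :=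
    isQCoh_pushforward _ W.ι
  have hu : ∀ (V : X.Opens) (k : Γ(K, V)), u.app V k =
      (cokernel.π T).app (W.ι ⁻¹ᵁ V) (res K (W.ι.image_preimage_le V) k) := fun V k => rfl
  have hmem : ∀ (V : X.Opens) (k : Γ(K, V)),
      k ∈ Set.range ((kernel.ι u).app V) ↔ u.app V k = 0 := by
    refine fun V k => ⟨?_, exists_app_eq_of_mono_exact (S := ShortComplex.mk _ _ (kernel.condition u))
      (ShortComplex.exact_of_f_is_kernel _ (kernelIsKernel u)) V k⟩
    rintro ⟨y, rfl⟩
    change (kernel.ι u ≫ u).app V y = 0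
    rw [kernel.condition]
    rfl
  refine ⟨kernel u, kernel.ι u, inferInstance, inferInstance, ?_, fun j s hs => (hmem _ _).2 ?_⟩
  · -- finiteness over `W`
    let P := LinearMap.range (appₗ (kernel.ι u) W)
    have hW' : W ≤ W.ι ''ᵁ (W.ι ⁻¹ᵁ W) := by
      rw [Scheme.Hom.image_preimage_eq_opensRange_inf, Scheme.Opens.opensRange_ι, inf_idem]
    have hWW : W.ι ⁻¹ᵁ W = ⊤ := Scheme.Opens.ι_preimage_self W
    have hP : P ≤ Submodule.span Γ(X, W)
        (Set.range fun i : ι => t i.1 i.2.1.1 i.2.1.2 i.2.2.1) := by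
      rintro k hk
      have h0 : (cokernel.π T).app (W.ι ⁻¹ᵁ W) (res K (W.ι.image_preimage_le W) k) = 0 :=
        ((hu W k).symm.trans ((hmem W k).1 hk))
      have haff : IsAffineOpen (W.ι ⁻¹ᵁ W) := by
        haveI : IsAffine (W : Scheme.{u}) := hW
        rw [hWW]
        exact isAffineOpen_top _
      obtain ⟨a, ha⟩ := exists_app_eq_of_exact
        (S := ShortComplex.mk T (cokernel.π T) (cokernel.condition T))
        (ShortComplex.exact_of_g_is_cokernel _ (cokernelIsCokernel T)) haff _ h0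
      have hr := (range_freeHom (K.restrict W.ι) m (W.ι ⁻¹ᵁ W)).le ⟨a, ha⟩
      let e : Γ(K.restrict W.ι, W.ι ⁻¹ᵁ W) →+ Γ(K, W) := res K hW'
      have key : ∀ y ∈ Submodule.span Γ((W : Scheme.{u}), W.ι ⁻¹ᵁ W) (Set.range fun i : ι =>
          Groth.QCohMod.res (K.restrict W.ι) (le_top : W.ι ⁻¹ᵁ W ≤ ⊤) (m i)),
          e y ∈ Submodule.span Γ(X, W) (Set.range fun i : ι => t i.1 i.2.1.1 i.2.1.2 i.2.2.1) := by
        intro y hy
        induction hy using Submodule.span_induction with
        | mem y hy =>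
          obtain ⟨i, rfl⟩ := hy
          refine Submodule.subset_span ⟨i, ?_⟩
          change _ = res K hW' (res K (W.ι.opensFunctor.map (homOfLE le_top)).le
            (res K _ (t i.1 i.2.1.1 i.2.1.2 i.2.2.1)))
          rw [res_res, res_res, res_rfl]
        | zero => rw [map_zero]; exact Submodule.zero_mem _
        | add y z _ _ h₁ h₂ => rw [map_add]; exact Submodule.add_mem _ h₁ h₂
        | smul r y _ h =>
          have : e (r • y) = resR X hW' ((W.ι.appIso _).inv r) • e y := by
            change res K hW' ((K.restrictAppIso W.ι _).hom (r • y)) =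
              _ • res K hW' ((K.restrictAppIso W.ι _).hom y)
            erw [Scheme.Modules.smul_restrictAppIso_hom_apply W.ι K _ r y]
            exact res_smul K hW' _ _
          rw [this]
          exact Submodule.smul_mem _ _ h
      have := key _ hr
      change res K hW' (res K (W.ι.image_preimage_le W) k) ∈ _ at this
      rwa [res_res, res_rfl] at this
    have hfg : (Submodule.span Γ(X, W)
        (Set.range fun i : ι => t i.1 i.2.1.1 i.2.1.2 i.2.2.1)).FG :=
      Submodule.fg_span (Set.finite_range _)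
    haveI := Module.Finite.of_fg hfg
    haveI := IsLocallyNoetherian.component_noetherian (X := X) ⟨W, hW⟩
    exact Module.Finite.of_injective
      (LinearMap.codRestrict _ (appₗ (kernel.ι u) W) fun y => hP ⟨y, rfl⟩)
      fun a b h => Groth.QCohMod.app_injective_of_mono (kernel.ι u) W (congrArg Subtype.val h)
  · -- the given sections survive
    rw [hu]
    refine eq_of_local _ _ 0 fun x hx => ?_
    have hxW : W.ι.base x ∈ W := x.2
    obtain ⟨f, hf, hxf⟩ := hDcov j (W.ι.base x) hxW hx
    have hV : W.ι ⁻¹ᵁ X.basicOpen f ≤ W.ι ⁻¹ᵁ Wj j := W.ι.preimage_mono (hle j f hf s)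
    refine ⟨_, hV, hxf, ?_⟩
    let z : Γ(K.restrict W.ι, W.ι ⁻¹ᵁ Wj j) := res K (W.ι.image_preimage_le (Wj j)) s
    change res _ hV ((cokernel.π T).app (W.ι ⁻¹ᵁ Wj j) z) = res _ hV 0
    rw [map_zero, ← app_res]
    let i : ι := ⟨j, ⟨f, hf⟩, ⟨s, hs⟩⟩
    let b : Γ(X, X.basicOpen f) := resR X (X.basicOpen_le f) f ^ n j f hf s
    have hbu : IsUnit b := (X.toRingedSpace.isUnit_res_basicOpen f).pow _
    let b' : Γ((W : Scheme.{u}), W.ι ⁻¹ᵁ X.basicOpen f) := W.ι.app (X.basicOpen f) b
    have hval : b' • res (K.restrict W.ι) hV z =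
        res (K.restrict W.ι) le_top (m i) := by
      have h1 := congrArg (res K (W.ι.image_preimage_le (X.basicOpen f))) (ht j f hf s)
      rw [res_smul, res_res, res_res] at h1
      have l : b' • res (K.restrict W.ι) hV z =
          resR X (W.ι.image_preimage_le (X.basicOpen f)) b •
            res K ((W.ι.image_preimage_le (X.basicOpen f)).trans (hle j f hf s)) s := by
        change (W.ι.appIso (W.ι ⁻¹ᵁ X.basicOpen f)).inv b' •
          res K (W.ι.opensFunctor.map (homOfLE hV)).le (res K (W.ι.image_preimage_le (Wj j)) s) = _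
        rw [res_res]
        congr 1
        exact congr($((W.ι.app_appIso_inv (X.basicOpen f))) b)
      refine l.trans (h1.symm.trans ?_)
      change _ = res K (W.ι.opensFunctor.map (homOfLE le_top)).le (res K _ (t j f hf s))
      rw [res_res]
    have h0 : (cokernel.π T).app _ (res (K.restrict W.ι) le_top (m i) :
        Γ(K.restrict W.ι, W.ι ⁻¹ᵁ X.basicOpen f)) = 0 := by
      obtain ⟨a, ha⟩ := (range_freeHom (K.restrict W.ι) m (W.ι ⁻¹ᵁ X.basicOpen f)).ge
        (Submodule.subset_span ⟨i, rfl⟩)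
      refine (congrArg _ ha.symm).trans ?_
      change (T ≫ cokernel.π T).app _ a = 0
      rw [cokernel.condition]
      rfl
    rw [← hval, Scheme.Modules.Hom.app_smul] at h0
    exact (hbu.map (W.ι.app (X.basicOpen f)).hom).smul_left_cancel.1 (h0.trans (smul_zero _).symm)

end Groth.CohTwo

namespace Groth.CohTwo

open Groth.QCohMod hiding res res_res res_smul

variable {X : Scheme.{u}} [IsNoetherian X]

/-- Finitely many sections of a quasi-coherent module over the members of a finite affine cover lie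
in a coherent submodule. -/
theorem exists_coh_sub (H : X.Modules) [H.IsQuasicoherent] {J : Type u} [Finite J]
    (W : J → X.Opens) (hW : ∀ j, IsAffineOpen (W j)) (hcov : ∀ x, ∃ j, x ∈ W j)
    (S : ∀ j, Finset Γ(H, W j)) :
    ∃ (K : X.Modules) (i : K ⟶ H), Mono i ∧ Coh.IsCoh K ∧
      ∀ j, ∀ s ∈ S j, s ∈ Set.range (i.app (W j)) := by
  classical
  haveI := Fintype.ofFinite J
  have key : ∀ t : Finset J, ∃ (K : X.Modules) (i : K ⟶ H), Mono i ∧ K.IsQuasicoherent ∧
      (∀ j, ∀ s ∈ S j, s ∈ Set.range (i.app (W j))) ∧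
        ∀ j ∈ t, Module.Finite Γ(X, W j) Γ(K, W j) := by
    intro t
    induction t using Finset.induction_on with
    | empty => exact ⟨H, 𝟙 H, inferInstance, inferInstance, fun j s _ => ⟨s, rfl⟩, by simp⟩
    | insert a t _ ih =>
      obtain ⟨K, i, hi, hK, hS, hfin⟩ := ih
      choose pre hpre using hS
      have hg : ∀ j, ∃ G : Finset Γ(K, W j), j ∈ t → Submodule.span Γ(X, W j) (G : Set Γ(K, W j)) = ⊤ := by
        intro j
        by_cases hj : j ∈ t
        · obtain ⟨G, hG⟩ := (hfin j hj).fg_top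
          exact ⟨G, fun _ => hG⟩
        · exact ⟨∅, fun h => absurd h hj⟩
      choose G hG using hg
      let S' : ∀ j, Finset Γ(K, W j) := fun j =>
        G j ∪ (S j).attach.image fun s => pre j s.1 s.2
      obtain ⟨K', i', hi', hK', hfa, hS'⟩ := exists_shrink K (hW a) W hW S'
      refine ⟨K', i' ≫ i, inferInstance, hK', fun j s hs => ?_, fun j hj => ?_⟩
      · obtain ⟨b, hb⟩ := hS' j _ (Finset.mem_union_right _
          (Finset.mem_image_of_mem (fun s => pre j s.1 s.2) (Finset.mem_attach _ ⟨s, hs⟩)))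
        refine ⟨b, ?_⟩
        change i.app _ (i'.app _ b) = s
        rw [hb]
        exact hpre j s hs
      · rcases Finset.mem_insert.1 hj with rfl | hj
        · exact hfa
        · have hbij : Function.Bijective (appₗ i' (W j)) := by
            refine ⟨Groth.QCohMod.app_injective_of_mono i' _, LinearMap.range_eq_top.1 ?_⟩
            rw [eq_top_iff, ← hG j hj, Submodule.span_le]
            exact fun g hg => hS' j g (Finset.mem_union_left _ hg)
          haveI := hfin j hj
          exact Module.Finite.equiv (LinearEquiv.ofBijective _ hbij).symm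
  obtain ⟨K, i, hi, hK, hS, hfin⟩ := key Finset.univ
  exact ⟨K, i, hi, ⟨hK, isFT_of_affine_cover K fun x => by
    obtain ⟨j, hj⟩ := hcov x
    exact ⟨W j, hW j, hj, hfin j (Finset.mem_univ j)⟩⟩, hS⟩

end Groth.CohTwo
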