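import Groth.Agent.CohTwo.IdealMulPow
import Mathlib.CategoryTheory.Subobject.Lattice

/-!
Sections of intersections of submodules, and comparison of quasi-coherent submodules on a cover.
-/

universe u

open CategoryTheory CategoryTheory.Limits AlgebraicGeometry TopologicalSpace Opposite

namespace Groth.CohTwo

open Groth.QCohMod hiding res res_res res_smul

variable {X : Scheme.{u}} {A B F : X.Modules}

/-- The sections of a monomorphism are the kernel of the cokernel projection. -/
lemma mem_range_iff_cokernel (g : B ⟶ F) [Mono g] (U : X.Opens) (y : Γ(F, U)) :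
    y ∈ Set.range (g.app U) ↔ (cokernel.π g).app U y = 0 := by
  constructor
  · rintro ⟨b, rfl⟩
    change (g ≫ cokernel.π g).app U b = 0
    rw [cokernel.condition]
    rfl
  · exact exists_app_eq_of_mono_exact (S := ShortComplex.mk _ _ (cokernel.condition g))
      (ShortComplex.exact_of_g_is_cokernel _ (cokernelIsCokernel g)) U y

/-- The inclusion into `F` of the intersection of the images of `f` and `g`. -/
noncomputable def interι (f : A ⟶ F) (g : B ⟶ F) : kernel (f ≫ cokernel.π g) ⟶ F :=
  kernel.ι (f ≫ cokernel.π g) ≫ f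

instance (f : A ⟶ F) (g : B ⟶ F) [Mono f] : Mono (interι f g) := by
  unfold interι
  infer_instance

/-- The sections of the intersection. -/
lemma range_interι (f : A ⟶ F) (g : B ⟶ F) [Mono g] (U : X.Opens) :
    Set.range ((interι f g).app U) = Set.range (f.app U) ∩ Set.range (g.app U) := by
  ext y
  constructor
  · rintro ⟨k, rfl⟩
    refine ⟨⟨(kernel.ι (f ≫ cokernel.π g)).app U k, rfl⟩, (mem_range_iff_cokernel g U _).2 ?_⟩
    change (kernel.ι (f ≫ cokernel.π g) ≫ f ≫ cokernel.π g).app U k = 0
    rw [kernel.condition]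
    rfl
  · rintro ⟨⟨a, rfl⟩, hg⟩
    obtain ⟨k, hk⟩ := exists_app_eq_of_mono_exact
      (S := ShortComplex.mk _ _ (kernel.condition (f ≫ cokernel.π g)))
      (ShortComplex.exact_of_f_is_kernel _ (kernelIsKernel _)) U a
      ((mem_range_iff_cokernel g U _).1 hg)
    refine ⟨k, ?_⟩
    change f.app U ((kernel.ι (f ≫ cokernel.π g)).app U k) = f.app U a
    exact congrArg _ hk

/-- The intersection of two subobjects. -/
lemma mk_inf_mk_eq (f : A ⟶ F) (g : B ⟶ F) [Mono f] [Mono g] :
    Subobject.mk f ⊓ Subobject.mk g = Subobject.mk (interι f g) := by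
  apply le_antisymm
  · obtain ⟨a, ha⟩ := (Subobject.mk_factors_iff f _).1
      (Subobject.inf_arrow_factors_left (Subobject.mk f) (Subobject.mk g))
    obtain ⟨b, hb⟩ : ∃ b : _ ⟶ B, b ≫ g = (Subobject.mk f ⊓ Subobject.mk g).arrow :=
      (Subobject.mk_factors_iff g _).1
      (Subobject.inf_arrow_factors_right (Subobject.mk f) (Subobject.mk g))
    let a' : Subobject.underlying.obj (Subobject.mk f ⊓ Subobject.mk g) ⟶ A := a
    have ha' : a' ≫ f = b ≫ g := ha.trans hb.symm
    have h : a' ≫ f ≫ cokernel.π g = 0 := by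
      rw [← Category.assoc, ha', Category.assoc, cokernel.condition, comp_zero]
    refine Subobject.le_mk_of_comm (kernel.lift _ a' h) ?_
    rw [interι, ← Category.assoc, kernel.lift_ι]
    exact ha'.trans hb
  · refine le_inf (Subobject.mk_le_mk_of_comm (kernel.ι _) rfl) ?_
    have h : interι f g ≫ cokernel.π g = 0 := by
      rw [interι, Category.assoc, kernel.condition]
    exact Subobject.mk_le_mk_of_comm (Abelian.monoLift g _ h) (Abelian.monoLift_comp g _ h)

lemma isQCoh_inter (f : A ⟶ F) (g : B ⟶ F) [A.IsQuasicoherent] [B.IsQuasicoherent]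
    [F.IsQuasicoherent] : (kernel (f ≫ cokernel.π g)).IsQuasicoherent :=
  isQCoh_kernel _

/-- A morphism from a quasi-coherent module lifts through a monomorphism if it does so on the
sections over the members of an affine cover. -/
theorem exists_lift_of_cover (α : A ⟶ F) (β : B ⟶ F) [Mono β] [A.IsQuasicoherent] {ι : Type*}
    (V : ι → X.Opens) (hV : ∀ i, IsAffineOpen (V i)) (hcov : ∀ x, ∃ i, x ∈ V i)
    (h : ∀ i, Set.range (α.app (V i)) ⊆ Set.range (β.app (V i))) :
    ∃ γ : A ⟶ B, γ ≫ β = α := by
  have h0 : α ≫ cokernel.π β = 0 := eq_zero_of_affine_cover _ V hV hcov fun i s =>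
    (mem_range_iff_cokernel β (V i) _).1 (h i ⟨s, rfl⟩)
  exact ⟨Abelian.monoLift β α h0, Abelian.monoLift_comp β α h0⟩

/-- Two quasi-coherent submodules with the same sections over an affine cover are equal. -/
theorem subobject_mk_eq_of_cover (α : A ⟶ F) (β : B ⟶ F) [Mono α] [Mono β] [A.IsQuasicoherent]
    [B.IsQuasicoherent] {ι : Type*} (V : ι → X.Opens) (hV : ∀ i, IsAffineOpen (V i))
    (hcov : ∀ x, ∃ i, x ∈ V i) (h : ∀ i, Set.range (α.app (V i)) = Set.range (β.app (V i))) :
    Subobject.mk α = Subobject.mk β := by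
  obtain ⟨γ, hγ⟩ := exists_lift_of_cover α β V hV hcov fun i => (h i).le
  obtain ⟨δ, hδ⟩ := exists_lift_of_cover β α V hV hcov fun i => (h i).ge
  exact le_antisymm (Subobject.mk_le_mk_of_comm γ hγ) (Subobject.mk_le_mk_of_comm δ hδ)

end Groth.CohTwo
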