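import Groth.Agent.CohTwo.SubobjectSections
import Groth.Agent.CohTwo.SupportLocal
import Groth.Agent.CohTwo.HomNhd
import Groth.Agent.CohTwo.Extend
import Groth.Agent.CohTwo.ColimStalk
import Groth.Agent.S9515
import Mathlib.RingTheory.Filtration

/-!
Grafting: coherent modules with isomorphic stalks at a point are related by a monomorphism defined on
`J · M` with the point outside `V(J)`.
-/

universe u

open CategoryTheory CategoryTheory.Limits AlgebraicGeometry TopologicalSpace Opposite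

namespace Groth.CohTwo

open Groth.QCohMod hiding res res_res res_smul

variable {X : Scheme.{u}}

/-- The reduced ideal sheaf of the complement of an open subset. -/
noncomputable def complIdeal (U : X.Opens) : X.IdealSheafData :=
  Scheme.IdealSheafData.vanishingIdeal ⟨(U : Set X)ᶜ, U.2.isClosed_compl⟩

lemma coe_compl_support_complIdeal (U : X.Opens) :
    (U : Set X) = ((complIdeal U).support : Set X)ᶜ := by
  change (U : Set X) = ((U : Set X)ᶜ)ᶜ
  rw [compl_compl]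

lemma notMem_support_complIdeal (U : X.Opens) {x : X} (hx : x ∈ U) :
    x ∉ ((complIdeal U).support : Set X) :=
  (coe_compl_support_complIdeal U).le hx

lemma notMem_support_pow (I : X.IdealSheafData) {x : X} (hx : x ∉ (I.support : Set X)) (n : ℕ) :
    x ∉ ((I ^ n).support : Set X) := by
  cases n with
  | zero =>
    rw [pow_zero, Scheme.IdealSheafData.one_eq_top, Scheme.IdealSheafData.support_top]
    exact id
  | succ n => rwa [Scheme.IdealSheafData.support_pow_succ]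

/-- Outside `V(J)` the inclusion `J · M ⟶ M` is bijective on stalks. -/
theorem bijective_stalk_idealMulι (J : X.IdealSheafData) (M : X.Modules) [M.IsQuasicoherent]
    {x : X} (hx : x ∉ (J.support : Set X)) :
    Function.Bijective ((stalk x).map (Dual3.idealMulι J M)) := by
  refine ⟨(mono_iff_stalk _).1 inferInstance x, fun t => ?_⟩
  obtain ⟨W, hxW, s, rfl⟩ := stalk_exists_germ M x t
  obtain ⟨_, ⟨V, hV, rfl⟩, hxV, hVW⟩ := X.isBasis_affineOpens.exists_subset_of_mem_open hxW W.2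
  rw [← stalk_germ_res M x hVW hxV s]
  have h1 := mt (Scheme.IdealSheafData.mem_support_iff_of_mem (U := ⟨V, hV⟩) hxV).2 hx
  rw [Scheme.mem_zeroLocus_iff] at h1
  push Not at h1
  obtain ⟨f, hf, hxf⟩ := h1
  obtain ⟨w, hw⟩ := (mem_range_idealMulι_iff J M hV (f • res M hVW s)).2
    (Submodule.smul_mem_smul hf trivial)
  have hu : IsUnit (X.presheaf.germ V x hxV f) := (Scheme.mem_basicOpen X f x hxV).1 hxf
  let v := hu.unit
  refine ⟨(v⁻¹ : (X.presheaf.stalk x)ˣ).1 • ((Dual3.idealMul J).obj M).presheaf.germ V x hxV w, ?_⟩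
  change stalkLin (Dual3.idealMulι J M) x (_ • _) = _
  rw [map_smul, stalkLin_germ, hw, stalk_germ_smul, ← mul_smul]
  rw [show (v⁻¹ : (X.presheaf.stalk x)ˣ).1 * X.presheaf.germ V x hxV f = 1 from hu.val_inv_mul,
    one_smul]

/-- If the kernel of `p : N ⟶ M` vanishes on the complement of `V(I)`, then `p` is injective on
`I^c · N` for some `c`. -/
theorem exists_mono_idealMul_pow [IsNoetherian X] {N M : X.Modules} (hN : Coh.IsCoh N)
    [M.IsQuasicoherent] (p : N ⟶ M) (I : X.IdealSheafData) (U : X.Opens)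
    (hU : (U : Set X) = (I.support : Set X)ᶜ)
    (hK0 : (Scheme.Modules.restrictFunctor U.ι).map (kernel.ι p) = 0) :
    ∃ c : ℕ, Mono (Dual3.idealMulι (I ^ c) N ≫ p) := by
  classical
  haveI := hN.1
  let K := kernel p
  haveI : K.IsQuasicoherent := isQCoh_kernel p
  have hK : Coh.IsCoh K := isCoh_kernel p hN
  obtain ⟨m, ιm, hιm, hm⟩ := Groth.Agent.S9516.result X N K hN.1 hK I U hU 0
    (Dual3.idealMulι (I ^ 0) K ≫ kernel.ι p) (by
      rw [Functor.map_comp, hK0, comp_zero])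
  rw [← Category.assoc, hιm] at hm
  obtain ⟨T, hT⟩ := Groth.PropsBasic2.exists_finite_affine_cover X
  have hcov : ∀ x : X, ∃ V : T, x ∈ (V.1.1 : X.Opens) := fun x =>
    Opens.mem_iSup.1 (hT.ge (show x ∈ (⊤ : X.Opens) from trivial))
  have key : ∀ V : T, ∃ k : ℕ, ∀ n ≥ k,
      I.ideal V.1 ^ n • ⊤ ⊓ LinearMap.range (appₗ (kernel.ι p) V.1.1) =
        I.ideal V.1 ^ (n - k) •
          (I.ideal V.1 ^ k • ⊤ ⊓ LinearMap.range (appₗ (kernel.ι p) V.1.1)) := fun V => by
    haveI := finite_sections _ hN.2 V.1.2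
    haveI := IsLocallyNoetherian.component_noetherian (X := X) V.1
    exact Ideal.exists_pow_inf_eq_pow_smul _ _
  choose k hk using key
  let c := (Finset.univ : Finset T).sup k + m
  refine ⟨c, Preadditive.mono_of_kernel_zero ?_⟩
  haveI := isQCoh_idealMul (I ^ c) N
  let α := Dual3.idealMulι (I ^ c) N ≫ p
  haveI : (kernel α).IsQuasicoherent := isQCoh_kernel α
  refine eq_zero_of_affine_cover _ (fun V : T => (V.1.1 : X.Opens)) (fun V => V.1.2) hcov fun V s => ?_
  refine Groth.QCohMod.app_injective_of_mono (Dual3.idealMulι (I ^ c) N) _ ?_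
  rw [map_zero]
  let h := (Dual3.idealMulι (I ^ c) N).app V.1.1 ((kernel.ι α).app V.1.1 s)
  change h = 0
  have h1 : h ∈ I.ideal V.1 ^ c • (⊤ : Submodule Γ(X, V.1.1) Γ(N, V.1.1)) :=
    (range_idealMulι_pow I c _ V.1.2 _).1 ⟨_, rfl⟩
  have h2 : h ∈ LinearMap.range (appₗ (kernel.ι p) V.1.1) :=
    exists_app_eq_of_mono_exact (S := ShortComplex.mk _ _ (kernel.condition p))
      (ShortComplex.exact_of_f_is_kernel _ (kernelIsKernel p)) _ h
      (congr(($(kernel.condition α)).app V.1.1 s))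
  have hkc : k V ≤ c := (Finset.le_sup (Finset.mem_univ V)).trans (Nat.le_add_right _ _)
  have hmk : m ≤ c - k V := by
    have := Finset.le_sup (f := k) (Finset.mem_univ V)
    omega
  have h3 : h ∈ I.ideal V.1 ^ m • LinearMap.range (appₗ (kernel.ι p) V.1.1) :=
    Submodule.smul_mono (Ideal.pow_le_pow_right hmk) inf_le_right ((hk V c hkc).le ⟨h1, h2⟩)
  rw [← Submodule.map_top (appₗ (kernel.ι p) V.1.1), ← Submodule.map_smul''] at h3
  obtain ⟨z, hz, e⟩ := h3
  obtain ⟨w, rfl⟩ := (range_idealMulι_pow I m K V.1.2 z).2 hz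
  rw [← e]
  exact congr(($hm).app V.1.1 w)

lemma restrict_kernel_ι_eq_zero {N M : X.Modules} (p : N ⟶ M) (U : X.Opens)
    [Mono ((Scheme.Modules.restrictFunctor U.ι).map p)] :
    (Scheme.Modules.restrictFunctor U.ι).map (kernel.ι p) = 0 := by
  rw [← cancel_mono ((Scheme.Modules.restrictFunctor U.ι).map p), ← Functor.map_comp,
    kernel.condition, Functor.map_zero, zero_comp]

lemma bijective_of_comp_left {A B C : AddCommGrpCat.{u}} (f : A ⟶ B) (g : B ⟶ C)
    (hg : Function.Bijective g) (h : Function.Bijective (f ≫ g)) : Function.Bijective f :=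
  (Function.Bijective.of_comp_iff' hg f).1 h

/-- The stalk of an extension of `φ`. -/
theorem stalk_map_of_restrict_eq {N G F : X.Modules} (ι : N ⟶ G) (ψ₁ : N ⟶ F) {U : X.Opens}
    (φ : G.restrict U.ι ⟶ F.restrict U.ι)
    (h : (Scheme.Modules.restrictFunctor U.ι).map ψ₁ =
      (Scheme.Modules.restrictFunctor U.ι).map ι ≫ φ) {x : X} (hx : x ∈ U)
    (σ : ↑(G.presheaf.stalk x) →ₗ[X.presheaf.stalk x] ↑(F.presheaf.stalk x))
    (hφ : ∀ (W : X.Opens) (hxW : x ∈ W) (hW : W ≤ U) (a : Γ(G, W)),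
      F.presheaf.germ W x hxW (appOn φ hW a) = σ (G.presheaf.germ W x hxW a))
    (b : ↑((stalk x).obj N)) : (stalk x).map ψ₁ b = σ ((stalk x).map ι b) := by
  obtain ⟨W, hxW, w, rfl⟩ := stalk_exists_germ N x b
  have hxW' : x ∈ W ⊓ U := ⟨hxW, hx⟩
  rw [← stalk_germ_res N x (inf_le_left : W ⊓ U ≤ W) hxW' w]
  refine (stalk_map_germ ψ₁ x hxW' _).trans ?_
  refine Eq.trans ?_ (congrArg σ (stalk_map_germ ι x hxW' _)).symm
  refine Eq.trans ?_ (hφ _ hxW' inf_le_right _)
  congr 1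
  have hle : W ⊓ U ≤ U.ι ''ᵁ (U.ι ⁻¹ᵁ (W ⊓ U)) := by
    rw [Scheme.Hom.image_preimage_eq_opensRange_inf, Scheme.Opens.opensRange_ι]
    exact le_inf inf_le_right le_rfl
  let v := res N (inf_le_left : W ⊓ U ≤ W) w
  let z : Γ(N.restrict U.ι, U.ι ⁻¹ᵁ (W ⊓ U)) := res N (U.ι.image_preimage_le (W ⊓ U)) v
  have h1 := congrArg (res F hle) (congr(($h).app (U.ι ⁻¹ᵁ (W ⊓ U)) z))
  have hl : res F hle (ψ₁.app (U.ι ''ᵁ (U.ι ⁻¹ᵁ (W ⊓ U)))
      (res N (U.ι.image_preimage_le (W ⊓ U)) v)) = ψ₁.app (W ⊓ U) v := by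
    rw [app_res, res_res, res_rfl]
  refine hl.symm.trans (h1.trans ?_)
  unfold appOn
  rw [← app_res]
  rfl

/-- The ideal `I₁^c * I₀^n` times `M` maps into `I₁^c (I₀^n M)`. -/
theorem exists_mul_incl [IsNoetherian X] (I₁ I₀ : X.IdealSheafData) (c n : ℕ) (M : X.Modules)
    [M.IsQuasicoherent] :
    ∃ j : (Dual3.idealMul (I₁ ^ c * I₀ ^ n)).obj M ⟶
        (Dual3.idealMul (I₁ ^ c)).obj ((Dual3.idealMul (I₀ ^ n)).obj M),
      j ≫ Dual3.idealMulι (I₁ ^ c) _ ≫ Dual3.idealMulι (I₀ ^ n) M =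
        Dual3.idealMulι (I₁ ^ c * I₀ ^ n) M := by
  haveI := isQCoh_idealMul (I₀ ^ n) M
  refine exists_lift_of_affine_range _ _ fun V hV a => ?_
  have hP : (I₁ ^ c * I₀ ^ n).ideal ⟨V, hV⟩ • (⊤ : Submodule Γ(X, V) Γ(M, V)) ≤
      LinearMap.range (appₗ (Dual3.idealMulι (I₁ ^ c) ((Dual3.idealMul (I₀ ^ n)).obj M) ≫
        Dual3.idealMulι (I₀ ^ n) M) V) := by
    rw [Scheme.IdealSheafData.ideal_mul, Pi.mul_apply, Scheme.IdealSheafData.ideal_pow,
      Scheme.IdealSheafData.ideal_pow, Pi.pow_apply, Pi.pow_apply, Submodule.mul_smul]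
    refine Submodule.smul_le.2 fun r hr g hg => ?_
    obtain ⟨g', rfl⟩ := (range_idealMulι_pow I₀ n M hV g).2 hg
    obtain ⟨w, hw⟩ := (range_idealMulι_pow I₁ c _ hV (r • g')).2
      (Submodule.smul_mem_smul hr trivial)
    exact ⟨w, (congrArg _ hw).trans ((Dual3.idealMulι (I₀ ^ n) M).app_smul r g')⟩
  exact hP ((mem_range_idealMulι_iff _ M hV _).1 ⟨a, rfl⟩)

/-- Coherent modules with isomorphic stalks at `x` are related by a monomorphism out of `J · M₁`
bijective at `x`, with `x ∉ V(J)`. -/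
theorem exists_graft [IsNoetherian X] {M₁ M₂ : X.Modules} (h₁ : Coh.IsCoh M₁) (h₂ : Coh.IsCoh M₂)
    (x : X) (ψ : ↑(M₁.presheaf.stalk x) →ₗ[X.presheaf.stalk x] ↑(M₂.presheaf.stalk x))
    (hψ : Function.Bijective ψ) :
    ∃ (J : X.IdealSheafData) (γ : (Dual3.idealMul J).obj M₁ ⟶ M₂),
      x ∉ (J.support : Set X) ∧ Mono γ ∧ Function.Bijective ((stalk x).map γ) := by
  classical
  haveI := h₁.1
  haveI := h₂.1
  obtain ⟨U0, hxU0, φ, hφ⟩ := exists_hom_nhd M₁ M₂ h₁ x ψ
  let I0 := complIdeal U0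
  obtain ⟨n, ψ1, hψ1⟩ := Groth.Agent.S9515.result X M₂ M₁ h₂.1 h₁ I0 U0
    (coe_compl_support_complIdeal U0) φ
  haveI := isQCoh_idealMul (I0 ^ n) M₁
  have hN := isCoh_idealMul (I0 ^ n) M₁ h₁
  have hx0 : x ∉ ((I0 ^ n).support : Set X) :=
    notMem_support_pow I0 (notMem_support_complIdeal U0 hxU0) n
  have hbj1 : Function.Bijective ((stalk x).map ψ1) := by
    have : ((stalk x).map ψ1 : _ → _) =
        ψ ∘ ((stalk x).map (Dual3.idealMulι (I0 ^ n) M₁)) :=
      funext fun b => stalk_map_of_restrict_eq _ ψ1 φ hψ1 hxU0 ψ hφ b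
    rw [this]
    exact hψ.comp (bijective_stalk_idealMulι (I0 ^ n) M₁ hx0)
  obtain ⟨U1, hxU1, hU1⟩ := exists_isIso_nhd hN h₂ ψ1 x hbj1
  let I1 := complIdeal U1
  obtain ⟨c, hc⟩ := exists_mono_idealMul_pow hN ψ1 I1 U1 (coe_compl_support_complIdeal U1)
    (restrict_kernel_ι_eq_zero ψ1 U1)
  let J := I1 ^ c * I0 ^ n
  have hxJ : x ∉ (J.support : Set X) := by
    rw [Scheme.IdealSheafData.support_mul]
    rintro (h | h)
    · exact notMem_support_pow I1 (notMem_support_complIdeal U1 hxU1) c h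
    · exact hx0 h
  haveI := isQCoh_idealMul J M₁
  obtain ⟨j, hj⟩ := exists_mul_incl I1 I0 c n M₁
  haveI : Mono j := mono_of_mono_fac hj
  let N := (Dual3.idealMul (I0 ^ n)).obj M₁
  let j' : (Dual3.idealMul J).obj M₁ ⟶ N := j ≫ Dual3.idealMulι (I1 ^ c) N
  have hj' : j' ≫ Dual3.idealMulι (I0 ^ n) M₁ = Dual3.idealMulι J M₁ :=
    (Category.assoc _ _ _).trans hj
  refine ⟨J, j' ≫ ψ1, hxJ, ?_, ?_⟩
  · have : j' ≫ ψ1 = j ≫ (Dual3.idealMulι (I1 ^ c) N ≫ ψ1) := Category.assoc _ _ _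
    rw [this]
    exact mono_comp _ _
  · have hb1 : Function.Bijective
        ((stalk x).map j' ≫ (stalk x).map (Dual3.idealMulι (I0 ^ n) M₁)) := by
      rw [← Functor.map_comp, hj']
      exact bijective_stalk_idealMulι J M₁ hxJ
    have hb2 : Function.Bijective ((stalk x).map j') :=
      bijective_of_comp_left ((stalk x).map j') _ (bijective_stalk_idealMulι (I0 ^ n) M₁ hx0) hb1
    rw [Functor.map_comp, ConcreteCategory.coe_comp]
    exact hbj1.comp hb2

end Groth.CohTwo
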