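import Groth.Agent.CohTwo.CohInduction

/-!
Direct images along closed immersions: coherence and stalks.
-/

universe u

open CategoryTheory CategoryTheory.Limits AlgebraicGeometry TopologicalSpace Opposite

namespace Groth.CohTwo

open Groth.QCohMod hiding res res_res res_smul

variable {X Z : Scheme.{u}}

/-- The comparison of the stalk of `i_* M` at `i z` with the stalk of `M` at `z`. -/
noncomputable def pushStalk (i : Z ⟶ X) (M : Z.Modules) (z : Z) :
    ↑(((Scheme.Modules.pushforward i).obj M).presheaf.stalk (i z)) →+ ↑(M.presheaf.stalk z) :=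
  (TopCat.Presheaf.stalkPushforward AddCommGrpCat.{u} i.base M.presheaf z).hom

lemma pushStalk_germ (i : Z ⟶ X) (M : Z.Modules) (z : Z) {U : X.Opens} (hU : i z ∈ U)
    (s : Γ((Scheme.Modules.pushforward i).obj M, U)) :
    pushStalk i M z (((Scheme.Modules.pushforward i).obj M).presheaf.germ U (i z) hU s) =
      M.presheaf.germ (i ⁻¹ᵁ U) z hU s :=
  congr($(TopCat.Presheaf.stalkPushforward_germ AddCommGrpCat.{u} i.base M.presheaf U z hU) s)

theorem bijective_pushStalk (i : Z ⟶ X) [IsClosedImmersion i] (M : Z.Modules) (z : Z) :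
    Function.Bijective (pushStalk i M z) := by
  haveI : IsIso (TopCat.Presheaf.stalkPushforward AddCommGrpCat.{u} i.base M.presheaf z) :=
    TopCat.Presheaf.stalkPushforward.stalkPushforward_iso_of_isInducing AddCommGrpCat.{u}
      i.isClosedEmbedding.isInducing M.presheaf z
  exact ConcreteCategory.bijective_of_isIso
    (TopCat.Presheaf.stalkPushforward AddCommGrpCat.{u} i.base M.presheaf z)

/-- A direct image along a closed immersion is supported in the image. -/
theorem support_push_subset (i : Z ⟶ X) [IsClosedImmersion i] (M : Z.Modules) :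
    CohB1.support ((Scheme.Modules.pushforward i).obj M) ⊆ Set.range i := by
  intro x hx
  by_contra hxr
  refine hx (subsingleton_of_forall_eq 0 fun t => ?_)
  obtain ⟨U, hU, s, rfl⟩ := stalk_exists_germ _ x t
  let V : X.Opens := U ⊓ ⟨(Set.range i)ᶜ, i.isClosedEmbedding.isClosed_range.isOpen_compl⟩
  have hV : i ⁻¹ᵁ V = ⊥ := by
    ext z
    simp [V]
  haveI : Subsingleton Γ((Scheme.Modules.pushforward i).obj M, V) := by
    change Subsingleton Γ(M, i ⁻¹ᵁ V)
    rw [hV]
    exact AddCommGrpCat.subsingleton_of_isZero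
      (TopCat.Sheaf.isTerminalOfEmpty
        (⟨M.presheaf, M.isSheaf⟩ : TopCat.Sheaf AddCommGrpCat.{u} Z)).isZero
  rw [← stalk_germ_res _ x (inf_le_left : V ≤ U) ⟨hU, hxr⟩ s,
    Subsingleton.elim (res _ (inf_le_left : V ≤ U) s) 0, map_zero]

/-- Direct images along closed immersions preserve coherence. -/
theorem isCoh_push (i : Z ⟶ X) [IsClosedImmersion i] {M : Z.Modules} (hM : Coh.IsCoh M) :
    Coh.IsCoh ((Scheme.Modules.pushforward i).obj M) := by
  haveI := hM.1
  haveI := isQCoh_pushforward M i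
  refine (isCoh_iff _).2 ⟨inferInstance, fun U hU => ?_⟩
  have hV : IsAffineOpen (i ⁻¹ᵁ U) := hU.preimage i
  haveI := finite_sections M hM.2 hV
  obtain ⟨G, hG⟩ := (Module.Finite.fg_top : (⊤ : Submodule Γ(Z, i ⁻¹ᵁ U) Γ(M, i ⁻¹ᵁ U)).FG)
  refine ⟨⟨(show Finset Γ((Scheme.Modules.pushforward i).obj M, U) from G), eq_top_iff.2 fun m _ => ?_⟩⟩
  let S := Submodule.span Γ(X, U) (show Set Γ((Scheme.Modules.pushforward i).obj M, U) from ((G : Set Γ(M, i ⁻¹ᵁ U))))
  have hm : (show Γ(M, i ⁻¹ᵁ U) from m) ∈ Submodule.span Γ(Z, i ⁻¹ᵁ U) (G : Set Γ(M, i ⁻¹ᵁ U)) :=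
    hG.ge trivial
  change m ∈ S
  refine Submodule.span_induction (R := Γ(Z, i ⁻¹ᵁ U)) (M := Γ(M, i ⁻¹ᵁ U)) (s := (G : Set Γ(M, i ⁻¹ᵁ U)))
    (p := fun v _ => (show Γ((Scheme.Modules.pushforward i).obj M, U) from v) ∈ S)
    (fun v hv => Submodule.subset_span hv)
    S.zero_mem (fun a b _ _ ha hb => S.add_mem ha hb) (fun c v _ hv => ?_) hm
  obtain ⟨r, rfl⟩ := i.app_surjective U hU c
  exact S.smul_mem r hv

/-- Direct images from a closed subscheme are killed by its ideal. -/
theorem killed_push_subschemeι (I : X.IdealSheafData) (M : I.subscheme.Modules) [M.IsQuasicoherent] :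
    Killed I ((Scheme.Modules.pushforward I.subschemeι).obj M) := by
  haveI := isQCoh_pushforward M I.subschemeι
  refine killed_of_smul_eq_zero fun V hV a ha m => ?_
  change I.subschemeι.app V a • (show Γ(M, I.subschemeι ⁻¹ᵁ V) from m) = 0
  rw [app_subschemeι_eq_zero I hV ha, zero_smul]

/-- An integral closed subscheme structure on the closure of a point. -/
theorem isIntegral_closure_subscheme {ξ : X} {Y : Closeds X} (hY : (Y : Set X) = closure {ξ}) :
    IsIntegral (Scheme.IdealSheafData.vanishingIdeal Y).subscheme := by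
  let i := (Scheme.IdealSheafData.vanishingIdeal Y).subschemeι
  haveI : IsReduced (Scheme.IdealSheafData.vanishingIdeal Y).subscheme :=
    Groth.PropsBasic2.isReduced_vanishingIdeal_subscheme Y
  have hr : Set.range i = closure {ξ} :=
    (Groth.PropsBasic2.range_vanishingIdeal_subschemeι Y).trans hY
  obtain ⟨z, -⟩ : ξ ∈ Set.range i := hr ▸ subset_closure rfl
  haveI : Nonempty (Scheme.IdealSheafData.vanishingIdeal Y).subscheme := ⟨z⟩
  haveI : IrreducibleSpace (Scheme.IdealSheafData.vanishingIdeal Y).subscheme := by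
    rw [irreducibleSpace_def]
    refine ⟨Set.univ_nonempty, fun U V hU hV hu hv => ?_⟩
    obtain ⟨U', hU', rfl⟩ := i.isClosedEmbedding.isInducing.isOpen_iff.1 hU
    obtain ⟨V', hV', rfl⟩ := i.isClosedEmbedding.isInducing.isOpen_iff.1 hV
    obtain ⟨a, -, ha⟩ := hu
    obtain ⟨b, -, hb⟩ := hv
    obtain ⟨w, hw, hwU, hwV⟩ := (isIrreducible_singleton (x := ξ)).closure.2 U' V' hU' hV'
      ⟨i a, hr ▸ Set.mem_range_self a, ha⟩ ⟨i b, hr ▸ Set.mem_range_self b, hb⟩
    obtain ⟨c, rfl⟩ := hr.ge hw
    exact ⟨c, trivial, hwU, hwV⟩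
  exact isIntegral_of_irreducibleSpace_of_isReduced _

/-- The generic point of an integral scheme goes to the generic point of its image. -/
theorem apply_genericPoint_eq [IsIntegral Z] (i : Z ⟶ X) [IsClosedImmersion i] {ξ : X}
    (h : Set.range i = closure {ξ}) : i (genericPoint Z) = ξ := by
  have h1 := (genericPoint_spec Z).image i.continuous
  rw [Set.image_univ, h, closure_closure] at h1
  exact h1.eq isGenericPoint_closure

end Groth.CohTwo
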