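import Groth.Agent.QCohMod.Coherent
import Groth.Prelude.Def_Dual3

/-!
The sections of `I · F` over affine opens are `I(U) F(U)`; `I · F` is quasi-coherent.
-/

universe u

open CategoryTheory CategoryTheory.Limits AlgebraicGeometry TopologicalSpace Opposite

namespace Groth.CohTwo

open Groth.QCohMod

variable {X : Scheme.{u}}

/-- A map of sections of a module in the essential image of the left adjoint lifts. -/
lemma exists_map_eq_of_counit {C D : Type*} [Category C] [Category D] {L : D ⥤ C} {G : C ⥤ D}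
    (adj : L ⊣ G) (M : C) [IsIso (adj.counit.app M)] {N : C} (g : G.obj M ⟶ G.obj N) :
    ∃ φ : M ⟶ N, G.map φ = g := by
  have h : G.map (inv (adj.counit.app M)) = adj.unit.app (G.obj M) := by
    rw [← cancel_mono (G.map (adj.counit.app M)), ← Functor.map_comp, IsIso.inv_hom_id,
      CategoryTheory.Functor.map_id, adj.right_triangle_components]
    rfl
  refine ⟨inv (adj.counit.app M) ≫ L.map g ≫ adj.counit.app N, ?_⟩
  rw [Functor.map_comp, Functor.map_comp, h, ← Category.assoc]
  have := adj.unit.naturality g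
  simp only [Functor.id_map, Functor.comp_map] at this
  rw [← this, Category.assoc, adj.right_triangle_components]
  exact Category.comp_id g

lemma smul_top_def {R : CommRingCat.{u}} (M : (Spec R).Modules) (r : R)
    (x : Γ(M, (⊤ : (Spec R).Opens))) : r • x = (Scheme.ΓSpecIso R).inv r • x := by
  rw [Scheme.Modules.smul_Spec_def]
  congr 1

lemma smul_pushforward_top {R S : CommRingCat.{u}} (f : R ⟶ S) (T : (Spec S).Modules) (r : R)
    (y : Γ(T, (⊤ : (Spec S).Opens))) :
    r • (show Γ((Scheme.Modules.pushforward (Spec.map f)).obj T, (⊤ : (Spec R).Opens)) from y) =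
      (show Γ((Scheme.Modules.pushforward (Spec.map f)).obj T, (⊤ : (Spec R).Opens)) from f r • y) := by
  rw [smul_top_def, smul_top_def]
  change (Spec.map f).app ⊤ ((Scheme.ΓSpecIso R).inv r) •
    (show Γ(T, Spec.map f ⁻¹ᵁ ⊤) from y) = _
  exact congrArg (· • (show Γ(T, Spec.map f ⁻¹ᵁ ⊤) from y))
    (congr($(Scheme.ΓSpecIso_inv_naturality f) r)).symm

lemma app_subschemeι_eq_zero (I : X.IdealSheafData) {U : X.Opens} (hU : IsAffineOpen U)
    {r : Γ(X, U)} (hr : r ∈ I.ideal ⟨U, hU⟩) : I.subschemeι.app U r = 0 :=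
  RingHom.mem_ker.1 ((I.ker_subschemeι_app ⟨U, hU⟩).ge hr)

/-- Over an affine open, the kernel of `F ⟶ i_* i^* F` is `I(U) F(U)`. -/
theorem unit_app_eq_zero_iff (I : X.IdealSheafData) (F : X.Modules) [F.IsQuasicoherent]
    {U : X.Opens} (hU : IsAffineOpen U) (x : Γ(F, U)) :
    ((Scheme.Modules.pullbackPushforwardAdjunction I.subschemeι).unit.app F).app U x = 0 ↔
      x ∈ I.ideal ⟨U, hU⟩ • (⊤ : Submodule Γ(X, U) Γ(F, U)) := by
  let u := (Scheme.Modules.pullbackPushforwardAdjunction I.subschemeι).unit.app F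
  constructor
  swap
  · intro hx
    refine Submodule.smul_induction_on hx (fun r hr m _ => ?_) (fun a b ha hb => ?_)
    · rw [Scheme.Modules.Hom.app_smul]
      change I.subschemeι.app U r • (show Γ((Scheme.Modules.pullback I.subschemeι).obj F,
        I.subschemeι ⁻¹ᵁ U) from u.app U m) = 0
      rw [app_subschemeι_eq_zero I hU hr, zero_smul]
    · rw [map_add, ha, hb, add_zero]
  intro hx
  let J := I.ideal ⟨U, hU⟩
  let S : CommRingCat.{u} := CommRingCat.of (Γ(X, U) ⧸ J)
  let f : Γ(X, U) ⟶ S := CommRingCat.ofHom (Ideal.Quotient.mk J)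
  let Q : ModuleCat.{u} S :=
    ModuleCat.of (Γ(X, U) ⧸ J) (Γ(F, U) ⧸ (J • ⊤ : Submodule Γ(X, U) Γ(F, U)))
  let π := Spec.map f
  let T : (Spec S).Modules := tilde Q
  let N := (Scheme.Modules.pushforward π).obj T
  let M := F.restrict hU.fromSpec
  haveI : IsIso ((tilde.adjunction (R := Γ(X, U))).counit.app M) :=
    (inferInstance : IsIso M.fromTildeΓ)
  let e := topEquiv hU F
  let t : Q ⟶ (moduleSpecΓFunctor (R := S)).obj T := (tilde.isoTop Q).hom
  have he : ∀ (r : Γ(X, U)) (y : Γ(M, ⊤)), e (r • y) = r • e y := fun r y => by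
    simp only [e, topEquiv]
    rw [secEquiv_smul hU F ⊤ _ le_rfl, resFun_self]
  let mkQ : Γ(F, U) → Q := fun z => Submodule.Quotient.mk z
  have hQ : ∀ (r : Γ(X, U)) z, mkQ (r • z) = (Ideal.Quotient.mk J r : S) • mkQ z := fun r z => rfl
  let g : (moduleSpecΓFunctor (R := Γ(X, U))).obj M ⟶ (moduleSpecΓFunctor (R := Γ(X, U))).obj N :=
    ModuleCat.ofHom (X := Γ(M, (⊤ : (Spec Γ(X, U)).Opens)))
      (Y := Γ(N, (⊤ : (Spec Γ(X, U)).Opens)))
      { toFun := fun y => t (mkQ (e y))
        map_add' := fun a b => by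
          rw [map_add]
          exact map_add t.hom (mkQ (e a)) (mkQ (e b))
        map_smul' := fun r y => by
          refine (congrArg (fun z => t (mkQ z)) (he r y)).trans ?_
          rw [hQ]
          refine (t.hom.map_smul (Ideal.Quotient.mk J r : S) _).trans ?_
          exact (smul_pushforward_top f T r _).symm }
  obtain ⟨φ, hφ⟩ := exists_map_eq_of_counit (tilde.adjunction (R := Γ(X, U))) M g
  have hφ' : ∀ y : Γ(M, ⊤), φ.app ⊤ y = t (mkQ (e y)) := fun y =>
    congr($hφ y)
  let q : F ⟶ (Scheme.Modules.pushforward hU.fromSpec).obj N :=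
    (Scheme.Modules.restrictAdjunction hU.fromSpec).homEquiv _ _ φ
  -- `q` factors through the unit
  let k : Spec S ⟶ I.subscheme := I.subschemeCover.f ⟨U, hU⟩
  have hk : k ≫ I.subschemeι = π ≫ hU.fromSpec :=
    (I.subschemeCover_map_subschemeι ⟨U, hU⟩).trans (I.glueDataObjι_ι ⟨U, hU⟩)
  let eN : (Scheme.Modules.pushforward hU.fromSpec).obj N ≅
      (Scheme.Modules.pushforward I.subschemeι).obj ((Scheme.Modules.pushforward k).obj T) :=
    (Scheme.Modules.pushforwardComp π hU.fromSpec).app T ≪≫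
      (Scheme.Modules.pushforwardCongr hk.symm).app T ≪≫
        ((Scheme.Modules.pushforwardComp k I.subschemeι).app T).symm
  have hq : q.app U x = 0 := by
    let adj := Scheme.Modules.pullbackPushforwardAdjunction I.subschemeι
    have hfac : q ≫ eN.hom =
        u ≫ (Scheme.Modules.pushforward I.subschemeι).map ((adj.homEquiv _ _).symm (q ≫ eN.hom)) := by
      conv_lhs => rw [← Equiv.apply_symm_apply (adj.homEquiv _ _) (q ≫ eN.hom)]
      rw [Adjunction.homEquiv_unit]
    have h1 : (q ≫ eN.hom).app U x = 0 := by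
      rw [hfac, Scheme.Modules.Hom.comp_app, ConcreteCategory.comp_apply, hx, map_zero]
    refine app_injective_of_mono eN.hom U ?_
    rw [map_zero]
    exact h1
  -- evaluate `q`
  have hval : φ.app ⊤ (e.symm x) = 0 := by
    let z : Γ(M, hU.fromSpec ⁻¹ᵁ U) := res F (hU.fromSpec.image_preimage_le U) x
    have h2 : φ.app (hU.fromSpec ⁻¹ᵁ U) z = 0 := hq
    have h3 := congrArg (res N (hU.fromSpec_preimage_self.ge : ⊤ ≤ hU.fromSpec ⁻¹ᵁ U)) h2
    rw [map_zero, res_app] at h3
    refine Eq.trans ?_ h3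
    congr 1
    apply e.injective
    rw [AddEquiv.apply_symm_apply]
    simp only [e, topEquiv, secEquiv_apply]
    change x = res F _ (res F (hU.fromSpec.opensFunctor.map
      (homOfLE (hU.fromSpec_preimage_self.ge : ⊤ ≤ hU.fromSpec ⁻¹ᵁ U))).le
        (res F (hU.fromSpec.image_preimage_le U) x))
    rw [res_res, res_res, res_self]
  rw [hφ', AddEquiv.apply_symm_apply] at hval
  have hinj : Function.Injective t :=
    (ConcreteCategory.bijective_of_isIso (tilde.isoTop Q).hom).1
  exact (Submodule.Quotient.mk_eq_zero _).1 (hinj (hval.trans (map_zero t.hom).symm))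

lemma app_idealMulι_eq (I : X.IdealSheafData) (F : X.Modules) (U : X.Opens) (x : Γ(F, U)) :
    x ∈ Set.range ((Dual3.idealMulι I F).app U) ↔
      ((Scheme.Modules.pullbackPushforwardAdjunction I.subschemeι).unit.app F).app U x = 0 := by
  let u := (Scheme.Modules.pullbackPushforwardAdjunction I.subschemeι).unit.app F
  constructor
  · rintro ⟨y, rfl⟩
    change (kernel.ι u ≫ u).app U y = 0
    rw [kernel.condition]
    rfl
  · exact exists_app_eq_of_mono_exact (S := ShortComplex.mk _ _ (kernel.condition u))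
      (ShortComplex.exact_of_f_is_kernel _ (kernelIsKernel u)) U x

/-- The sections of `I · F` over an affine open. -/
theorem mem_range_idealMulι_iff (I : X.IdealSheafData) (F : X.Modules) [F.IsQuasicoherent]
    {U : X.Opens} (hU : IsAffineOpen U) (x : Γ(F, U)) :
    x ∈ Set.range ((Dual3.idealMulι I F).app U) ↔
      x ∈ I.ideal ⟨U, hU⟩ • (⊤ : Submodule Γ(X, U) Γ(F, U)) :=
  (app_idealMulι_eq I F U x).trans (unit_app_eq_zero_iff I F hU x)

/-- `I · F` is quasi-coherent. -/
theorem isQCoh_idealMul (I : X.IdealSheafData) (F : X.Modules) [F.IsQuasicoherent] :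
    ((Dual3.idealMul I).obj F).IsQuasicoherent := by
  let ι := Dual3.idealMulι I F
  refine isQCoh_of_forall_affine _ (fun U hU f s => ?_) (fun U hU f t ht => ?_)
  · let c := resFun X (X.basicOpen_le f) f
    let P := fun z : Γ(F, X.basicOpen f) => ∃ (n : ℕ) (t : Γ(F, U)),
      t ∈ I.ideal ⟨U, hU⟩ • (⊤ : Submodule Γ(X, U) Γ(F, U)) ∧
        res F (X.basicOpen_le f) t = c ^ n • z
    have hadd : ∀ z z', P z → P z' → P (z + z') := by
      rintro z z' ⟨n, t, ht, e⟩ ⟨m, t', ht', e'⟩
      refine ⟨n + m, f ^ m • t + f ^ n • t', Submodule.add_mem _ (Submodule.smul_mem _ _ ht)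
        (Submodule.smul_mem _ _ ht'), ?_⟩
      rw [map_add, res_smul, res_smul, map_pow, map_pow, e, e', smul_add, ← mul_smul, ← mul_smul,
        ← pow_add, ← pow_add, add_comm m n]
    have hzero : P 0 := ⟨0, 0, Submodule.zero_mem _, by simp⟩
    have hsmul : ∀ (a : Γ(X, X.basicOpen f)) z, P z → P (a • z) := by
      rintro a z ⟨n, t, ht, e⟩
      haveI := hU.isLocalization_basicOpen f
      obtain ⟨⟨b, _, k, rfl⟩, hb⟩ := IsLocalization.surj (Submonoid.powers f) a
      refine ⟨k + n, b • t, Submodule.smul_mem _ _ ht, ?_⟩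
      have hb' : a * c ^ k = resFun X (X.basicOpen_le f) b := by
        rw [← map_pow]; exact hb
      rw [res_smul, e, ← hb', ← mul_smul, ← mul_smul]
      congr 1
      ring
    have hgen : ∀ a ∈ I.ideal ⟨U, hU⟩, ∀ m : Γ(F, X.basicOpen f),
        P (resFun X (X.basicOpen_le f) a • m) := by
      intro a ha m
      obtain ⟨n, t, ht⟩ := exists_pow_smul_eq_res F hU f m
      refine ⟨n, a • t, Submodule.smul_mem_smul ha trivial, ?_⟩
      rw [res_smul, ht, smul_comm]
    have hP : P (ι.app _ s) := by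
      refine Submodule.smul_induction_on
        ((mem_range_idealMulι_iff I F (hU.basicOpen f) _).1 ⟨s, rfl⟩) (fun r hr m _ => ?_) hadd
      have hr' : r ∈ (I.ideal ⟨U, hU⟩).map (resFun X (X.basicOpen_le f)) :=
        (I.map_ideal_basicOpen ⟨U, hU⟩ f).ge hr
      induction hr' using Submodule.span_induction with
      | mem z hz =>
        obtain ⟨a, ha, rfl⟩ := hz
        exact hgen a ha m
      | zero => rw [zero_smul]; exact hzero
      | add a b _ _ ha hb => rw [add_smul]; exact hadd _ _ (ha ((I.map_ideal_basicOpen ⟨U, hU⟩ f).le ‹_›)) (hb ((I.map_ideal_basicOpen ⟨U, hU⟩ f).le ‹_›))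
      | smul d a _ ha =>
        rw [smul_eq_mul, mul_smul]
        exact hsmul _ _ (ha ((I.map_ideal_basicOpen ⟨U, hU⟩ f).le ‹_›))
    obtain ⟨n, t, ht, e⟩ := hP
    obtain ⟨t', ht'⟩ := (mem_range_idealMulι_iff I F hU t).2 ht
    refine ⟨n, t', app_injective_of_mono ι _ ?_⟩
    rw [← res_app, ι.app_smul]
    exact (congrArg (res F (X.basicOpen_le f)) ht').trans e
  · obtain ⟨n, hn⟩ := exists_pow_smul_eq_zero F hU f (ι.app U t) (by
      rw [res_app, ht, map_zero])
    refine ⟨n, app_injective_of_mono ι _ ?_⟩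
    rw [ι.app_smul, map_zero, hn]

/-- `I · F` is coherent for coherent `F`. -/
theorem isCoh_idealMul [IsLocallyNoetherian X] (I : X.IdealSheafData) (F : X.Modules)
    (hF : Coh.IsCoh F) : Coh.IsCoh ((Dual3.idealMul I).obj F) :=
  haveI := hF.1
  haveI := isQCoh_idealMul I F
  isCoh_of_mono (Dual3.idealMulι I F) hF

end Groth.CohTwo
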