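import Groth.Agent.CohTwo.FiniteSum
import Groth.Agent.CohTwo.PushClosed
import Groth.Agent.S9523
import Mathlib.Algebra.Module.Torsion.Basic
import Mathlib.LinearAlgebra.Dimension.Free

/-!
The comparison step of dévissage: modules killed at a generic point against a witness.
-/

universe u

open CategoryTheory CategoryTheory.Limits AlgebraicGeometry TopologicalSpace Opposite

namespace Groth.CohTwo

open Groth.QCohMod hiding res res_res res_smul

/-- Two finite modules killed by the maximal ideal have isomorphic powers. -/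
theorem exists_equiv_powers {R : Type*} [CommRing R] [IsLocalRing R] {M N : Type*}
    [AddCommGroup M] [Module R M] [AddCommGroup N] [Module R N] [Module.Finite R M]
    [Module.Finite R N] [Nontrivial N]
    (hM : ∀ a ∈ IsLocalRing.maximalIdeal R, ∀ m : M, a • m = 0)
    (hN : ∀ a ∈ IsLocalRing.maximalIdeal R, ∀ m : N, a • m = 0) :
    ∃ n m : ℕ, 1 ≤ n ∧ Nonempty ((Fin n → M) ≃ₗ[R] (Fin m → N)) := by
  let I := IsLocalRing.maximalIdeal R
  have tM : Module.IsTorsionBySet R M I := fun m a => hM a.1 a.2 m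
  have tN : Module.IsTorsionBySet R N I := fun m a => hN a.1 a.2 m
  letI : Module (R ⧸ I) M := tM.module
  letI : Module (R ⧸ I) N := tN.module
  haveI : IsScalarTower R (R ⧸ I) M := tM.isScalarTower
  haveI : IsScalarTower R (R ⧸ I) N := tN.isScalarTower
  letI := Ideal.Quotient.field I
  haveI := Module.Finite.of_restrictScalars_finite R (R ⧸ I) M
  haveI := Module.Finite.of_restrictScalars_finite R (R ⧸ I) N
  refine ⟨Module.finrank (R ⧸ I) N, Module.finrank (R ⧸ I) M, Module.finrank_pos, ⟨?_⟩⟩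
  refine (LinearEquiv.ofFinrankEq (R := R ⧸ I) (Fin (Module.finrank (R ⧸ I) N) → M)
    (Fin (Module.finrank (R ⧸ I) M) → N) ?_).restrictScalars R
  rw [Module.finrank_pi_fintype, Module.finrank_pi_fintype]
  simp [mul_comm]

variable {X : Scheme.{u}} [IsNoetherian X]

/-- Coherent modules killed by the maximal ideal at `ξ` have powers with isomorphic stalks at `ξ`. -/
theorem exists_pow_stalk_iso {F G : X.Modules} (hF : Coh.IsCoh F) (hG : Coh.IsCoh G) (ξ : X)
    [Nontrivial ↑(G.presheaf.stalk ξ)]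
    (hFk : ∀ a ∈ IsLocalRing.maximalIdeal (X.presheaf.stalk ξ), ∀ m : ↑(F.presheaf.stalk ξ), a • m = 0)
    (hGk : ∀ a ∈ IsLocalRing.maximalIdeal (X.presheaf.stalk ξ), ∀ m : ↑(G.presheaf.stalk ξ), a • m = 0) :
    ∃ n m : ℕ, 1 ≤ n ∧ Nonempty (↑((powMod F n).presheaf.stalk ξ) ≃ₗ[X.presheaf.stalk ξ]
      ↑((powMod G m).presheaf.stalk ξ)) := by
  haveI := hF.1
  haveI := hG.1
  haveI := finite_stalk F hF.2 ξ
  haveI := finite_stalk G hG.2 ξ
  obtain ⟨n, m, hn, ⟨e⟩⟩ := exists_equiv_powers hFk hGk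
  exact ⟨n, m, hn, ⟨(powStalk F n ξ).trans (e.trans (powStalk G m ξ).symm)⟩⟩

/-- The cokernel of a monomorphism bijective at `ξ`. -/
theorem coker_small {A B : X.Modules} (hA : Coh.IsCoh A) (hB : Coh.IsCoh B) (φ : A ⟶ B) {Y : Set X}
    (hBY : CohB1.support B ⊆ Y) {ξ : X} (hφ : Function.Bijective ((stalk ξ).map φ)) :
    Coh.IsCoh (cokernel φ) ∧ CohB1.support (cokernel φ) ⊆ Y ∧ ξ ∉ CohB1.support (cokernel φ) := by
  haveI := hA.1
  exact ⟨isCoh_cokernel φ hB, (support_subset_of_epi (cokernel.π φ)).trans hBY,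
    notMem_support_cokernel φ ξ hφ.2⟩

/-- Step for properties with the two-out-of-three implications. -/
theorem step_two (P : X.Modules → Prop) (h0 : ∀ M : X.Modules, IsZero M → P M)
    (ha : ∀ S : ShortComplex X.Modules, S.ShortExact → Coh.IsCoh S.X₁ → Coh.IsCoh S.X₂ → Coh.IsCoh S.X₃ →
      (P S.X₂ → P S.X₃ → P S.X₁) ∧ (P S.X₁ → P S.X₃ → P S.X₂))
    (hb : ∀ (F : X.Modules) (d : ℕ), 1 ≤ d → Coh.IsCoh F → P (∐ fun _ : Fin d => F) → P F)
    {Y : Set X} {ξ : X} (hsmall : ∀ M : X.Modules, Coh.IsCoh M → CohB1.support M ⊆ Y →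
      ξ ∉ CohB1.support M → P M)
    {G : X.Modules} (hG : Coh.IsCoh G) (hGP : P G) (hGY : CohB1.support G ⊆ Y)
    [Nontrivial ↑(G.presheaf.stalk ξ)]
    (hGk : ∀ a ∈ IsLocalRing.maximalIdeal (X.presheaf.stalk ξ), ∀ m : ↑(G.presheaf.stalk ξ), a • m = 0)
    {F : X.Modules} (hF : Coh.IsCoh F) (hFY : CohB1.support F ⊆ Y)
    (hFk : ∀ a ∈ IsLocalRing.maximalIdeal (X.presheaf.stalk ξ), ∀ m : ↑(F.presheaf.stalk ξ), a • m = 0) :
    P F := by
  obtain ⟨n, m, hn, ⟨e⟩⟩ := exists_pow_stalk_iso hF hG ξ hFk hGk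
  refine hb F n hn hF ?_
  have hFn := isCoh_powMod hF n
  have hGm := isCoh_powMod hG m
  haveI := hFn.1
  obtain ⟨J, γ, hξJ, hγ, hbij⟩ := exists_graft hFn hGm ξ e.toLinearMap e.bijective
  have hJ := isCoh_idealMul J (powMod F n) hFn
  obtain ⟨hc1, hc2, hc3⟩ := coker_small hJ hGm γ ((support_powMod_subset G m).trans hGY) hbij
  have hPJ : P ((Dual3.idealMul J).obj (powMod F n)) :=
    (ha (cokerSeq γ) (cokerSeq_shortExact γ) hJ hGm hc1).1
      (powMod_induction P h0 (fun S hS a b c => (ha S hS a b c).2) hG hGP m)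
      (hsmall _ hc1 hc2 hc3)
  obtain ⟨hd1, hd2, hd3⟩ := coker_small hJ hFn (Dual3.idealMulι J (powMod F n))
    ((support_powMod_subset F n).trans hFY) (bijective_stalk_idealMulι J (powMod F n) hξJ)
  exact (ha _ (cokerSeq_shortExact (Dual3.idealMulι J (powMod F n))) hJ hFn hd1).2 hPJ
    (hsmall _ hd1 hd2 hd3)

/-- Step for properties stable under extensions and summands of powers, with witnesses below `J · G`. -/
theorem step_ext (P : X.Modules → Prop) (h0 : ∀ M : X.Modules, IsZero M → P M)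
    (hext : ∀ S : ShortComplex X.Modules, S.ShortExact → Coh.IsCoh S.X₁ → Coh.IsCoh S.X₂ →
      Coh.IsCoh S.X₃ → P S.X₁ → P S.X₃ → P S.X₂)
    (h2 : ∀ (F : X.Modules) (r : ℕ), Coh.IsCoh F → 1 ≤ r → P (∐ fun _ : Fin r => F) → P F)
    {Y : Set X} {ξ : X} (hsmall : ∀ M : X.Modules, Coh.IsCoh M → CohB1.support M ⊆ Y →
      ξ ∉ CohB1.support M → P M)
    {G : X.Modules} (hG : Coh.IsCoh G)
    [Nontrivial ↑(G.presheaf.stalk ξ)]
    (hGk : ∀ a ∈ IsLocalRing.maximalIdeal (X.presheaf.stalk ξ), ∀ m : ↑(G.presheaf.stalk ξ), a • m = 0)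
    (hwit : ∀ J : X.IdealSheafData, ξ ∉ (J.support : Set X) →
      ∃ (G' : X.Modules) (ι' : G' ⟶ (Dual3.idealMul J).obj G), Mono ι' ∧ Coh.IsQCoh G' ∧
        Function.Bijective ((stalk ξ).map (ι' ≫ Dual3.idealMulι J G)) ∧ P G')
    {F : X.Modules} (hF : Coh.IsCoh F) (hFY : CohB1.support F ⊆ Y)
    (hFk : ∀ a ∈ IsLocalRing.maximalIdeal (X.presheaf.stalk ξ), ∀ m : ↑(F.presheaf.stalk ξ), a • m = 0) :
    P F := by
  obtain ⟨n, m, hn, ⟨e⟩⟩ := exists_pow_stalk_iso hF hG ξ hFk hGk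
  refine h2 F n hF hn ?_
  have hFn := isCoh_powMod hF n
  have hGm := isCoh_powMod hG m
  haveI := hGm.1
  haveI := hG.1
  obtain ⟨J, γ, hξJ, hγ, hbij⟩ := exists_graft hGm hFn ξ e.symm.toLinearMap e.symm.bijective
  obtain ⟨G', ι', hι', hq, hb, hP⟩ := hwit J hξJ
  haveI : G'.IsQuasicoherent := hq
  let δ : powMod G' m ⟶ (Dual3.idealMul J).obj (powMod G m) :=
    Sigma.desc fun i => ι' ≫ (Dual3.idealMul J).map (Sigma.ι (fun _ : Fin m => G) i)
  have hδ : δ ≫ Dual3.idealMulι J (powMod G m) = powMap (ι' ≫ Dual3.idealMulι J G) m :=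
    Sigma.hom_ext _ _ fun i => by
      simp only [δ, powMap, Sigma.ι_desc_assoc, Sigma.ι_desc, Category.assoc, Dual3.idealMul_map_ι]
  haveI : Mono δ := mono_of_mono_fac hδ
  have hG' : Coh.IsCoh G' := isCoh_of_mono (ι' ≫ Dual3.idealMulι J G) hG
  have hδb : Function.Bijective ((stalk ξ).map δ) := by
    refine bijective_of_comp_left _ _ (bijective_stalk_idealMulι J (powMod G m) hξJ) ?_
    rw [← Functor.map_comp, hδ]
    exact bijective_powMap _ m ξ hb
  have hGm' := isCoh_powMod hG' m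
  have hbb : Function.Bijective ((stalk ξ).map (δ ≫ γ)) := by
    rw [Functor.map_comp, ConcreteCategory.coe_comp]
    exact hbij.comp hδb
  obtain ⟨hc1, hc2, hc3⟩ := coker_small hGm' hFn (δ ≫ γ) ((support_powMod_subset F n).trans hFY) hbb
  exact hext _ (cokerSeq_shortExact (δ ≫ γ)) hGm' hFn hc1
    (powMod_induction P h0 hext hG' hP m) (hsmall _ hc1 hc2 hc3)

/-- The direct image from the reduced closure of `ξ` as a witness. -/
theorem push_closure_witness {ξ : X} {Y : Closeds X} (hY : (Y : Set X) = closure {ξ})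
    [IsIntegral (Scheme.IdealSheafData.vanishingIdeal Y).subscheme]
    (H : (Scheme.IdealSheafData.vanishingIdeal Y).subscheme.Modules) (hH : Coh.IsCoh H)
    (hne : Nontrivial (H.presheaf.stalk
      (genericPoint ↥(Scheme.IdealSheafData.vanishingIdeal Y).subscheme))) :
    let G := (Scheme.Modules.pushforward (Scheme.IdealSheafData.vanishingIdeal Y).subschemeι).obj H
    Coh.IsCoh G ∧ CohB1.support G ⊆ Y ∧ Nontrivial ↑(G.presheaf.stalk ξ) ∧
      ∀ a ∈ IsLocalRing.maximalIdeal (X.presheaf.stalk ξ), ∀ m : ↑(G.presheaf.stalk ξ), a • m = 0 := by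
  intro G
  let i := (Scheme.IdealSheafData.vanishingIdeal Y).subschemeι
  haveI := hH.1
  haveI := isQCoh_pushforward H i
  have hr : Set.range i = (Y : Set X) := Groth.PropsBasic2.range_vanishingIdeal_subschemeι Y
  refine ⟨isCoh_push i hH, (support_push_subset i H).trans hr.le, ?_,
    fun a ha m => (killed_push_subschemeι _ H).stalk_maximalIdeal hY a ha m⟩
  rw [← apply_genericPoint_eq i (hr.trans hY)]
  exact (Equiv.ofBijective _ (bijective_pushStalk i H _)).nontrivial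

end Groth.CohTwo
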