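import Groth.Agent.CohTwo.Extend
import Groth.Prelude.Def_DCoh4

/-!
`F ⊗ below O_X V ⟶ F` is a monomorphism; tensoring sends the inclusions `below O_X U ⟶ below O_X V`
to monomorphisms, so a sheaf Hom into an injective module is flasque.
-/

universe u

open CategoryTheory CategoryTheory.Limits AlgebraicGeometry TopologicalSpace Opposite MonoidalCategory

namespace Groth.CohTwo

variable {X : Scheme.{u}}

/-- `below O_X V`. -/
noncomputable abbrev belowO (X : Scheme.{u}) (V : X.Opens) : X.Modules :=
  below (Coh.structureModule X) V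

/-- A section of `below O_X V` as a function. -/
noncomputable def coefO {V W : X.Opens} (a : Γ(belowO X V, W)) : Γ(X, W) :=
  (belowι (Coh.structureModule X) V).app W a

lemma coefO_add {V W : X.Opens} (a b : Γ(belowO X V, W)) : coefO (a + b) = coefO a + coefO b :=
  map_add ((belowι (Coh.structureModule X) V).app W).hom a b

lemma coefO_smul {V W : X.Opens} (r : Γ(X, W)) (a : Γ(belowO X V, W)) :
    coefO (r • a) = r * coefO a :=
  (belowι (Coh.structureModule X) V).app_smul r a

lemma coefO_res {V W W' : X.Opens} (h : W' ≤ W) (a : Γ(belowO X V, W)) :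
    coefO (res (belowO X V) h a) = resR X h (coefO a) :=
  app_res (belowι (Coh.structureModule X) V) h a

lemma coefO_injective {V W : X.Opens} : Function.Injective (coefO (V := V) (W := W)) :=
  belowι_app_injective W

/-- The section `1` of `below O_X V` over an open inside `V`. -/
noncomputable def oneSec {V W : X.Opens} (hW : W ≤ V) : Γ(belowO X V, W) :=
  belowMk (C := Coh.structureModule X) (show Γ(Coh.structureModule X, W) from (1 : Γ(X, W)))
    (.of_le hW _)

@[simp] lemma coefO_oneSec {V W : X.Opens} (hW : W ≤ V) : coefO (oneSec (X := X) hW) = 1 := rfl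

lemma coefO_incl {U V W : X.Opens} (hUV : U ≤ V) (a : Γ(belowO X U, W)) :
    coefO ((belowIncl (Coh.structureModule X) hUV).app W a) = coefO a :=
  congr(($(belowIncl_ι (C := Coh.structureModule X) hUV)).app W a)

/-- The sections of the presheaf tensor product, with transparent types. -/
abbrev PT (F : X.Modules) (V W : X.Opens) : Type u :=
  TensorProduct Γ(X, W) Γ(F, W) Γ(belowO X V, W)

/-- The presheaf tensor product with `below O_X V`. -/
noncomputable abbrev tensorPreBelow (F : X.Modules) (V : X.Opens) : CohB1.PMod X :=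
  DCoh.toP.obj F ⊗ DCoh.toP.obj (belowO X V)

/-- `s ⊗ a ↦ a • s` on sections. -/
noncomputable def mulLin (F : X.Modules) (V W : X.Opens) : PT F V W →ₗ[Γ(X, W)] Γ(F, W) :=
  TensorProduct.lift (LinearMap.mk₂ Γ(X, W) (fun s a => coefO a • s)
    (fun s s' a => smul_add (coefO a) s s') (fun r s a => smul_comm (coefO a) r s)
    (fun s a a' => by rw [coefO_add, add_smul]) (fun r s a => by rw [coefO_smul, mul_smul]))

lemma mulLin_tmul (F : X.Modules) (V W : X.Opens) (s : Γ(F, W)) (a : Γ(belowO X V, W)) :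
    mulLin F V W (s ⊗ₜ a) = coefO a • s := rfl

/-- Restriction of the presheaf tensor product. -/
noncomputable def ptRes (F : X.Modules) (V : X.Opens) {W' W : X.Opens} (h : W' ≤ W) :
    PT F V W →+ PT F V W' :=
  ((tensorPreBelow F V).presheaf.map (homOfLE h).op).hom

lemma ptRes_tmul (F : X.Modules) (V : X.Opens) {W' W : X.Opens} (h : W' ≤ W) (s : Γ(F, W))
    (a : Γ(belowO X V, W)) : ptRes F V h (s ⊗ₜ a) = res F h s ⊗ₜ res (belowO X V) h a := rfl

lemma ptRes_ptRes (F : X.Modules) (V : X.Opens) {A B W : X.Opens} (h : A ≤ B) (h' : B ≤ W)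
    (p : PT F V W) : ptRes F V h (ptRes F V h' p) = ptRes F V (h.trans h') p :=
  congr($((tensorPreBelow F V).presheaf.map_comp (homOfLE h').op (homOfLE h).op).hom p).symm

lemma mulLin_ptRes (F : X.Modules) (V : X.Opens) {W' W : X.Opens} (h : W' ≤ W) (p : PT F V W) :
    mulLin F V W' (ptRes F V h p) = res F h (mulLin F V W p) := by
  induction p using TensorProduct.induction_on with
  | zero => simp
  | add p q hp hq => simp [hp, hq]
  | tmul s a => rw [ptRes_tmul, mulLin_tmul, mulLin_tmul, res_smul, coefO_res]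

/-- `s ⊗ a ↦ a • s`. -/
noncomputable def smulPre (F : X.Modules) (V : X.Opens) : tensorPreBelow F V ⟶ DCoh.toP.obj F :=
  PresheafOfModules.homMk
    { app := fun W => AddCommGrpCat.ofHom (mulLin F V W.unop).toAddMonoidHom
      naturality := fun W W' i => by
        ext p
        exact mulLin_ptRes F V (leOfHom i.unop) p }
    (fun W r p => (mulLin F V W.unop).map_smul r p)

/-- The sheafified multiplication map `F ⊗ below O_X V ⟶ F`. -/
noncomputable def tensorBelowMul (F : X.Modules) (V : X.Opens) :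
    ((DCoh.tensorBi (X := X)).obj F).obj (belowO X V) ⟶ F :=
  ((PresheafOfModules.sheafificationAdjunction (𝟙 X.ringCatSheaf.obj)).homEquiv
    (tensorPreBelow F V) F).symm (smulPre F V)

/-- The unit of sheafification at `F ⊗ below O_X V`. -/
noncomputable def tensorBelowUnit (F : X.Modules) (V : X.Opens) :
    tensorPreBelow F V ⟶ (((DCoh.tensorBi (X := X)).obj F).obj (belowO X V)).val :=
  (PresheafOfModules.sheafificationAdjunction (𝟙 X.ringCatSheaf.obj)).unit.app (tensorPreBelow F V)

/-- The unit on sections. -/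
noncomputable def ptUnit (F : X.Modules) (V W : X.Opens) :
    PT F V W →+ Γ(((DCoh.tensorBi (X := X)).obj F).obj (belowO X V), W) :=
  (((PresheafOfModules.toPresheaf _).map (tensorBelowUnit F V)).app (op W)).hom

lemma ptUnit_res (F : X.Modules) (V : X.Opens) {W' W : X.Opens} (h : W' ≤ W) (p : PT F V W) :
    ptUnit F V W' (ptRes F V h p) = res _ h (ptUnit F V W p) :=
  congr($(((PresheafOfModules.toPresheaf _).map (tensorBelowUnit F V)).naturality
    (homOfLE h).op).hom p)

lemma tensorBelowUnit_mul (F : X.Modules) (V W : X.Opens) (p : PT F V W) :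
    (tensorBelowMul F V).app W (ptUnit F V W p) = mulLin F V W p := by
  have h := ((PresheafOfModules.sheafificationAdjunction (𝟙 X.ringCatSheaf.obj)).homEquiv
    (tensorPreBelow F V) F).apply_symm_apply (smulPre F V)
  exact congr(($h).app (op W) p)

/-- Near a point of `V` every element of the presheaf tensor product is `s ⊗ 1`. -/
lemma tensorPre_inside (F : X.Modules) (V W : X.Opens) (hW : W ≤ V) (p : PT F V W) :
    p = mulLin F V W p ⊗ₜ[Γ(X, W)] oneSec hW := by
  induction p using TensorProduct.induction_on with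
  | zero => rw [map_zero, TensorProduct.zero_tmul]
  | add p q hp hq => rw [map_add, TensorProduct.add_tmul, ← hp, ← hq]
  | tmul s a =>
    rw [mulLin_tmul, TensorProduct.smul_tmul]
    congr 1
    refine coefO_injective ?_
    rw [coefO_smul, coefO_oneSec, mul_one]

lemma tensorPre_outside (F : X.Modules) (V W : X.Opens) (p : PT F V W) (x : X) (hx : x ∈ W)
    (hxV : x ∉ V) : ∃ (W' : X.Opens) (h : W' ≤ W), x ∈ W' ∧ ptRes F V h p = 0 := by
  induction p using TensorProduct.induction_on with
  | zero => exact ⟨W, le_rfl, hx, map_zero _⟩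
  | add p q hp hq =>
    obtain ⟨A, hA, hxA, h1⟩ := hp
    obtain ⟨B, hB, hxB, h2⟩ := hq
    refine ⟨A ⊓ B, inf_le_left.trans hA, ⟨hxA, hxB⟩, ?_⟩
    rw [map_add, ← ptRes_ptRes F V inf_le_left hA, h1,
      ← ptRes_ptRes F V (inf_le_right : A ⊓ B ≤ B) hB, h2, map_zero, map_zero, add_zero]
  | tmul s a =>
    obtain ⟨A, hA, hxA, h0⟩ := vanishOff_below (C := Coh.structureModule X) a x hx hxV
    exact ⟨A, hA, hxA, by rw [ptRes_tmul, h0, TensorProduct.tmul_zero]⟩

lemma ptUnit_locally_surjective (F : X.Modules) (V W : X.Opens)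
    (t : Γ(((DCoh.tensorBi (X := X)).obj F).obj (belowO X V), W)) (x : X) (hx : x ∈ W) :
    ∃ (W' : X.Opens) (h : W' ≤ W) (p : PT F V W'), x ∈ W' ∧ ptUnit F V W' p = res _ h t := by
  have hs : Presheaf.IsLocallySurjective (Opens.grothendieckTopology X)
      (CategoryTheory.toSheafify (Opens.grothendieckTopology X) (tensorPreBelow F V).presheaf) :=
    inferInstance
  obtain ⟨W', i, ⟨p, hp⟩, hxW'⟩ := hs.imageSieve_mem t x hx
  exact ⟨W', leOfHom i, p, hxW', hp⟩

lemma mono_tensorBelowMul (F : X.Modules) (V : X.Opens) : Mono (tensorBelowMul F V) := by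
  refine (mono_iff_app_injective _).2 fun W => (injective_iff_map_eq_zero _).2 fun t ht => ?_
  refine eq_of_local _ _ _ fun x hx => ?_
  obtain ⟨W', h, p, hxW', hp⟩ := ptUnit_locally_surjective F V W t x hx
  have hp0 : mulLin F V W' p = 0 := by
    rw [← tensorBelowUnit_mul, hp, app_res, ht, map_zero]
  obtain ⟨W'', h'', hxW'', h0⟩ : ∃ (W'' : X.Opens) (h'' : W'' ≤ W'), x ∈ W'' ∧
      ptRes F V h'' p = 0 := by
    by_cases hxV : x ∈ V
    · refine ⟨W' ⊓ V, inf_le_left, ⟨hxW', hxV⟩, ?_⟩
      rw [tensorPre_inside F V (W' ⊓ V) inf_le_right (ptRes F V inf_le_left p), mulLin_ptRes, hp0,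
        map_zero, TensorProduct.zero_tmul]
    · exact tensorPre_outside F V W' p x hxW' hxV
  exact ⟨W'', h''.trans h, hxW'', by
    rw [map_zero, ← res_res _ h'' h, ← hp, ← ptUnit_res, h0, map_zero]⟩

lemma mulLin_incl (F : X.Modules) {U V : X.Opens} (hUV : U ≤ V) (W : X.Opens) (s : Γ(F, W))
    (a : Γ(belowO X U, W)) :
    mulLin F V W (s ⊗ₜ (belowIncl (Coh.structureModule X) hUV).app W a) =
      mulLin F U W (s ⊗ₜ a) := by
  rw [mulLin_tmul, mulLin_tmul, coefO_incl]

lemma smulPre_incl (F : X.Modules) {U V : X.Opens} (hUV : U ≤ V) :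
    (DCoh.toP.obj F ◁ DCoh.toP.map (belowIncl (Coh.structureModule X) hUV)) ≫ smulPre F V =
      smulPre F U := by
  ext W : 1
  refine ModuleCat.MonoidalCategory.tensor_ext (fun s a => ?_)
  exact mulLin_incl F hUV W.unop s a

lemma tensor_incl_mul (F : X.Modules) {U V : X.Opens} (hUV : U ≤ V) :
    ((DCoh.tensorBi (X := X)).obj F).map (belowIncl (Coh.structureModule X) hUV) ≫
      tensorBelowMul F V = tensorBelowMul F U := by
  have h := Adjunction.homEquiv_naturality_left_symm
    (PresheafOfModules.sheafificationAdjunction (𝟙 X.ringCatSheaf.obj)) (Y := F)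
    (DCoh.toP.obj F ◁ DCoh.toP.map (belowIncl (Coh.structureModule X) hUV)) (smulPre F V)
  unfold tensorBelowMul
  rw [← smulPre_incl F hUV]
  exact h.symm

lemma mono_tensor_map_belowIncl (F : X.Modules) {U V : X.Opens} (hUV : U ≤ V) :
    Mono (((DCoh.tensorBi (X := X)).obj F).map (belowIncl (Coh.structureModule X) hUV)) :=
  have : Mono (((DCoh.tensorBi (X := X)).obj F).map (belowIncl (Coh.structureModule X) hUV) ≫
      tensorBelowMul F V) := by
    rw [tensor_incl_mul]
    exact mono_tensorBelowMul F U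
  mono_of_mono _ (tensorBelowMul F V)

/-- Sections over `U` correspond to morphisms out of `below O_X U`. -/
lemma exists_sectionHom (M : X.Modules) {U : X.Opens} (s : Γ(M, U)) :
    ∃ φ : belowO X U ⟶ M, φ.app U (oneSec le_rfl) = s := by
  let a : ∀ W, W ≤ U → Γ(X, W) →+ Γ(M, W) := fun W h =>
    (smulAddHom Γ(X, W) Γ(M, W)).flip (res M h s)
  have ha : ∀ W h (r r' : Γ(X, W)), a W h (r * r') = r • a W h r' :=
    fun W h r r' => mul_smul r r' (res M h s)
  have hr : ∀ W' W (h' : W' ≤ W) (h : W ≤ U) (r : Γ(X, W)),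
      a W' (h'.trans h) (resR X h' r) = res M h' (a W h r) := by
    intro W' W h' h r
    change resR X h' r • res M (h'.trans h) s = res M h' (r • res M h s)
    rw [res_smul, res_res]
  let g : HomOn (Coh.structureModule X) M U :=
    { app := fun W h => (show Γ(Coh.structureModule X, W) →+ Γ(M, W) from a W h)
      map_smul := fun W h r r' => ha W h r r'
      res_app := fun {W' W} h' h r => hr W' W h' h r }
  obtain ⟨φ, hφ⟩ := exists_glueHom (ι := PUnit.{u + 1}) (fun _ => U) U (fun _ => le_rfl)
    (fun x hx => ⟨⟨⟩, hx⟩) (fun _ => g) (fun _ _ _ _ _ _ => rfl)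
  refine ⟨φ, (hφ ⟨⟩ U le_rfl _).trans ?_⟩
  change (1 : Γ(X, U)) • res M le_rfl s = s
  rw [one_smul, res_rfl]

/-- A sheaf Hom into an injective module is flasque. -/
theorem sheafHom_restriction_surjective (F I : X.Modules) [DCoh.HasSheafHom F] [Injective I]
    {U V : X.Opens} (hUV : U ≤ V) (s : Γ((DCoh.sheafHom F).obj I, U)) :
    ∃ t : Γ((DCoh.sheafHom F).obj I, V), res _ hUV t = s := by
  obtain ⟨φ, hφ⟩ := exists_sectionHom _ s
  let adj := DCoh.sheafHomAdj F
  have := mono_tensor_map_belowIncl F hUV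
  let ψ := Injective.factorThru ((adj.homEquiv _ _).symm φ)
    (((DCoh.tensorBi (X := X)).obj F).map (belowIncl (Coh.structureModule X) hUV))
  let φ' : belowO X V ⟶ (DCoh.sheafHom F).obj I := adj.homEquiv _ _ ψ
  have e : belowIncl (Coh.structureModule X) hUV ≫ φ' = φ := by
    rw [← Adjunction.homEquiv_naturality_left, Injective.comp_factorThru, Equiv.apply_symm_apply]
  refine ⟨φ'.app V (oneSec le_rfl), ?_⟩
  rw [← app_res, ← hφ, ← e, Scheme.Modules.Hom.comp_app, ConcreteCategory.comp_apply]
  congr 1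
  refine coefO_injective ?_
  rw [coefO_res, coefO_incl, coefO_oneSec, coefO_oneSec, map_one]

end Groth.CohTwo
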