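import Groth.Agent.CohTwo.Graft
import Groth.Agent.QCohMod.SupportPullback
import Groth.Agent.PropsBasic2.Reduced
import Mathlib.Topology.Sober

/-!
Induction on coherent modules through the closed subsets of a Noetherian scheme (dévissage).
-/

universe u

open CategoryTheory CategoryTheory.Limits AlgebraicGeometry TopologicalSpace Opposite

namespace Groth.CohTwo

open Groth.QCohMod hiding res res_res res_smul

variable {X : Scheme.{u}}

/-! ### Supports -/

lemma notMem_support_iff (M : X.Modules) (x : X) :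
    x ∉ CohB1.support M ↔ Subsingleton ↑((stalk x).obj M) := not_not

lemma support_subset_of_mono {M N : X.Modules} (f : M ⟶ N) [Mono f] :
    CohB1.support M ⊆ CohB1.support N := fun x hx h =>
  hx (haveI : Subsingleton ↑((stalk x).obj N) := h
    Function.Injective.subsingleton ((mono_iff_stalk f).1 inferInstance x))

lemma support_subset_of_epi {M N : X.Modules} (f : M ⟶ N) [Epi f] :
    CohB1.support N ⊆ CohB1.support M := fun x hx h =>
  hx (haveI : Subsingleton ↑((stalk x).obj M) := h
    Function.Surjective.subsingleton ((epi_iff_stalk f).1 inferInstance x))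

lemma notMem_support_cokernel {M N : X.Modules} (f : M ⟶ N) (x : X)
    (h : Function.Surjective ((stalk x).map f)) : x ∉ CohB1.support (cokernel f) := by
  rw [notMem_support_iff]
  haveI := (AddCommGrpCat.epi_iff_surjective _).2 h
  exact AddCommGrpCat.subsingleton_of_isZero
    ((isZero_cokernel_of_epi ((stalk x).map f)).of_iso (PreservesCokernel.iso (stalk x) f))

/-- The short complex `M ⟶ N ⟶ N/M` of a monomorphism. -/
noncomputable abbrev cokerSeq {M N : X.Modules} (f : M ⟶ N) : ShortComplex X.Modules :=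
  ShortComplex.mk f (cokernel.π f) (cokernel.condition f)

lemma cokerSeq_shortExact {M N : X.Modules} (f : M ⟶ N) [Mono f] : (cokerSeq f).ShortExact :=
  { exact := ShortComplex.exact_of_g_is_cokernel _ (cokernelIsCokernel f)
    mono_f := ‹_›
    epi_g := inferInstanceAs (Epi (cokernel.π f)) }

/-- `F` is killed by `J` if `J · F = 0`. -/
def Killed (J : X.IdealSheafData) (F : X.Modules) : Prop := Dual3.idealMulι J F = 0

lemma Killed.smul_eq_zero {J : X.IdealSheafData} {F : X.Modules} (h : Killed J F)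
    [F.IsQuasicoherent] {V : X.Opens} (hV : IsAffineOpen V) {a : Γ(X, V)}
    (ha : a ∈ J.ideal ⟨V, hV⟩) (m : Γ(F, V)) : a • m = 0 := by
  obtain ⟨w, hw⟩ := (mem_range_idealMulι_iff J F hV _).2
    (Submodule.smul_mem_smul ha (trivial : m ∈ (⊤ : Submodule Γ(X, V) Γ(F, V))))
  rw [← hw, show Dual3.idealMulι J F = 0 from h]
  rfl

lemma killed_of_smul_eq_zero {J : X.IdealSheafData} {F : X.Modules} [F.IsQuasicoherent]
    (h : ∀ (V : X.Opens) (hV : IsAffineOpen V), ∀ a ∈ J.ideal ⟨V, hV⟩, ∀ m : Γ(F, V), a • m = 0) :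
    Killed J F := by
  haveI := isQCoh_idealMul J F
  refine eq_zero_of_affine_cover _ (fun V : X.affineOpens => V.1) (fun V => V.2)
    (fun x => by
      obtain ⟨V, hV, hx⟩ := exists_affine_mem x
      exact ⟨⟨V, hV⟩, hx⟩) fun V s => ?_
  refine Submodule.smul_induction_on ((mem_range_idealMulι_iff J F V.2 _).1 ⟨s, rfl⟩)
    (fun r hr m _ => h V.1 V.2 r hr m) (fun a b ha hb => by rw [ha, hb, add_zero])

lemma Killed.support_subset {J : X.IdealSheafData} {F : X.Modules} [F.IsQuasicoherent]
    (h : Killed J F) : CohB1.support F ⊆ (J.support : Set X) := by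
  intro x hx
  by_contra hxJ
  refine hx ?_
  obtain ⟨-, hsurj⟩ := bijective_stalk_idealMulι J F hxJ
  haveI : Subsingleton ↑((stalk x).obj F) := subsingleton_of_forall_eq 0 fun t => by
    obtain ⟨s, rfl⟩ := hsurj t
    rw [show Dual3.idealMulι J F = 0 from h, Functor.map_zero]
    rfl
  exact this

/-- A coherent module supported in `V(I)` is killed by a power of `I`. -/
theorem exists_killed_pow [IsNoetherian X] {F : X.Modules} (hF : Coh.IsCoh F)
    (I : X.IdealSheafData) (h : CohB1.support F ⊆ (I.support : Set X)) :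
    ∃ n, Killed (I ^ n) F := by
  let U : X.Opens := ⟨(I.support : Set X)ᶜ, I.support.2.isOpen_compl⟩
  obtain ⟨N, ι, hι, hN⟩ := Groth.Agent.S9516.result X F F hF.1 hF I U rfl 0
    (Dual3.idealMulι (I ^ 0) F) (by
      refine IsZero.eq_of_tgt ((isZero_iff_stalk _).2 fun y => subsingleton_stalk_restrict F U y ?_) _ _
      exact fun hy => y.2 (h hy))
  exact ⟨N, hι.symm.trans hN⟩

lemma isIso_idealMulι_pow_zero (I : X.IdealSheafData) (F : X.Modules) [F.IsQuasicoherent] :
    IsIso (Dual3.idealMulι (I ^ 0) F) := by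
  refine isIso_of_stalk _ fun x => (ConcreteCategory.isIso_iff_bijective _).2
    (bijective_stalk_idealMulι _ F ?_)
  rw [pow_zero, Scheme.IdealSheafData.one_eq_top, Scheme.IdealSheafData.support_top]
  exact id

/-! ### Generic points -/

/-- The reduced ideal of the closure of a point is its prime on affine opens containing it. -/
theorem vanishingIdeal_closure_ideal {ξ : X} {Y : Closeds X} (hY : (Y : Set X) = closure {ξ})
    {V : X.Opens} (hV : IsAffineOpen V) (hξ : ξ ∈ V) :
    (Scheme.IdealSheafData.vanishingIdeal Y).ideal ⟨V, hV⟩ = (hV.primeIdealOf ⟨ξ, hξ⟩).asIdeal := by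
  rw [Scheme.IdealSheafData.vanishingIdeal_ideal]
  change PrimeSpectrum.vanishingIdeal (hV.fromSpec ⁻¹' (Y : Set X)) = _
  have e1 : hV.fromSpec ⁻¹' ({ξ} : Set X) =
      ({hV.primeIdealOf ⟨ξ, hξ⟩} : Set ↥(Spec Γ(X, V))) := by
    ext p
    constructor
    · intro hp
      exact hV.fromSpec.isOpenEmbedding.injective
        ((Set.mem_singleton_iff.1 hp).trans (hV.fromSpec_primeIdealOf ⟨ξ, hξ⟩).symm)
    · rintro rfl
      exact hV.fromSpec_primeIdealOf ⟨ξ, hξ⟩
  have e2 := hV.fromSpec.isOpenEmbedding.isOpenMap.preimage_closure_eq_closure_preimage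
    hV.fromSpec.continuous ({ξ} : Set X)
  rw [e1, ← hY] at e2
  refine (congrArg PrimeSpectrum.vanishingIdeal e2).trans ?_
  exact (PrimeSpectrum.vanishingIdeal_closure _).trans (PrimeSpectrum.vanishingIdeal_singleton _)

/-- A module killed by the reduced ideal of `closure {ξ}` has stalk at `ξ` killed by the maximal
ideal. -/
theorem Killed.stalk_maximalIdeal {ξ : X} {Y : Closeds X} (hY : (Y : Set X) = closure {ξ})
    {F : X.Modules} [F.IsQuasicoherent] (h : Killed (Scheme.IdealSheafData.vanishingIdeal Y) F)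
    (a : X.presheaf.stalk ξ) (ha : a ∈ IsLocalRing.maximalIdeal (X.presheaf.stalk ξ))
    (m : ↑(F.presheaf.stalk ξ)) : a • m = 0 := by
  obtain ⟨V, hV, hξ⟩ := exists_affine_mem ξ
  obtain ⟨s, b, hs, hb⟩ := exists_smul_germ_eq (Coh.structureModule X) hV ξ hξ
    ((LinearMap.toSpanSingleton (X.presheaf.stalk ξ) ((Coh.structureModule X).presheaf.stalk ξ)
      ((Coh.structureModule X).presheaf.germ ⊤ ξ trivial
        (show Γ(Coh.structureModule X, ⊤) from (1 : Γ(X, ⊤))))) a)
  have hu := (Scheme.mem_basicOpen X s ξ hξ).1 hs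
  let b' : Γ(X, V) := b
  have hab : X.presheaf.germ V ξ hξ s * a = X.presheaf.germ V ξ hξ b' := by
    apply (bijective_toSpanSingleton_one ξ).1
    rw [← smul_eq_mul, map_smul]
    refine hb.trans ?_
    rw [LinearMap.toSpanSingleton_apply]
    rw [← stalk_germ_res (Coh.structureModule X) ξ (le_top : V ≤ ⊤) hξ, ← stalk_germ_smul]
    congr 1
    change b = b' * resR X le_top 1
    rw [map_one]
    exact (mul_one b').symm
  have hbJ : b' ∈ (Scheme.IdealSheafData.vanishingIdeal Y).ideal ⟨V, hV⟩ := by
    rw [vanishingIdeal_closure_ideal hY hV hξ]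
    by_contra hb'
    have h1 := (Scheme.mem_basicOpen X b' ξ hξ).1
      ((mem_basicOpen_iff_notMem_primeIdealOf hV b' ξ hξ).2 hb')
    rw [← hab] at h1
    exact (IsLocalRing.mem_maximalIdeal _).1 ha (isUnit_of_mul_isUnit_right h1)
  obtain ⟨c, t, hc, hct⟩ := exists_smul_germ_eq F hV ξ hξ m
  refine hu.smul_left_cancel.1 ?_
  refine ((Scheme.mem_basicOpen X c ξ hξ).1 hc).smul_left_cancel.1 ?_
  rw [smul_zero, smul_zero, ← mul_smul (X.presheaf.germ V ξ hξ s), hab, smul_comm, hct,
    ← stalk_germ_smul, h.smul_eq_zero hV hbJ, map_zero]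

/-! ### The induction -/

variable [IsNoetherian X]

/-- Dévissage: a property of coherent modules stable under extensions holds for all coherent modules
supported in `X'` as soon as it holds, by induction, for modules killed by the reduced ideal of an
irreducible closed subset. -/
theorem coh_induction (P : X.Modules → Prop)
    (hiso : ∀ M N : X.Modules, Nonempty (M ≅ N) → P M → P N)
    (h0 : ∀ M : X.Modules, IsZero M → P M)
    (hext : ∀ S : ShortComplex X.Modules, S.ShortExact → Coh.IsCoh S.X₁ → Coh.IsCoh S.X₂ →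
      Coh.IsCoh S.X₃ → P S.X₁ → P S.X₃ → P S.X₂)
    (X' : Set X)
    (hprim : ∀ (Y : Closeds X) (ξ : X), (Y : Set X) = closure {ξ} → (Y : Set X) ⊆ X' →
      ∀ F : X.Modules, Coh.IsCoh F → Killed (Scheme.IdealSheafData.vanishingIdeal Y) F →
        (∀ G : X.Modules, Coh.IsCoh G → CohB1.support G ⊆ Y → ξ ∉ CohB1.support G → P G) → P F)
    (hX' : IsClosed X') (F : X.Modules) (hF : Coh.IsCoh F) (hsupp : CohB1.support F ⊆ X') :
    P F := by
  suffices h : ∀ Y : Closeds X, (Y : Set X) ⊆ X' → ∀ F : X.Modules, Coh.IsCoh F →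
      CohB1.support F ⊆ Y → P F from h ⟨X', hX'⟩ subset_rfl F hF hsupp
  clear F hF hsupp
  intro Y
  induction Y using WellFoundedLT.induction with
  | ind Y ih =>
  intro hYX F hF hsupp
  have hproper : ∀ (Y' : Closeds X), Y' < Y → ∀ G : X.Modules, Coh.IsCoh G →
      CohB1.support G ⊆ Y' → P G := fun Y' hlt =>
    ih Y' hlt ((SetLike.coe_subset_coe.2 hlt.le).trans hYX)
  rcases Set.eq_empty_or_nonempty (Y : Set X) with hY0 | hYne
  · exact h0 F ((isZero_iff_support_eq_empty F).2 (Set.subset_eq_empty hsupp hY0))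
  by_cases hirr : IsPreirreducible (Y : Set X)
  · -- the irreducible case
    obtain ⟨ξ, hξ⟩ := QuasiSober.sober ⟨hYne, hirr⟩ Y.2
    have hY : (Y : Set X) = closure {ξ} := hξ.symm
    let J := Scheme.IdealSheafData.vanishingIdeal Y
    obtain ⟨n, hn⟩ := exists_killed_pow hF J hsupp
    haveI := hF.1
    have hξsmall : ∀ G : X.Modules, Coh.IsCoh G → CohB1.support G ⊆ Y → ξ ∉ CohB1.support G →
        P G := fun G hG hGY hξG => by
      let Y' : Closeds X := ⟨CohB1.support G, isClosed_support G hG⟩
      refine hproper Y' (lt_of_le_of_ne hGY fun e => hξG ?_) G hG subset_rfl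
      have : ξ ∈ (Y' : Set X) := by
        rw [e, hY]
        exact subset_closure rfl
      exact this
    have step : ∀ k, k ≤ n → P ((Dual3.idealMul (J ^ (n - k))).obj F) := by
      intro k
      induction k with
      | zero =>
        intro _
        exact h0 _ ((IsZero.iff_id_eq_zero _).2 (by
          rw [← cancel_mono (Dual3.idealMulι (J ^ (n - 0)) F), Category.id_comp, zero_comp]
          exact hn))
      | succ k ihk =>
        intro hk
        haveI := isQCoh_idealMul (J ^ (n - k)) F
        haveI := isQCoh_idealMul (J ^ (n - (k + 1))) F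
        obtain ⟨ι, hι⟩ := exists_pow_incl J (n := n - (k + 1)) (N := n - k) (by omega) F
        haveI : Mono ι := mono_of_mono_fac hι
        have hc2 := isCoh_idealMul (J ^ (n - (k + 1))) F hF
        have hc3 := isCoh_cokernel ι hc2
        haveI := hc3.1
        refine hext _ (cokerSeq_shortExact ι) (isCoh_idealMul _ F hF) hc2 hc3 (ihk (by omega)) ?_
        refine hprim Y ξ hY hYX _ hc3 (killed_of_smul_eq_zero fun V hV a ha m => ?_) hξsmall
        obtain ⟨m', rfl⟩ := app_surjective_of_epi (cokernel.π ι) hV m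
        rw [← Scheme.Modules.Hom.app_smul]
        obtain ⟨z, hz⟩ : (Dual3.idealMulι (J ^ (n - (k + 1))) F).app V (a • m') ∈
            Set.range ((Dual3.idealMulι (J ^ (n - k)) F).app V) := by
          rw [range_idealMulι_pow J (n - k) F hV, Scheme.Modules.Hom.app_smul,
            show n - k = (n - (k + 1)) + 1 by omega, pow_succ', Submodule.mul_smul]
          exact Submodule.smul_mem_smul ha
            ((range_idealMulι_pow J (n - (k + 1)) F hV _).1 ⟨m', rfl⟩)
        have hz' : ι.app V z = a • m' := Groth.QCohMod.app_injective_of_mono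
          (Dual3.idealMulι (J ^ (n - (k + 1))) F) _ ((congr(($hι).app V z)).trans hz)
        rw [← hz']
        exact congr(($(cokernel.condition ι)).app V z)
    haveI := isIso_idealMulι_pow_zero J F
    have h := step n le_rfl
    rw [Nat.sub_self] at h
    exact hiso _ _ ⟨asIso (Dual3.idealMulι (J ^ 0) F)⟩ h
  · -- the reducible case
    rw [isPreirreducible_iff_isClosed_union_isClosed] at hirr
    push Not at hirr
    obtain ⟨Z₁, Z₂, hZ₁, hZ₂, hsub, hn₁, hn₂⟩ := hirr
    let Y₁ : Closeds X := ⟨(Y : Set X) ∩ Z₁, Y.2.inter hZ₁⟩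
    let Y₂ : Closeds X := ⟨(Y : Set X) ∩ Z₂, Y.2.inter hZ₂⟩
    have hlt₁ : Y₁ < Y := lt_of_le_of_ne Set.inter_subset_left fun e =>
      hn₁ (by rw [← e]; exact Set.inter_subset_right)
    have hlt₂ : Y₂ < Y := lt_of_le_of_ne Set.inter_subset_left fun e =>
      hn₂ (by rw [← e]; exact Set.inter_subset_right)
    haveI := hF.1
    let J₁ := Scheme.IdealSheafData.vanishingIdeal Y₁
    let J₂ := Scheme.IdealSheafData.vanishingIdeal Y₂
    obtain ⟨m, hm⟩ := exists_killed_pow hF (J₁ * J₂) (by
      intro x hx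
      rw [Scheme.IdealSheafData.support_mul]
      rcases hsub (hsupp hx) with h | h
      · exact Or.inl ⟨hsupp hx, h⟩
      · exact Or.inr ⟨hsupp hx, h⟩)
    haveI := isQCoh_idealMul (J₁ ^ m) F
    have hA := isCoh_idealMul (J₁ ^ m) F hF
    have hC := isCoh_cokernel (Dual3.idealMulι (J₁ ^ m) F) hF
    refine hext _ (cokerSeq_shortExact (Dual3.idealMulι (J₁ ^ m) F)) hA hF hC
      (hproper Y₂ hlt₂ _ hA ?_) (hproper Y₁ hlt₁ _ hC ?_)
    · have hk : Killed (J₂ ^ m) ((Dual3.idealMul (J₁ ^ m)).obj F) :=
        killed_of_smul_eq_zero fun V hV a ha w => by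
          refine Groth.QCohMod.app_injective_of_mono (Dual3.idealMulι (J₁ ^ m) F) _ ?_
          rw [map_zero, Scheme.Modules.Hom.app_smul]
          refine Submodule.smul_induction_on ((range_idealMulι_pow J₁ m F hV _).1 ⟨w, rfl⟩)
            (fun r hr z _ => ?_) (fun p q hp hq => by rw [smul_add, hp, hq, add_zero])
          rw [← mul_smul]
          refine hm.smul_eq_zero hV ?_ z
          rw [mul_pow, Scheme.IdealSheafData.ideal_mul, Pi.mul_apply, mul_comm a r]
          refine Ideal.mul_mem_mul ?_ ha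
          rwa [Scheme.IdealSheafData.ideal_pow, Pi.pow_apply]
      intro x hx
      have h1 := hk.support_subset hx
      by_contra hx2
      exact notMem_support_pow J₂ (x := x) hx2 m h1
    · intro x hx
      by_contra hx1
      exact notMem_support_cokernel _ x
        (bijective_stalk_idealMulι _ F (notMem_support_pow J₁ (x := x) hx1 m)).2 hx

end Groth.CohTwo
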