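import Groth.Agent.CohBase.ExchangeStmt
import Groth.Agent.CohBase.FibreConsequences
import Groth.Agent.CohFin.ProjFinite
import Groth.Prelude.Def_PerfAux

/-!
A finite free complex over an affine base computing both the exchange functors and the fibres.
-/

universe u

open CategoryTheory Limits AlgebraicGeometry TopologicalSpace Opposite HomologicalComplex
open scoped TensorProduct

namespace Groth.CohTwo

open Groth.CohBase CxRank FlatCxBase

variable {A : Type u} [CommRing A] {X : Scheme.{u}} [X.Over (Spec (CommRingCat.of A))]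

/-- The residue map of a point of `Spec A`. -/
noncomputable def resHom (A : Type u) [CommRing A] (y : ↥(Spec (CommRingCat.of A))) :
    CommRingCat.of A ⟶ (Spec (CommRingCat.of A)).residueField y :=
  Spec.preimage ((Spec (CommRingCat.of A)).fromSpecResidueField y)

lemma map_resHom (y : ↥(Spec (CommRingCat.of A))) :
    Spec.map (resHom A y) = (Spec (CommRingCat.of A)).fromSpecResidueField y :=
  Spec.map_preimage _

lemma ker_resHom (y : ↥(Spec (CommRingCat.of A))) :
    RingHom.ker (resHom A y).hom = y.asIdeal := by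
  let p : ↥(Spec ((Spec (CommRingCat.of A)).residueField y)) := ⟨⊥, Ideal.isPrime_bot⟩
  have h : (Spec.map (resHom A y)) p = y := by
    rw [map_resHom]
    exact Scheme.fromSpecResidueField_apply y p
  exact congrArg PrimeSpectrum.asIdeal h

/-- A finite free complex computing `M ↦ H^p(X, F ⊗ M)` and the fibre dimensions. -/
structure IsFibreModel (A : Type u) [CommRing A] (X : Scheme.{u})
    [X.Over (Spec (CommRingCat.of A))] (F : X.Modules)
    (L : CochainComplex (ModuleCat.{u} A) ℤ) : Prop where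
  finite : ∀ i, Module.Finite A (L.X i)
  free : ∀ i, Module.Free A (L.X i)
  bdd : ∃ b : ℤ, ∀ i, b < i → IsZero (L.X i)
  isZero_neg : ∀ (j : ℤ), j < 0 → ∀ M : ModuleCat.{u} A, IsZero (CohIII.T L j M)
  tensor : ∀ p : ℕ, Nonempty (CohIII.TFun L (p : ℤ) ⋙ forget₂ (ModuleCat.{u} A) AddCommGrpCat.{u} ≅
      CohIII.tensorAFunctor A F ⋙ CohIII.HAb X p)
  self : ∀ p : ℕ, Nonempty (Coh.HH X F p ≃ₗ[A] Hk L (p : ℤ))
  fiberRank_eq : ∀ (p : ℕ) (y : ↥(Spec (CommRingCat.of A))) (K : Type u) [Field K] [Algebra A K],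
    RingHom.ker (algebraMap A K) = y.asIdeal →
    CohIII.fiberRank (X ↘ Spec (CommRingCat.of A)) F p y =
      Module.finrank K (LinearMap.ker ((dq L (p : ℤ)).baseChange K))

lemma IsFibreModel.flat {F : X.Modules} {L : CochainComplex (ModuleCat.{u} A) ℤ}
    (h : IsFibreModel A X F L) (i : ℤ) : Module.Flat A (L.X i) :=
  have := h.free i
  inferInstance

/-- Existence of the model. -/
theorem exists_isFibreModel [IsNoetherianRing A] [IsProper (X ↘ Spec (CommRingCat.of A))]
    (F : X.Modules) (hF : Coh.IsCoh F)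
    (hfl : FlatMod.IsFlatOver (X ↘ Spec (CommRingCat.of A)) F) :
    ∃ L, IsFibreModel A X F L := by
  let f := X ↘ Spec (CommRingCat.of A)
  have := CohFin.compactSpace_of_proper f
  have := CohFin.isSeparated_of_proper f
  have := hF.1
  obtain ⟨G⟩ := exists_goodCover X
  obtain ⟨L, φ, hL, hb, hq⟩ := exists_finiteFree_qis A G F hfl fun p =>
    CohFin.hFin_of_proper CohFin.projFinite p X f F hF
  have : ∀ i, Module.Finite A (L.X i) := fun i => (hL i).1
  refine ⟨L, fun i => (hL i).1, fun i => (hL i).2, hb, fun j hj M => ?_,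
    fun p => ⟨Functor.isoWhiskerRight (tFunIso φ p hq) _ ≪≫ tensorIso A G F p⟩, fun p => ?_,
    fun p y K _ _ hK => ?_⟩
  · refine IsZero.of_iso ?_ ((tFunIso φ j hq).app M)
    refine (FlatCxBase.isZero_T_iff _ (FlatCxBase.cochain_prev j) (FlatCxBase.cochain_next j) M).2
      fun x _ => ⟨0, ?_⟩
    have := ModuleCat.subsingleton_of_isZero (isZero_cxA_of_neg A G.U F hj)
    exact Subsingleton.elim _ _
  · exact ⟨(selfLinIso A G F p).symm.trans
      (((tFunIso φ (p : ℤ) hq).app (ModuleCat.of A A)).toLinearEquiv.symm.trans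
        (tOneEquiv L (p : ℤ)))⟩
  · let k := (Spec (CommRingCat.of A)).residueField y
    let : Algebra A k := (resHom A y).hom.toAlgebra
    let : (f.fiber y).Over (Spec (CommRingCat.of k)) := ⟨f.fiberToSpecResidueField y⟩
    have hsq : IsBC (A := A) (A' := k) (f.fiberι y) := by
      change IsPullback (f.fiberι y) (f.fiberToSpecResidueField y) f (Spec.map (resHom A y))
      rw [map_resHom]
      exact IsPullback.of_hasPullback f _
    obtain ⟨e, he⟩ := exists_bcEquiv hsq F G p
    let Kk : ModuleCat.{u} A := ModuleCat.of A k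
    let η := tFunIso φ (p : ℤ) hq
    let e' : LinearMap.ker ((dq L (p : ℤ)).rTensor Kk) ≃+ CohIII.fiberH f F y p :=
      (tKerEquiv L Kk (p : ℤ)).symm.toAddEquiv.trans ((η.app Kk).toLinearEquiv.toAddEquiv.trans e)
    obtain ⟨t⟩ := exists_ker_baseChange_equiv (K := k) (dq L (p : ℤ)) e' fun b z w h => by
      let m : Kk ⟶ Kk := ModuleCat.ofHom (LinearMap.mul A k b)
      obtain ⟨a, rfl⟩ := (tKerEquiv L Kk (p : ℤ)).surjective z
      have hw : w = tKerEquiv L Kk (p : ℤ) ((CohIII.TFun L (p : ℤ)).map m a) :=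
        Subtype.ext (h.trans (tKerEquiv_map L Kk (p : ℤ) m a).symm)
      subst hw
      change e ((η.app Kk).toLinearEquiv ((tKerEquiv L Kk (p : ℤ)).symm (tKerEquiv L Kk (p : ℤ) _))) =
        b • (show CohIII.fiberH f F y p from
          e ((η.app Kk).toLinearEquiv ((tKerEquiv L Kk (p : ℤ)).symm (tKerEquiv L Kk (p : ℤ) a))))
      rw [LinearEquiv.symm_apply_apply, LinearEquiv.symm_apply_apply]
      have hnat : (η.app Kk).toLinearEquiv ((CohIII.TFun L (p : ℤ)).map m a) =
          (CohIII.TFun (cxA A G.U F) (p : ℤ)).map m ((η.app Kk).toLinearEquiv a) :=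
        congr($(η.hom.naturality m) a)
      rw [hnat, he]
    exact t.finrank_eq.symm.trans (CxRank.finrank_ker_eq L _ y _ K (ker_resHom y) hK)

end Groth.CohTwo
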