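import Groth.Agent.CohTwo.PointDecomposition
import Groth.Agent.SiteCohomology.ModulesGrothendieck
import Groth.Agent.SiteCohomology.SchemeModules
import Mathlib.CategoryTheory.ObjectProperty.FullSubcategory

/-!
Quasi-coherent injectives on a locally Noetherian scheme are injective modules.
-/

universe u

open CategoryTheory CategoryTheory.Limits AlgebraicGeometry TopologicalSpace Opposite

namespace Groth.CohTwo.QCohInj

open Groth.CohTwo Groth.CohTwo.PtSummand Groth.CohTwo.PtDecomp

variable {X : Scheme.{u}} [IsLocallyNoetherian X]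

/-- The maximal ideal acts locally nilpotently on the stalk of the summand. -/
def Tors {I : X.Modules} (p : Pt I) : Prop :=
  ∀ (e : p.A), ∀ a ∈ IsLocalRing.maximalIdeal (X.presheaf.stalk p.pt), ∃ n : ℕ, a ^ n • e = 0

/-- A summand without the torsion property has no torsion at all. -/
theorem eq_zero_of_not_tors {I : X.Modules} {p : Pt I} (hp : p.Good) (h : ¬ Tors p) (e : p.A)
    (he : ∀ a ∈ IsLocalRing.maximalIdeal (X.presheaf.stalk p.pt), ∃ n : ℕ, a ^ n • e = 0) :
    e = 0 := by
  obtain ⟨q, hq, f, hf⟩ := GrothMatlis.exists_prime_hull hp.indec hp.inj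
  have hle : q ≤ IsLocalRing.maximalIdeal (X.presheaf.stalk p.pt) :=
    IsLocalRing.le_maximalIdeal hq.ne_top
  obtain ⟨a, ha, haq⟩ : ∃ a ∈ IsLocalRing.maximalIdeal (X.presheaf.stalk p.pt), a ∉ q := by
    by_contra hne
    push Not at hne
    exact h fun e' a ha => InjQCoh.exists_pow_smul_hull hf e' (hne a ha)
  obtain ⟨n, hn⟩ := he a ha
  exact (GrothMatlis.smul_bijective_hull q hf
    (fun hmem => haq (hq.mem_of_pow_mem n hmem))).1 (hn.trans (smul_zero _).symm)

open Groth.QCohMod in
/-- A quasi-coherent submodule of a sum of skyscrapers is detected by the torsion ones. -/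
theorem germ_eq_zero {I : X.Modules} {ι : Type u} (p : ι → Pt I) (hp : ∀ i, (p i).Good)
    (K : X.Modules) [K.IsQuasicoherent] (α : K ⟶ ∐ fun i => SkyMod.sky (p i).pt (p i).A) [Mono α]
    (comp : ∀ i, (∐ fun i => SkyMod.sky (p i).pt (p i).A) ⟶ SkyMod.sky (p i).pt (p i).A)
    (hcomp : ∀ i, Sigma.ι (fun i => SkyMod.sky (p i).pt (p i).A) i ≫ comp i = 𝟙 _)
    (hcomp' : ∀ i j, i ≠ j → Sigma.ι (fun i => SkyMod.sky (p i).pt (p i).A) j ≫ comp i = 0)
    (htors : ∀ i, Tors (p i) → α ≫ comp i = 0)
    {W : X.Opens} (k : Γ(K, W)) (y : X) (hy : y ∈ W) : K.presheaf.germ W y hy k = 0 := by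
  classical
  let P := fun i => SkyMod.sky (p i).pt (p i).A
  obtain ⟨F, v, hv⟩ := exists_stalk_sum P y ((∐ P).presheaf.germ W y hy (α.app W k))
  let ki : ∀ i, Γ(P i, W) := fun i => (α ≫ comp i).app W k
  have hki : ∀ i ∈ F, (P i).presheaf.germ W y hy (ki i) = v i := by
    intro i hi
    change (P i).presheaf.germ W y hy ((comp i).app W (α.app W k)) = v i
    rw [← stalkLin_germ (comp i) y hy, hv, map_sum, Finset.sum_eq_single i]
    · rw [← stalkLin_comp, hcomp, stalkLin_id]
    · intro j _ hne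
      rw [← stalkLin_comp, hcomp' i j (Ne.symm hne), stalkLin_zero]
    · exact fun h => absurd hi h
  let G := F.filter fun i => v i ≠ 0
  rcases G.eq_empty_or_nonempty with hG | hG
  · have h0 : (∐ P).presheaf.germ W y hy (α.app W k) = 0 := by
      rw [hv]
      refine Finset.sum_eq_zero fun i hi => ?_
      rw [show v i = 0 from by_contra fun hne =>
        absurd (Finset.mem_filter.2 ⟨hi, hne⟩) (by rw [show F.filter (fun i => v i ≠ 0) = G from rfl, hG]; simp),
        map_zero]
    exact stalkLin_injective α y (by rw [stalkLin_germ, h0, map_zero])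
  exfalso
  -- `α k` is the sum of the components in `G` near `y`
  have hsum : (∐ P).presheaf.germ W y hy (α.app W k) =
      (∐ P).presheaf.germ W y hy (∑ i ∈ G, (Sigma.ι P i).app W (ki i)) := by
    rw [map_sum, hv]
    refine ((Finset.sum_filter_of_ne (s := F) (p := fun i => v i ≠ 0) fun i _ h h0 => h ?_).symm).trans
      (Finset.sum_congr rfl fun i hi => ?_)
    · rw [h0, map_zero]
    · rw [← stalkLin_germ (Sigma.ι P i) y hy, hki i (Finset.mem_filter.1 hi).1]
  obtain ⟨W', hyW', i₁, i₂, hW'⟩ := TopCat.Presheaf.germ_eq (∐ P).presheaf y hy hy _ _ hsum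
  have hxW' : ∀ i ∈ G, (p i).pt ∈ W' := by
    intro i hi
    by_contra hx
    refine (Finset.mem_filter.1 hi).2 ?_
    rw [← hki i (Finset.mem_filter.1 hi).1, ← stalk_germ_res (P i) y i₁.le hyW']
    have := (SkyMod.isPointAt_sky (p i).pt (p i).A).zero W' hx
    rw [Subsingleton.elim (res (P i) i₁.le (ki i)) 0, map_zero]
  obtain ⟨i₀, hi₀, hmax⟩ := G.exists_maximalFor (fun i => closure ({(p i).pt} : Set X)) hG
  let x := (p i₀).pt
  let C : Set X := ⋃ j ∈ {j ∈ (G : Set ι) | ¬ (p j).pt ⤳ x}, closure {(p j).pt}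
  have hCc : IsClosed C :=
    (G.finite_toSet.subset fun j hj => hj.1).isClosed_biUnion fun _ _ => isClosed_closure
  have hxC : x ∉ C := by
    simp only [C, Set.mem_iUnion, not_exists]
    intro j hj h
    exact hj.2 (specializes_iff_mem_closure.2 h)
  obtain ⟨_, ⟨V, hV, rfl⟩, hxV, hVle⟩ := X.isBasis_affineOpens.exists_subset_of_mem_open
    (show x ∈ (W' : Set X) \ C from ⟨hxW' i₀ hi₀, hxC⟩) (W'.2.sdiff hCc)
  have hVW' : V ≤ W' := fun z hz => (hVle hz).1
  have hVW : V ≤ W := hVW'.trans i₁.le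
  have hrest : ∀ j ∈ G, (p j).pt ∈ V → (p j).pt = x := by
    intro j hj hjV
    have hjx : (p j).pt ⤳ x := by
      by_contra hn
      refine (hVle hjV).2 ?_
      simp only [C, Set.mem_iUnion]
      exact ⟨j, ⟨hj, hn⟩, subset_closure rfl⟩
    have hxj : x ⤳ (p j).pt := specializes_iff_closure_subset.2
      (hmax hj (specializes_iff_closure_subset.1 hjx))
    exact (hjx.antisymm hxj).eq
  -- functions vanishing at `x` kill the component at `x`
  let e₀ : (p i₀).A := (show PLift (x ∈ W) → (p i₀).A from ki i₀) ⟨hVW hxV⟩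
  have hkill : ∀ f : Γ(X, V), x ∉ X.basicOpen f → ∃ n : ℕ,
      X.presheaf.germ V x hxV f ^ n • e₀ = 0 := by
    intro f hf
    have hD : X.basicOpen f ≤ V := X.basicOpen_le f
    have h0 : res K (hD.trans hVW) k = 0 := by
      refine app_injective α _ ?_
      rw [app_res, map_zero, ← res_res (∐ P) (hD.trans hVW') i₁.le,
        show res (∐ P) i₁.le (α.app W k) = res (∐ P) i₁.le (∑ i ∈ G, (Sigma.ι P i).app W (ki i)) from hW',
        res_res, map_sum]
      refine Finset.sum_eq_zero fun j hj => ?_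
      rw [← app_res]
      have hxj : (p j).pt ∉ X.basicOpen f := fun h => hf (hrest j hj (hD h) ▸ h)
      have := (SkyMod.isPointAt_sky (p j).pt (p j).A).zero _ hxj
      rw [Subsingleton.elim (res (P j) (hD.trans hVW) (ki j)) 0, map_zero]
    obtain ⟨n, hn⟩ := exists_pow_smul_eq_zero K hV f (res K hVW k)
      ((res_res K hD hVW k).trans h0)
    refine ⟨n, ?_⟩
    have h1 : f ^ n • res (P i₀) hVW (ki i₀) = 0 := by
      have := congrArg ((α ≫ comp i₀).app V) hn
      rwa [Scheme.Modules.Hom.app_smul, app_res, map_zero] at this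
    have h2 := congrFun h1 ⟨hxV⟩
    rw [← map_pow]
    exact h2
  have hnt : ¬ Tors (p i₀) := fun h => by
    refine (Finset.mem_filter.1 hi₀).2 ?_
    rw [← hki i₀ (Finset.mem_filter.1 hi₀).1]
    change (P i₀).presheaf.germ W y hy ((α ≫ comp i₀).app W k) = 0
    rw [htors i₀ h]
    exact map_zero _
  have he₀ : e₀ = 0 := by
    refine eq_zero_of_not_tors (hp i₀) hnt e₀ fun a ha => ?_
    let _ := X.presheaf.algebra_section_stalk (⟨x, hxV⟩ : V)
    haveI := hV.isLocalization_stalk ⟨x, hxV⟩
    obtain ⟨⟨c, d⟩, hcd⟩ := IsLocalization.surj (hV.primeIdealOf ⟨x, hxV⟩).asIdeal.primeCompl a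
    change a * X.presheaf.germ V x hxV d.1 = X.presheaf.germ V x hxV c at hcd
    have hu : IsUnit (X.presheaf.germ V x hxV d.1) :=
      IsLocalization.map_units (X.presheaf.stalk x) d
    obtain ⟨n, hn⟩ := hkill c fun hc => by
      have h1 := (X.mem_basicOpen c x hxV).1 hc
      rw [← hcd] at h1
      exact (IsLocalRing.mem_maximalIdeal _).1 ha (isUnit_of_mul_isUnit_left h1)
    refine ⟨n, (hu.pow n).smul_left_cancel.1 ?_⟩
    rw [← mul_smul, ← mul_pow, mul_comm, smul_zero, hcd]
    exact hn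
  refine (Finset.mem_filter.1 hi₀).2 ?_
  rw [← hki i₀ (Finset.mem_filter.1 hi₀).1]
  have : ki i₀ = 0 := funext fun _ => he₀
  rw [this, map_zero]

/-- A quasi-coherent module embeds into a quasi-coherent injective module. -/
theorem exists_mono_qcoh_injective (F : X.Modules) [F.IsQuasicoherent] :
    ∃ (Q : X.Modules) (β : F ⟶ Q), Mono β ∧ Q.IsQuasicoherent ∧ Injective Q := by
  classical
  let I := Injective.under F
  obtain ⟨ι, p, hp, hiso⟩ := exists_decomposition I
  haveI := hiso
  let P := fun i => SkyMod.sky (p i).pt (p i).A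
  let d : ∐ P ⟶ I := Sigma.desc fun i => (p i).f
  let S₀ := {i : ι // Tors (p i)}
  haveI : ∀ i : S₀, (P i.1).IsQuasicoherent := fun i => SkyMod.isQCoh_sky _ _ i.2
  let π₀ : ∐ P ⟶ ∐ fun i : S₀ => P i.1 :=
    Sigma.desc fun i => if h : Tors (p i) then Sigma.ι (fun i : S₀ => P i.1) ⟨i, h⟩ else 0
  let γ : F ⟶ ∐ P := Injective.ι F ≫ inv d
  let comp : ∀ i, ∐ P ⟶ P i := fun i =>
    Sigma.desc fun j => if h : j = i then eqToHom (by rw [h]) else 0
  haveI : (∐ fun i : S₀ => P i.1).IsQuasicoherent := Groth.QCohMod.isQCoh_sigma _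
  let β := γ ≫ π₀
  haveI : (kernel β).IsQuasicoherent := Groth.QCohMod.isQCoh_kernel β
  haveI : Mono β := by
    refine Preadditive.mono_of_kernel_zero (hom_ext_app fun W k => ?_)
    change (kernel.ι β).app W k = 0
    have h0 : k = 0 := eq_zero_of_germ _ k fun y hy => by
      refine germ_eq_zero p hp (kernel β) (kernel.ι β ≫ γ) comp ?_ ?_ ?_ k y hy
      · intro i
        exact (Sigma.ι_desc _ _).trans ((dif_pos rfl).trans (eqToHom_refl _ _))
      · intro i j hij
        exact (Sigma.ι_desc _ _).trans (dif_neg (Ne.symm hij))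
      · intro i hi
        let pr : (∐ fun i : S₀ => P i.1) ⟶ P i :=
          Sigma.desc fun j => if h : j.1 = i then eqToHom (by rw [h]) else 0
        have hfac : π₀ ≫ pr = comp i := by
          refine Sigma.hom_ext _ _ fun j => ?_
          simp only [π₀, pr, comp, Sigma.ι_desc_assoc, Sigma.ι_desc]
          by_cases hj : Tors (p j)
          · simp [hj]
          · have : j ≠ i := fun h => hj (h ▸ hi)
            simp [hj, this]
        rw [← hfac, Category.assoc, ← Category.assoc γ π₀ pr,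
          ← Category.assoc (kernel.ι β) (γ ≫ π₀) pr]
        exact (congrArg (· ≫ pr) (kernel.condition β)).trans zero_comp
    rw [h0, map_zero]
  exact ⟨_, β, inferInstance, inferInstance,
    Groth.Agent.S11157.result _ fun i => injective_pt (p i.1) (hp i.1)⟩

/-- The inclusion of quasi-coherent modules preserves injective objects. -/
theorem injective_obj (J : ObjectProperty.FullSubcategory (fun M : X.Modules => Coh.IsQCoh M))
    (hJ : Injective J) : Injective J.obj := by
  haveI : J.obj.IsQuasicoherent := J.property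
  obtain ⟨Q₀, β, hβ, hq, hQ⟩ := exists_mono_qcoh_injective J.obj
  let Q : ObjectProperty.FullSubcategory (fun M : X.Modules => Coh.IsQCoh M) := ⟨Q₀, hq⟩
  let β' : J ⟶ Q := ObjectProperty.homMk β
  haveI : Mono β' := (ObjectProperty.ι _).mono_of_mono_map hβ
  let r : Q ⟶ J := Injective.factorThru (𝟙 J) β'
  have hr : β ≫ r.hom = 𝟙 _ := congrArg (fun f => f.hom) (Injective.comp_factorThru (𝟙 J) β')
  haveI := hQ
  exact ⟨fun g f _ => ⟨Injective.factorThru (g ≫ β) f ≫ r.hom, by
    rw [← Category.assoc, Injective.comp_factorThru, Category.assoc, hr, Category.comp_id]⟩⟩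

end Groth.CohTwo.QCohInj
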