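import Groth.Agent.CohTwo.Extend
import Mathlib.Order.Zorn

/-!
A module which is injective locally is injective.
-/

universe u

open CategoryTheory CategoryTheory.Limits AlgebraicGeometry TopologicalSpace Opposite

namespace Groth.CohTwo

variable {X : Scheme.{u}}

lemma belowIncl_app_mk {C : X.Modules} {V V' W : X.Opens} (h : V ≤ V') (hW : W ≤ V) (s : Γ(C, W)) :
    (belowIncl C h).app W (belowMk s (.of_le hW s)) = belowMk s (.of_le (hW.trans h) s) :=
  belowIncl_app_belowMk h s _

@[simp] lemma belowIncl_comp {C : X.Modules} {V V' V'' : X.Opens} (h : V ≤ V') (h' : V' ≤ V'') :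
    belowIncl C h ≫ belowIncl C h' = belowIncl C (h.trans h') := by
  rw [← cancel_mono (belowι C V''), Category.assoc, belowIncl_ι, belowIncl_ι, belowIncl_ι]

/-- Compatible morphisms out of `below C (Vf i)` glue. -/
theorem exists_glueBelow {C F : X.Modules} {ι : Type u} (Vf : ι → X.Opens) (V : X.Opens)
    (hle : ∀ i, Vf i ≤ V) (hcov : ∀ x ∈ V, ∃ i, x ∈ Vf i) (g : ∀ i, below C (Vf i) ⟶ F)
    (hc : ∀ i j, belowIncl C (inf_le_left : Vf i ⊓ Vf j ≤ Vf i) ≫ g i =
      belowIncl C (inf_le_right : Vf i ⊓ Vf j ≤ Vf j) ≫ g j) :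
    ∃ G : below C V ⟶ F, ∀ i, belowIncl C (hle i) ≫ G = g i := by
  obtain ⟨G, hG⟩ := exists_glueHom Vf V hle hcov (fun i => homOnOfBelow (g i))
    (fun i j W hi hj s => by
      have := congr(($(hc i j)).app W (belowMk s (.of_le (le_inf hi hj) s)))
      simp only [Scheme.Modules.Hom.comp_app, ConcreteCategory.comp_apply, belowIncl_app_belowMk] at this
      exact this)
  refine ⟨G, fun i => below_hom_ext fun W hW s => ?_⟩
  simp only [Scheme.Modules.Hom.comp_app, ConcreteCategory.comp_apply, belowIncl_app_belowMk]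
  exact hG i W hW s

/-- A partial extension of `f` along `φ`. -/
structure PartialExt {A B F : X.Modules} (φ : A ⟶ B) (f : A ⟶ F) where
  /-- the open -/
  V : X.Opens
  /-- the morphism -/
  g : below B V ⟶ F
  compat : belowMap φ V ≫ g = belowι A V ≫ f

namespace PartialExt

variable {A B F : X.Modules} {φ : A ⟶ B} {f : A ⟶ F}

instance : Preorder (PartialExt φ f) where
  le p q := ∃ h : p.V ≤ q.V, belowIncl B h ≫ q.g = p.g
  le_refl p := ⟨le_rfl, by
    rw [show belowIncl B (le_refl p.V) = 𝟙 _ by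
      rw [← cancel_mono (belowι B p.V), belowIncl_ι, Category.id_comp], Category.id_comp]⟩
  le_trans p q r := fun ⟨h, e⟩ ⟨h', e'⟩ => ⟨h.trans h', by
    rw [← belowIncl_comp h h', Category.assoc, e', e]⟩

lemma belowMap_incl {V V' : X.Opens} (h : V ≤ V') :
    belowIncl A h ≫ belowMap φ V' = belowMap φ V ≫ belowIncl B h := by
  rw [← cancel_mono (belowι B V'), Category.assoc, Category.assoc, belowMap_ι, belowIncl_ι,
    belowMap_ι, ← Category.assoc, belowIncl_ι]

/-- Compatibility of a glued morphism. -/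
lemma compat_of_cover {ι : Type u} (p : ι → PartialExt φ f) (V : X.Opens) (hle : ∀ i, (p i).V ≤ V)
    (hcov : ∀ x ∈ V, ∃ i, x ∈ (p i).V) (G : below B V ⟶ F)
    (hG : ∀ i, belowIncl B (hle i) ≫ G = (p i).g) : belowMap φ V ≫ G = belowι A V ≫ f := by
  refine below_hom_ext fun W hW s => eq_of_local F _ _ fun x hx => ?_
  obtain ⟨i, hi⟩ := hcov x (hW hx)
  refine ⟨W ⊓ (p i).V, inf_le_left, ⟨hx, hi⟩, ?_⟩
  have e : belowIncl A (hle i) ≫ (belowMap φ V ≫ G) = belowIncl A (hle i) ≫ belowι A V ≫ f := by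
    rw [← Category.assoc, belowMap_incl, Category.assoc, hG, compat, ← Category.assoc, belowIncl_ι]
  have e' := congr(($e).app (W ⊓ (p i).V) (belowMk (res A inf_le_left s) (.of_le inf_le_right _)))
  rw [Scheme.Modules.Hom.comp_app, ConcreteCategory.comp_apply, belowIncl_app_mk _ inf_le_right] at e'
  conv at e' => rhs; rw [Scheme.Modules.Hom.comp_app, ConcreteCategory.comp_apply,
    belowIncl_app_mk _ inf_le_right]
  rw [← app_res, ← app_res]
  exact e'

end PartialExt

open PartialExt in
/-- A locally injective module is injective. -/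
theorem injective_of_locally_injective (F : X.Modules)
    (hF : ∀ x : X, ∃ U : X.Opens, x ∈ U ∧ Injective ((Scheme.Modules.restrictFunctor U.ι).obj F)) :
    Injective F := by
  refine ⟨fun {A B} f φ hφ => ?_⟩
  have hbot : (belowMap φ ⊥ ≫ (0 : below B ⊥ ⟶ F)) = belowι A ⊥ ≫ f := by
    refine below_hom_ext fun W hW s => eq_of_local F _ _ fun x hx => absurd (hW hx) (by simp)
  obtain ⟨p, hp⟩ : ∃ p : PartialExt φ f, IsMax p := by
    have : Nonempty (PartialExt φ f) := ⟨⟨⊥, 0, hbot⟩⟩
    refine zorn_le_nonempty fun c hc hne => ?_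
    let ι := {V : X.Opens // ∃ q ∈ c, q.V = V}
    let p : ι → PartialExt φ f := fun i => i.2.choose
    have hp : ∀ i, p i ∈ c := fun i => i.2.choose_spec.1
    have hpV : ∀ i, (p i).V = i.1 := fun i => i.2.choose_spec.2
    let V : X.Opens := ⨆ i, (p i).V
    have hle : ∀ i, (p i).V ≤ V := le_iSup (fun i => (p i).V)
    have hcov : ∀ x ∈ V, ∃ i, x ∈ (p i).V := fun x hx => Opens.mem_iSup.1 hx
    have agree : ∀ q ∈ c, ∀ r ∈ c, belowIncl B (inf_le_left : q.V ⊓ r.V ≤ q.V) ≫ q.g =
        belowIncl B (inf_le_right : q.V ⊓ r.V ≤ r.V) ≫ r.g := by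
      intro q hq r hr
      rcases hc.total hq hr with ⟨h, e⟩ | ⟨h, e⟩
      · rw [← e, ← Category.assoc, belowIncl_comp]
      · rw [← e, ← Category.assoc, belowIncl_comp]
    obtain ⟨G, hG⟩ := exists_glueBelow (fun i => (p i).V) V hle hcov (fun i => (p i).g)
      (fun i j => agree _ (hp i) _ (hp j))
    refine ⟨⟨V, G, compat_of_cover p V hle hcov G hG⟩, fun q hq => ?_⟩
    let i : ι := ⟨q.V, q, hq, rfl⟩
    have hqi : q.V ≤ (p i).V := (hpV i).ge
    refine ⟨hqi.trans (hle i), ?_⟩
    change belowIncl B _ ≫ G = q.g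
    rw [← belowIncl_comp hqi (hle i), Category.assoc, hG]
    have e := agree _ (hp i) q hq
    have h' : q.V ≤ (p i).V ⊓ q.V := le_inf hqi le_rfl
    have e' := congrArg (belowIncl B h' ≫ ·) e
    simp only [← Category.assoc, belowIncl_comp] at e'
    rw [e', show belowIncl B (le_refl q.V) = 𝟙 _ by
      rw [← cancel_mono (belowι B q.V), belowIncl_ι, Category.id_comp], Category.id_comp]
  suffices hV : (⊤ : X.Opens) ≤ p.V by
    refine ⟨belowLift (𝟙 B) (fun W s => .of_le ((le_top : W ≤ ⊤).trans hV) _) ≫ p.g, ?_⟩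
    have e : φ ≫ belowLift (𝟙 B) (fun W s => .of_le ((le_top : W ≤ ⊤).trans hV) _) =
        belowLift (𝟙 A) (fun W s => .of_le ((le_top : W ≤ ⊤).trans hV) _) ≫ belowMap φ p.V := by
      rw [← cancel_mono (belowι B p.V), Category.assoc, Category.assoc, belowLift_ι, belowMap_ι,
        ← Category.assoc, belowLift_ι, Category.comp_id, Category.id_comp]
    rw [← Category.assoc, e, Category.assoc, p.compat, ← Category.assoc, belowLift_ι,
      Category.id_comp]
  intro x _
  obtain ⟨U, hxU, hinj⟩ := hF x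
  let m : A ⊞ below B p.V ⟶ B := biprod.desc φ (belowι B p.V)
  let fg : A ⊞ below B p.V ⟶ F := biprod.desc f p.g
  have hker : kernel.ι m ≫ fg = 0 := by
    obtain ⟨a, ha⟩ : ∃ a : kernel m ⟶ A, a = kernel.ι m ≫ biprod.fst := ⟨_, rfl⟩
    obtain ⟨b, hb'⟩ : ∃ b : kernel m ⟶ below B p.V, b = kernel.ι m ≫ biprod.snd := ⟨_, rfl⟩
    have hab : a ≫ φ + b ≫ belowι B p.V = 0 := by
      have := kernel.condition m
      simp only [m, biprod.desc_eq, Preadditive.comp_add] at this
      simpa [ha, hb'] using this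
    have haV : ∀ W s, VanishOff A p.V (a.app W s) := by
      intro W s
      refine VanishOff.of_map φ ?_
      have h1 : φ.app W (a.app W s) = -(belowι B p.V).app W (b.app W s) :=
        eq_neg_of_add_eq_zero_left congr(($hab).app W s)
      rw [h1]
      exact (vanishOff_belowι_app _).neg
    have hb : b = -(belowLift a haV ≫ belowMap φ p.V) := by
      rw [← cancel_mono (belowι B p.V), Preadditive.neg_comp, Category.assoc, belowMap_ι,
        ← Category.assoc, belowLift_ι]
      exact eq_neg_of_add_eq_zero_right hab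
    have : kernel.ι m ≫ fg = a ≫ f + b ≫ p.g := by
      simp [fg, ha, hb', biprod.desc_eq]
    rw [this, hb, Preadditive.neg_comp, Category.assoc, p.compat, ← Category.assoc, belowLift_ι,
      add_neg_cancel]
  let e : Abelian.coimage m ⟶ F := cokernel.desc _ fg hker
  let i : Abelian.coimage m ⟶ B := Abelian.factorThruCoimage m
  have hi : biprod.desc φ (belowι B p.V) = Abelian.coimage.π m ≫ i := (Abelian.coimage.fac m).symm
  have he : Abelian.coimage.π m ≫ e = fg := cokernel.π_desc _ _ _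
  have : Mono ((Scheme.Modules.restrictFunctor U.ι).map i) := mono_restrictMap U.ι i
  let h := Injective.factorThru ((Scheme.Modules.restrictFunctor U.ι).map e)
    ((Scheme.Modules.restrictFunctor U.ι).map i)
  have hh : (Scheme.Modules.restrictFunctor U.ι).map i ≫ h =
      (Scheme.Modules.restrictFunctor U.ι).map e := Injective.comp_factorThru _ _
  let h' : below B U.ι.opensRange ⟶ F := extend U.ι h
  have key : ∀ {T : X.Modules} (t : T ⟶ A ⊞ below B p.V) (u : T ⟶ below B U.ι.opensRange),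
      u ≫ belowι B U.ι.opensRange = t ≫ biprod.desc φ (belowι B p.V) →
      (Scheme.Modules.restrictFunctor U.ι).map (u ≫ h') =
        (Scheme.Modules.restrictFunctor U.ι).map (t ≫ fg) := by
    intro T t u htu
    rw [Functor.map_comp, restrict_extend, ← Category.assoc, ← Functor.map_comp, htu, hi,
      ← Category.assoc, Functor.map_comp, Category.assoc, hh, ← Functor.map_comp, Category.assoc, he]
  let q : PartialExt φ f := ⟨U.ι.opensRange, h', below_hom_ext_restrict U.ι le_rfl (by
    rw [key (belowι A _ ≫ biprod.inl) (belowMap φ _) (by simp)]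
    simp [fg])⟩
  have hagree : belowIncl B (inf_le_left : p.V ⊓ q.V ≤ p.V) ≫ p.g =
      belowIncl B (inf_le_right : p.V ⊓ q.V ≤ q.V) ≫ q.g :=
    below_hom_ext_restrict U.ι inf_le_right (by
      rw [key (belowIncl B inf_le_left ≫ biprod.inr) (belowIncl B inf_le_right) (by simp)]
      simp [fg])
  let pf : ULift.{u} Bool → PartialExt φ f := fun b => if b.down then p else q
  have hle : ∀ b, (pf b).V ≤ p.V ⊔ q.V := by
    rintro ⟨_ | _⟩
    · exact le_sup_right
    · exact le_sup_left
  have hcov : ∀ y ∈ p.V ⊔ q.V, ∃ b, y ∈ (pf b).V := by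
    intro y hy
    rcases hy with hy | hy
    · exact ⟨⟨true⟩, hy⟩
    · exact ⟨⟨false⟩, hy⟩
  obtain ⟨G, hG⟩ := exists_glueBelow (fun b => (pf b).V) _ hle hcov (fun b => (pf b).g) (by
    rintro ⟨_ | _⟩ ⟨_ | _⟩
    · rfl
    · have := congrArg (belowIncl B (show q.V ⊓ p.V ≤ p.V ⊓ q.V from (inf_comm _ _).le) ≫ ·) hagree
      simp only [← Category.assoc, belowIncl_comp] at this
      exact this.symm
    · exact hagree
    · rfl)
  have hbig := hp (b := ⟨_, G, compat_of_cover pf _ hle hcov G hG⟩) ⟨hle ⟨true⟩, hG ⟨true⟩⟩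
  exact hbig.1 (Or.inr (by simpa [q] using hxU))

end Groth.CohTwo
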