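import Mathlib.CategoryTheory.Abelian.GrothendieckCategory.ColimCoyoneda
import Mathlib.CategoryTheory.Limits.Constructions.Filtered
import Mathlib.CategoryTheory.Subobject.NoetherianObject
import Mathlib.CategoryTheory.Preadditive.Injective.Basic

/-!
# Morphisms from Noetherian objects into coproducts
-/

universe w v u

open CategoryTheory Limits Opposite

attribute [local instance] IsFiltered.isConnected

namespace Groth.CohTwo

variable {C : Type u} [Category.{v} C] [Abelian C] [IsGrothendieckAbelian.{w} C]

/-- A morphism from a Noetherian object into a filtered union factors through one of the terms. -/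
lemma exists_factor_of_noetherian {X : C} [IsNoetherianObject X] {J : Type w} [SmallCategory J]
    [IsFiltered J] {Y : J ⥤ C} [∀ (j j' : J) (φ : j ⟶ j'), Mono (Y.map φ)]
    {c : Cocone Y} (hc : IsColimit c) (z : X ⟶ c.pt) :
    ∃ (j₀ : J) (y : X ⟶ Y.obj j₀), z = y ≫ c.ι.app j₀ := by
  have := hc.mono_ι_app_of_isFiltered
  have := NatTrans.mono_of_mono_app c.ι
  open IsGrothendieckAbelian.IsPresentable.surjectivity in
  obtain ⟨j, hj⟩ : ∃ j, IsIso ((F z).obj j).obj.hom := by
    have := isIso_f hc z
    have h := epi_f hc z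
    rw [Subobject.epi_iff_mk_eq_top (f z)] at h
    replace h := (IsGrothendieckAbelian.subobjectMk_of_isColimit_eq_iSup (F z)
      (colimit.isColimit _) (f z) (hf z)).symm.trans h
    obtain ⟨m, ⟨j, rfl⟩, hm⟩ := wellFounded_gt.has_min
      (Set.range fun j => Subobject.mk ((F z).obj j).obj.hom) (Set.range_nonempty _)
    refine ⟨j, (Subobject.isIso_iff_mk_eq_top _).2 (top_le_iff.1 (h ▸ iSup_le fun i => ?_))⟩
    refine le_trans (MonoOver.subobjectMk_le_mk_of_hom ((F z).map (IsFiltered.leftToMax i j))) ?_
    exact ((MonoOver.subobjectMk_le_mk_of_hom ((F z).map (IsFiltered.rightToMax i j))).eq_of_not_lt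
      (hm _ ⟨_, rfl⟩)).ge
  refine ⟨j, inv ((IsGrothendieckAbelian.IsPresentable.surjectivity.F z).obj j).obj.hom ≫
    (pullback.fst c.ι _).app j, ?_⟩
  refine (?_ : _ = _).trans (Category.assoc _ _ _).symm
  rw [IsIso.eq_inv_comp]
  exact (NatTrans.congr_app pullback.condition j).symm

open CoproductsFromFiniteFiltered in
/-- A morphism from a Noetherian object into a coproduct of injectives extends along monomorphisms. -/
lemma exists_extension_of_noetherian {ι : Type w} (I : ι → C) (hI : ∀ i, Injective (I i))
    [HasColimitsOfShape (Finset (Discrete ι)) C] [HasCoproduct I]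
    {S T : C} [IsNoetherianObject S] (i : S ⟶ T) [Mono i] (z : S ⟶ ∐ I) :
    ∃ ψ : T ⟶ ∐ I, i ≫ ψ = z := by
  classical
  have : ∀ (s t : Finset (Discrete ι)) (φ : s ⟶ t),
      Mono ((liftToFinsetObj (Discrete.functor I)).map φ) := fun s t φ => by
    refine (SplitMono.mk (Sigma.desc fun y =>
      if h : y.1 ∈ s then Sigma.ι (fun x : s => (Discrete.functor I).obj x) ⟨y.1, h⟩ else 0)
      ?_).mono
    refine Sigma.hom_ext _ _ fun x => ?_
    refine (Sigma.ι_desc_assoc _ _ _).trans ((Sigma.ι_desc _ _).trans
      ((dif_pos x.2).trans (Category.comp_id _).symm))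
  obtain ⟨s, y, rfl⟩ := exists_factor_of_noetherian (isColimitFiniteSubproductsCocone I) z
  have : ∀ x : s, Injective ((Discrete.functor I).obj x) := fun x => hI _
  have := Abelian.hasFiniteBiproducts (C := C)
  have : Injective ((liftToFinsetObj (Discrete.functor I)).obj s) :=
    Injective.of_iso (biproduct.isoCoproduct fun x : s => (Discrete.functor I).obj x) inferInstance
  exact ⟨Injective.factorThru y i ≫ (finiteSubcoproductsCocone I).ι.app s, (Category.assoc _ _ _).symm.trans
    (congrArg (· ≫ (finiteSubcoproductsCocone I).ι.app s) (Injective.comp_factorThru y i))⟩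

end Groth.CohTwo
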