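import Groth.Agent.CohTwo.ExtZero
import Groth.Agent.CohTwo.TensorBelow
import Groth.Agent.SiteCohomology.BaerCriterion
import Groth.Agent.SiteCohomology.SchemeModules

/-!
The extensions by zero `j_! O_U` of affine opens separate `X.Modules`; the resulting injectivity
criterion.
-/

universe u

open CategoryTheory CategoryTheory.Limits AlgebraicGeometry TopologicalSpace

namespace Groth.CohTwo

variable {X : Scheme.{u}}

/-- The objects `j_! O_U`, `U` affine open, separate morphisms of `O_X`-modules. -/
lemma extZeroUnit_affine_separating {A B : X.Modules} (f g : A ⟶ B)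
    (h : ∀ (U : X.affineOpens) (k : CxOX.extZeroUnit U.1.ι ⟶ A), k ≫ f = k ≫ g) : f = g := by
  have haff : ∀ (W : X.affineOpens) (s : Γ(A, W.1)), f.app W.1 s = g.app W.1 s := fun W => by
    suffices ∀ V : X.Opens, W.1.ι.opensRange = V → ∀ s : Γ(A, V), f.app V s = g.app V s from
      this W.1 W.1.opensRange_ι
    intro V hV s
    subst hV
    obtain ⟨φ, hφ⟩ := exists_sectionHom A s
    have e : φ ≫ f = φ ≫ g := by
      rw [← cancel_epi (extZeroUnitIso W.1.ι).hom, ← Category.assoc, ← Category.assoc, h]
    have := congr(($e).app W.1.ι.opensRange (oneSec le_rfl))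
    simp only [Scheme.Modules.Hom.comp_app, ConcreteCategory.comp_apply] at this
    rwa [hφ] at this
  refine hom_ext_app fun W s => eq_of_local B _ _ fun x hx => ?_
  obtain ⟨V, hV, hxV, hVW⟩ :=
    (Opens.isBasis_iff_nbhd.1 X.isBasis_affineOpens) (show x ∈ W from hx)
  refine ⟨V, hVW, hxV, ?_⟩
  rw [← app_res f, ← app_res g]
  exact haff ⟨V, hV⟩ _

/-- An `O_X`-module receiving extensions from all submodules of the `j_! O_U`, `U` affine, is
injective. -/
theorem injective_of_extension_extZeroUnit (I : X.Modules)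
    (h : ∀ (U : X.affineOpens) (S : X.Modules) (i : S ⟶ CxOX.extZeroUnit U.1.ι) [Mono i]
      (φ : S ⟶ I), ∃ ψ : CxOX.extZeroUnit U.1.ι ⟶ I, i ≫ ψ = φ) :
    Injective I :=
  Groth.SiteCohomology.injective_of_separating_family
    (fun U : X.affineOpens => CxOX.extZeroUnit U.1.ι)
    (fun f g hfg => extZeroUnit_affine_separating f g hfg) I h

end Groth.CohTwo
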