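import Groth.Agent.CohTwo.Extend
import Groth.Prelude.Def_CxOX

/-!
The prelude's extension by zero `CxOX.extZero j` agrees with `below`.
-/

universe u

open CategoryTheory CategoryTheory.Limits AlgebraicGeometry TopologicalSpace Opposite

namespace Groth.CohTwo

variable {U X : Scheme.{u}} (j : U ⟶ X) [IsOpenImmersion j] (C : X.Modules)

/-- `j_!(C|_U) ⟶ below C j.opensRange`. -/
noncomputable def extZeroToBelow :
    (CxOX.extZero j).obj (C.restrict j) ⟶ below C j.opensRange :=
  haveI := isIso_restrictMap_belowι (C := C) j (le_refl j.opensRange)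
  ((CxOX.extZeroAdj j).homEquiv _ _).symm
    (inv ((Scheme.Modules.restrictFunctor j).map (belowι C j.opensRange)))

/-- `below C j.opensRange ⟶ j_!(C|_U)`. -/
noncomputable def belowToExtZero :
    below C j.opensRange ⟶ (CxOX.extZero j).obj (C.restrict j) :=
  extend j ((CxOX.extZeroAdj j).unit.app (C.restrict j))

/-- `j_!(C|_U) ≅ below C j.opensRange`. -/
noncomputable def extZeroIsoBelow :
    (CxOX.extZero j).obj (C.restrict j) ≅ below C j.opensRange where
  hom := extZeroToBelow j C
  inv := belowToExtZero j C
  hom_inv_id := by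
    haveI := isIso_restrictMap_belowι (C := C) j (le_refl j.opensRange)
    apply ((CxOX.extZeroAdj j).homEquiv _ _).injective
    rw [Adjunction.homEquiv_naturality_right, extZeroToBelow, Equiv.apply_symm_apply,
      belowToExtZero, restrict_extend, IsIso.inv_hom_id_assoc, Adjunction.homEquiv_id]
  inv_hom_id := by
    haveI := isIso_restrictMap_belowι (C := C) j (le_refl j.opensRange)
    refine below_hom_ext_restrict j le_rfl ?_
    rw [Functor.map_comp, belowToExtZero, restrict_extend, Category.assoc]
    have := (CxOX.extZeroAdj j).homEquiv_unit (f := extZeroToBelow j C)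
    rw [extZeroToBelow, Equiv.apply_symm_apply] at this
    rw [extZeroToBelow]
    refine (congrArg ((Scheme.Modules.restrictFunctor j).map (belowι C j.opensRange) ≫ ·)
      this.symm).trans ?_
    rw [IsIso.hom_inv_id, CategoryTheory.Functor.map_id]

/-- `j_! O_U ≅ below O_X j.opensRange`. -/
noncomputable def extZeroUnitIso :
    CxOX.extZeroUnit j ≅ below (Coh.structureModule X) j.opensRange :=
  (CxOX.extZero j).mapIso (Scheme.Modules.restrictUnitIso j).symm ≪≫
    extZeroIsoBelow j (Coh.structureModule X)

/-- The inclusion `j_! O_U ⟶ O_X`. -/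
noncomputable def extZeroUnitIncl : CxOX.extZeroUnit j ⟶ Coh.structureModule X :=
  (extZeroUnitIso j).hom ≫ belowι (Coh.structureModule X) j.opensRange

instance : Mono (extZeroUnitIncl j) := by
  unfold extZeroUnitIncl
  infer_instance

end Groth.CohTwo
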