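import Groth.Agent.CohTwo.Glue
import Groth.Prelude.Def_Coh

/-!
Sub-`O_X`-modules of `O_X` (not nec. quasi-coherent) on a (locally) Noetherian scheme: local finite
generation along a point, and a finiteness principle on Noetherian spaces.
-/

universe u

open CategoryTheory CategoryTheory.Limits AlgebraicGeometry TopologicalSpace Opposite

namespace Groth.CohTwo

variable {X : Scheme.{u}}

/-- The component of a map into the structure sheaf, valued in functions. -/
noncomputable def toFun {G : X.Modules} (ι : G ⟶ Coh.structureModule X) (W : X.Opens) :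
    Γ(G, W) →ₗ[Γ(X, W)] Γ(X, W) where
  toFun g := ι.app W g
  map_add' g g' := map_add (ι.app W).hom g g'
  map_smul' r g := ι.app_smul r g

lemma toFun_res {G : X.Modules} (ι : G ⟶ Coh.structureModule X) {W' W : X.Opens} (h : W' ≤ W)
    (g : Γ(G, W)) : toFun ι W' (res G h g) = resR X h (toFun ι W g) :=
  app_res ι h g

lemma toFun_injective {G : X.Modules} (ι : G ⟶ Coh.structureModule X) [Mono ι] (W : X.Opens) :
    Function.Injective (toFun ι W) :=
  app_injective ι W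

lemma resR_resR' {A B D : X.Opens} (h : A ≤ B) (h' : B ≤ D) (r : Γ(X, D)) :
    resR X h (resR X h' r) = resR X (h.trans h') r := by
  simp only [resR]
  rw [← ConcreteCategory.comp_apply, ← Functor.map_comp]
  rfl

/-- Functions on `U₀` which near `η` are sections of `G`. -/
def nearIdeal {G : X.Modules} (ι : G ⟶ Coh.structureModule X) (U₀ : X.Opens) (η : X) (hη : η ∈ U₀) :
    Ideal Γ(X, U₀) where
  carrier := {b | ∃ (W : X.Opens) (h : W ≤ U₀) (g : Γ(G, W)), η ∈ W ∧ toFun ι W g = resR X h b}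
  zero_mem' := ⟨U₀, le_rfl, 0, hη, by simp⟩
  add_mem' := by
    rintro a b ⟨A, hA, g, hgA, ha⟩ ⟨B, hB, g', hgB, hb⟩
    refine ⟨A ⊓ B, inf_le_left.trans hA, res G inf_le_left g + res G inf_le_right g',
      ⟨hgA, hgB⟩, ?_⟩
    rw [map_add, map_add, toFun_res, toFun_res, ha, hb, resR_resR', resR_resR']
  smul_mem' := by
    rintro r b ⟨B, hB, g, hgB, hb⟩
    exact ⟨B, hB, resR X hB r • g, hgB, by rw [map_smul, hb, smul_eq_mul, smul_eq_mul, map_mul]⟩

/-- The local generation property at `η`: `s` generates, near every specialization of `η` inside `U`,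
every submodule of `O_X` with the same functions near `η`. -/
theorem exists_local_generators {U₀ : X.Opens} (hU₀ : IsAffineOpen U₀)
    [IsNoetherianRing Γ(X, U₀)] (η : X) (hη : η ∈ U₀) {G : X.Modules}
    (ι : G ⟶ Coh.structureModule X) :
    ∃ (U : X.Opens) (k : ℕ) (s : Fin k → Γ(G, U)), η ∈ U ∧ U ≤ U₀ ∧
      ∀ {G' : X.Modules} (ι' : G' ⟶ Coh.structureModule X),
        nearIdeal ι' U₀ η hη ≤ nearIdeal ι U₀ η hη →
        ∀ x ∈ U, η ⤳ x → ∀ (W : X.Opens) (g : Γ(G', W)), x ∈ W →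
          ∃ (W' : X.Opens) (hW : W' ≤ W) (hU : W' ≤ U) (c : Fin k → Γ(X, W')), x ∈ W' ∧
            toFun ι' W' (res G' hW g) = toFun ι W' (∑ i, c i • res G hU (s i)) := by
  obtain ⟨k, a, ha⟩ := Submodule.fg_iff_exists_fin_generating_family.1
    (IsNoetherian.noetherian (nearIdeal ι U₀ η hη))
  have hmem : ∀ i, a i ∈ nearIdeal ι U₀ η hη := fun i => ha ▸ Submodule.subset_span ⟨i, rfl⟩
  choose Wi hWi gi hηi hgi using hmem
  let A : Opens X := ⟨⋂ i, (Wi i : Set X), isOpen_iInter_of_finite fun i => (Wi i).2⟩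
  have hAi : ∀ i, U₀ ⊓ A ≤ Wi i := fun i x hx => Set.mem_iInter.1 hx.2 i
  refine ⟨U₀ ⊓ A, k, fun i => res G (hAi i) (gi i), ⟨hη, Set.mem_iInter.2 hηi⟩, inf_le_left, ?_⟩
  intro G' ι' hle x hxU hηx W g hxW
  obtain ⟨f, hfle, hxf⟩ := hU₀.exists_basicOpen_le (V := W ⊓ (U₀ ⊓ A)) ⟨x, hxW, hxU⟩ hxU.1
  have hD₀ : X.basicOpen f ≤ U₀ := X.basicOpen_le f
  have hDW : X.basicOpen f ≤ W := hfle.trans inf_le_left
  have hDU : X.basicOpen f ≤ U₀ ⊓ A := hfle.trans inf_le_right
  have := hU₀.isLocalization_basicOpen f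
  obtain ⟨⟨b, ⟨_, n, rfl⟩⟩, hb⟩ := IsLocalization.surj (Submonoid.powers f)
    (toFun ι' (X.basicOpen f) (res G' hDW g))
  change toFun ι' (X.basicOpen f) (res G' hDW g) * resR X hD₀ (f ^ n) = resR X hD₀ b at hb
  have hbI : b ∈ nearIdeal ι U₀ η hη := hle ⟨X.basicOpen f, hD₀,
    resR X hD₀ (f ^ n) • res G' hDW g, hηx.mem_open (X.basicOpen f).2 hxf,
    by rw [map_smul, smul_eq_mul, mul_comm, hb]⟩
  rw [← ha, Submodule.mem_span_range_iff_exists_fun] at hbI
  obtain ⟨c, rfl⟩ := hbI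
  obtain ⟨u, hu⟩ : IsUnit (resR X hD₀ (f ^ n)) :=
    IsLocalization.map_units (Γ(X, X.basicOpen f)) (⟨f ^ n, n, rfl⟩ : Submonoid.powers f)
  refine ⟨X.basicOpen f, hDW, hDU, fun i => (↑u⁻¹ : Γ(X, X.basicOpen f)) * resR X hD₀ (c i),
    hxf, ?_⟩
  rw [← hu, mul_comm, ← Units.eq_inv_mul_iff_mul_eq] at hb
  rw [hb, map_sum, map_sum, Finset.mul_sum]
  refine Finset.sum_congr rfl fun i _ => ?_
  simp only [map_smul, smul_eq_mul, toFun_res, map_mul, hgi, resR_resR', mul_assoc]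

/-- Finitely many points suffice to cover a Noetherian sober space by traces of neighbourhoods on
closures. -/
theorem exists_finset_cover {α : Type u} [TopologicalSpace α] [NoetherianSpace α] [QuasiSober α]
    (U : α → Opens α) (hU : ∀ η, η ∈ U η) :
    ∃ S : Finset α, ∀ x, ∃ η ∈ S, x ∈ U η ∧ η ⤳ x := by
  classical
  suffices h : ∀ Z : Closeds α, ∃ S : Finset α, ∀ x ∈ Z, ∃ η ∈ S, x ∈ U η ∧ η ⤳ x by
    obtain ⟨S, hS⟩ := h ⊤
    exact ⟨S, fun x => hS x (Set.mem_univ x)⟩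
  intro Z
  induction Z using WellFoundedLT.induction with
  | ind Z ih =>
    rcases eq_or_ne Z ⊥ with rfl | hne
    · exact ⟨∅, fun x hx => absurd hx (Set.notMem_empty x)⟩
    have hne' : (Z : Set α).Nonempty := by
      rw [Set.nonempty_iff_ne_empty]
      exact fun h => hne (Closeds.ext h)
    by_cases hirr : IsPreirreducible (Z : Set α)
    · obtain ⟨η, hη⟩ := QuasiSober.sober ⟨hne', hirr⟩ Z.isClosed
      let Z' : Closeds α := ⟨(Z : Set α) \ U η, Z.isClosed.sdiff (U η).2⟩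
      have hlt : Z' < Z := by
        refine lt_of_le_of_ne (fun x hx => hx.1) fun h => ?_
        have : η ∈ (Z' : Set α) := by rw [h]; exact hη.mem
        exact this.2 (hU η)
      obtain ⟨S, hS⟩ := ih Z' hlt
      refine ⟨insert η S, fun x hx => ?_⟩
      by_cases hxU : x ∈ U η
      · exact ⟨η, Finset.mem_insert_self _ _, hxU, hη.specializes hx⟩
      · obtain ⟨ξ, hξ, h⟩ := hS x ⟨hx, hxU⟩
        exact ⟨ξ, Finset.mem_insert_of_mem hξ, h⟩
    · rw [isPreirreducible_iff_isClosed_union_isClosed] at hirr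
      push Not at hirr
      obtain ⟨a, b, ha, hb, hab, hna, hnb⟩ := hirr
      have hlt : ∀ c : Set α, ∀ hc : IsClosed c, ¬ (Z : Set α) ⊆ c →
          (⟨(Z : Set α) ∩ c, Z.isClosed.inter hc⟩ : Closeds α) < Z := by
        intro c hc hnc
        refine lt_of_le_of_ne (fun x hx => hx.1) fun h => hnc fun x hx => ?_
        exact ((Set.ext_iff.1 (congrArg (fun T : Closeds α => (T : Set α)) h) x).2 hx).2
      obtain ⟨S, hS⟩ := ih _ (hlt a ha hna)
      obtain ⟨T, hT⟩ := ih _ (hlt b hb hnb)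
      refine ⟨S ∪ T, fun x hx => ?_⟩
      rcases hab hx with hxa | hxb
      · obtain ⟨ξ, hξ, h⟩ := hS x ⟨hx, hxa⟩
        exact ⟨ξ, Finset.mem_union_left _ hξ, h⟩
      · obtain ⟨ξ, hξ, h⟩ := hT x ⟨hx, hxb⟩
        exact ⟨ξ, Finset.mem_union_right _ hξ, h⟩

end Groth.CohTwo
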