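import Groth.Agent.CohTwo.Glue

/-!
A monomorphism of modules which is locally surjective on sections is an isomorphism.
-/

universe u

open CategoryTheory CategoryTheory.Limits AlgebraicGeometry TopologicalSpace Opposite

namespace Groth.CohTwo

variable {X : Scheme.{u}}

lemma isIso_of_mono_of_locally_surjective {M N : X.Modules} (φ : M ⟶ N) [Mono φ]
    (h : ∀ (W : X.Opens) (t : Γ(N, W)), ∀ x ∈ W,
      ∃ (W' : X.Opens) (hW : W' ≤ W) (s : Γ(M, W')), x ∈ W' ∧ φ.app W' s = res N hW t) :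
    IsIso φ := by
  refine isIso_of_app_bijective φ fun W => ⟨app_injective φ W, fun t => ?_⟩
  choose A hA s hxA hs using h W t
  obtain ⟨g, hg⟩ := exists_glue M (fun x : W => A x.1 x.2) (fun x => hA x.1 x.2)
    (fun x hx => ⟨⟨x, hx⟩, hxA x hx⟩) (fun x => s x.1 x.2) (fun i k => app_injective φ _ (by
      rw [app_res, app_res, hs, hs, res_res, res_res]))
  refine ⟨g, eq_of_local N _ _ fun x hx => ⟨A x hx, hA x hx, hxA x hx, ?_⟩⟩
  rw [← app_res, hg ⟨x, hx⟩, hs]

end Groth.CohTwo
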