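import Groth.Agent.CohTwo.PointSupported
import Groth.Agent.CohTwo.LocallyInjective
import Groth.Agent.QCohMod.Local
import Groth.Agent.Matlis.Duality
import Groth.Agent.Matlis.Prime
import Groth.Agent.S11157
import Mathlib.Algebra.Category.ModuleCat.Products
import Mathlib.RingTheory.Ideal.AssociatedPrime.Finiteness
import Mathlib.RingTheory.Ideal.AssociatedPrime.Localization

/-!
Injective quasi-coherent modules on locally Noetherian schemes.
-/

universe u

open CategoryTheory CategoryTheory.Limits AlgebraicGeometry TopologicalSpace Opposite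

namespace Groth.CohTwo.InjQCoh

open Groth.QCohMod hiding res res_res res_smul
open Groth.CohTwo

/-- A prime embedded in a hull of `A ⧸ p` is `p`. -/
theorem eq_of_hull {A : Type u} [CommRing A] {p q : Ideal A} [p.IsPrime] [q.IsPrime] {E : Type u}
    [AddCommGroup E] [Module A E] {f : (A ⧸ p) →ₗ[A] E} (hf : InjHull.IsInjectiveHull f)
    {g : (A ⧸ q) →ₗ[A] E} (hg : Function.Injective g) : q ≤ p := by
  intro r hr
  by_contra hrp
  have h0 : r • g 1 = r • (0 : E) := by
    rw [smul_zero, ← map_smul, Algebra.smul_def, mul_one, Ideal.Quotient.algebraMap_eq,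
      Ideal.Quotient.eq_zero_iff_mem.2 hr, map_zero]
  exact one_ne_zero (hg (((GrothMatlis.smul_bijective_hull p hf hrp).1 h0).trans (map_zero g).symm))

/-- Elements of `p` act locally nilpotently on a hull of `A ⧸ p`. -/
theorem exists_pow_smul_hull {A : Type u} [CommRing A] [IsNoetherianRing A] {p : Ideal A}
    [p.IsPrime] {E : Type u} [AddCommGroup E] [Module A E] {f : (A ⧸ p) →ₗ[A] E}
    (hf : InjHull.IsInjectiveHull f) (x : E) {s : A} (hs : s ∈ p) : ∃ n : ℕ, s ^ n • x = 0 := by
  let N := Submodule.span A {x}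
  have h1 : p ≤ (Module.annihilator A N).radical := by
    rw [← Ideal.sInf_minimalPrimes]
    refine le_sInf fun q hq => ?_
    haveI := hq.isPrime
    obtain ⟨-, g, hg⟩ := (isAssociatedPrime_iff_exists_injective_linearMap q E).1
      (IsAssociatedPrime.map_of_injective N.subtype
        (Module.associatedPrimes.minimalPrimes_annihilator_subset_associatedPrimes A _ hq)
        N.subtype_injective)
    have hle : q ≤ p := eq_of_hull hf hg
    refine fun r hr => ?_
    by_contra hrq
    have hker : LinearMap.range g ≠ ⊥ := by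
      intro h
      rw [LinearMap.range_eq_bot] at h
      exact one_ne_zero (hg (a₁ := 1) (a₂ := 0) (by simp [h]))
    obtain ⟨z, ⟨⟨c, rfl⟩, ⟨b, hb⟩⟩, hz0⟩ :=
      Submodule.exists_mem_ne_zero_of_ne_bot (hf.toIsEssentialInj.essential _ hker)
    have hrz : r • g c = 0 := by
      rw [← hb, ← map_smul, Algebra.smul_def, Ideal.Quotient.algebraMap_eq,
        Ideal.Quotient.eq_zero_iff_mem.2 hr, zero_mul, map_zero]
    rw [← map_smul, map_eq_zero_iff g hg, Algebra.smul_def, mul_eq_zero,
      Ideal.Quotient.algebraMap_eq, Ideal.Quotient.eq_zero_iff_mem] at hrz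
    rcases hrz with h | rfl
    · exact hrq h
    · exact hz0 (map_zero g)
  obtain ⟨n, hn⟩ := h1 hs
  exact ⟨n, congrArg Subtype.val
    (Module.mem_annihilator.1 hn ⟨x, Submodule.mem_span_singleton_self x⟩)⟩

/-- The sheaf of an injective module over a Noetherian ring is an injective module. -/
theorem injective_tilde {R : CommRingCat.{u}} [IsNoetherianRing R] (M : ModuleCat.{u} R)
    [Module.Injective R M] : Injective (tilde M) := by
  classical
  obtain ⟨ι, F, hint, hF⟩ :=
    GrothMatlis.exists_decomposition (R := R) (E := M) (inferInstance : Module.Injective R M)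
  let Z : ι → ModuleCat.{u} R := fun i => ModuleCat.of R (F i)
  have hZ : ∀ i, Injective (tilde (Z i)) := by
    intro i
    haveI := (hF i).2
    haveI : Module.Injective R (Z i) := (hF i).2
    obtain ⟨p, hp, f, hf⟩ := GrothMatlis.exists_prime_hull (hF i).1 (hF i).2
    exact injective_tilde_point (Z i) (⟨p, hp⟩ : PrimeSpectrum R)
      (fun s hs => GrothMatlis.smul_bijective_hull p hf hs)
      (fun m s hs => exists_pow_smul_hull hf m hs)
  haveI : IsNoetherianRing (R : CommRingCat.{u}) := inferInstance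
  haveI : IsLocallyNoetherian (Spec R) := inferInstance
  have hsum := Groth.Agent.S11157.result (fun i => tilde (Z i)) hZ
  let e₀ : (∐ Z) ≅ M := ModuleCat.coprodIsoDirectSum Z ≪≫
    (LinearEquiv.ofBijective (DirectSum.coeLinearMap F) hint).toModuleIso
  haveI : PreservesColimit (Discrete.functor Z) (tilde.functor R) :=
    ((tilde.adjunction (R := R)).leftAdjoint_preservesColimits.{u, u}).preservesColimitsOfShape.preservesColimit
  exact Injective.of_iso
    ((PreservesCoproduct.iso (tilde.functor R) Z).symm ≪≫ (tilde.functor R).mapIso e₀) hsum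

/-- Injectivity of a module over a Noetherian ring from its localisations at maximal ideals. -/
theorem injective_of_localized {A : Type u} [CommRing A] [IsNoetherianRing A] {M : Type u}
    [AddCommGroup M] [Module A M]
    (h : ∀ p : Ideal A, ∀ [p.IsMaximal], ∃ (N : Type u) (_ : AddCommGroup N) (_ : Module A N)
      (L : M →ₗ[A] N), IsLocalizedModule p.primeCompl L ∧ Module.Injective A N) :
    Module.Injective A M := by
  classical
  refine Module.Baer.injective fun a g => ?_
  let T : Ideal A :=
    { carrier := {s | ∃ m : M, ∀ (c : A) (hc : c ∈ a), s • g ⟨c, hc⟩ = c • m}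
      zero_mem' := ⟨0, fun c hc => by simp⟩
      add_mem' := by
        rintro s t ⟨m, hm⟩ ⟨n, hn⟩
        exact ⟨m + n, fun c hc => by rw [add_smul, smul_add, hm, hn]⟩
      smul_mem' := by
        rintro r s ⟨m, hm⟩
        exact ⟨r • m, fun c hc => by rw [smul_eq_mul, mul_smul, hm, smul_comm]⟩ }
  suffices hT : T = ⊤ by
    obtain ⟨m, hm⟩ : (1 : A) ∈ T := hT ▸ Submodule.mem_top
    refine ⟨LinearMap.toSpanSingleton A M m, fun c hc => ?_⟩
    rw [LinearMap.toSpanSingleton_apply, ← hm c hc, one_smul]
  by_contra hT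
  obtain ⟨p, hp, hTp⟩ := T.exists_le_maximal hT
  haveI := hp
  obtain ⟨N, _, _, L, hL, hN⟩ := h p
  haveI := hL
  haveI := hN
  obtain ⟨g', hg'⟩ := Module.Injective.out (R := A) (Q := N) a.subtype
    (Submodule.subtype_injective _) (L ∘ₗ g)
  obtain ⟨⟨m, s₀⟩, hm⟩ := IsLocalizedModule.surj p.primeCompl L (g' 1)
  have hc₀ : ∀ (c : A) (hc : c ∈ a), L ((s₀ : A) • g ⟨c, hc⟩) = L (c • m) := by
    intro c hc
    have h1 : L (g ⟨c, hc⟩) = c • g' 1 := by
      rw [← map_smul, smul_eq_mul, mul_one]
      exact (hg' ⟨c, hc⟩).symm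
    rw [map_smul, map_smul, h1, smul_comm]
    exact congrArg (c • ·) hm
  obtain ⟨G, hG⟩ := IsNoetherian.noetherian a
  have hkill : ∀ c : G, ∃ t : p.primeCompl, (t : A) • (s₀ : A) •
      g ⟨c, hG ▸ Submodule.subset_span c.2⟩ = (t : A) • (c : A) • m := fun c =>
    IsLocalizedModule.exists_of_eq (S := p.primeCompl) (hc₀ c (hG ▸ Submodule.subset_span c.2))
  choose t ht using hkill
  have hmem : ((∏ c : G, t c : p.primeCompl) : A) * (s₀ : A) ∈ T := by
    refine ⟨((∏ c : G, t c : p.primeCompl) : A) • m, fun c hc => ?_⟩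
    let φ : a →ₗ[A] M := ((∏ c : G, t c : p.primeCompl) : A) • ((s₀ : A) • g -
      (LinearMap.toSpanSingleton A M m) ∘ₗ a.subtype)
    suffices hφ : φ = 0 by
      have := LinearMap.congr_fun hφ ⟨c, hc⟩
      simp only [φ, LinearMap.smul_apply, LinearMap.sub_apply, LinearMap.comp_apply,
        LinearMap.toSpanSingleton_apply, Submodule.coe_subtype, LinearMap.zero_apply, smul_sub,
        sub_eq_zero] at this
      rw [mul_smul, this, smul_comm]
    have hker : Submodule.span A (G : Set A) ≤ (LinearMap.ker φ).map a.subtype := by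
      rw [Submodule.span_le]
      intro d hd
      refine ⟨⟨d, hG ▸ Submodule.subset_span hd⟩, ?_, rfl⟩
      rw [SetLike.mem_coe, LinearMap.mem_ker]
      simp only [φ, LinearMap.smul_apply, LinearMap.sub_apply, LinearMap.comp_apply,
        LinearMap.toSpanSingleton_apply, Submodule.coe_subtype]
      rw [← Finset.prod_erase_mul _ _ (Finset.mem_univ (⟨d, hd⟩ : G)), Submonoid.coe_mul, mul_smul,
        smul_sub, sub_eq_zero.2 (ht ⟨d, hd⟩), smul_zero]
    refine LinearMap.ext fun c => ?_
    obtain ⟨c', hc', hcc⟩ := hker (hG.symm ▸ c.2 : (c : A) ∈ Submodule.span A (G : Set A))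
    rw [show c = c' from Subtype.ext hcc.symm]
    exact hc'
  exact ((∏ c : G, t c) * s₀).2 (hTp hmem)

variable {X : Scheme.{u}} [IsLocallyNoetherian X]

/-- A quasi-coherent module with injective stalks is injective. -/
theorem injective_of_stalks (F : X.Modules) [F.IsQuasicoherent]
    (hst : ∀ x : X, Module.Injective (X.presheaf.stalk x) (F.presheaf.stalk x)) : Injective F := by
  refine injective_of_locally_injective F fun x => ?_
  obtain ⟨V, hV, hxV⟩ := exists_affine_mem x
  haveI := IsLocallyNoetherian.component_noetherian (X := X) ⟨V, hV⟩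
  have hM : Module.Injective Γ(X, V) Γ(F, V) := by
    refine injective_of_localized fun p hp => ?_
    let y : X := hV.fromSpec ⟨p, inferInstance⟩
    have hy : y ∈ V := by
      have := (Set.ext_iff.1 hV.range_fromSpec y).1 ⟨⟨p, inferInstance⟩, rfl⟩
      exact this
    have hyp : hV.primeIdealOf ⟨y, hy⟩ = (⟨p, inferInstance⟩ : PrimeSpectrum Γ(X, V)) :=
      hV.fromSpec.isOpenEmbedding.injective (hV.fromSpec_primeIdealOf ⟨y, hy⟩)
    let _ := stalkModule F y hy
    have hloc := isLocalizedModule_germ F hV y hy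
    rw [show (hV.primeIdealOf ⟨y, hy⟩).asIdeal.primeCompl = p.primeCompl by rw [hyp]] at hloc
    let _ := X.presheaf.algebra_section_stalk (⟨y, hy⟩ : V)
    haveI := hV.isLocalization_stalk ⟨y, hy⟩
    haveI : Module.Flat Γ(X, V) (X.presheaf.stalk y) :=
      IsLocalization.flat _ (hV.primeIdealOf ⟨y, hy⟩).asIdeal.primeCompl
    haveI : IsScalarTower Γ(X, V) (X.presheaf.stalk y) (F.presheaf.stalk y) :=
      ⟨fun r s z => by
        change (X.presheaf.germ V y hy r * s) • z = X.presheaf.germ V y hy r • s • z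
        rw [mul_smul]⟩
    haveI := hst y
    exact ⟨F.presheaf.stalk y, inferInstance, inferInstance, germₗ F y hy, hloc,
      InjSec.injective_of_flat Γ(X, V) (X.presheaf.stalk y) _⟩
  refine ⟨V, hxV, ?_⟩
  let G := F.restrict hV.fromSpec
  haveI : IsIso G.fromTildeΓ := inferInstance
  let e₀ := topEquiv hV F
  have he : ∀ (r : Γ(X, V)) (y : Γ(G, ⊤)), e₀ (r • y) = r • e₀ y := fun r y => by
    simp only [e₀, topEquiv, G]
    rw [secEquiv_smul hV F ⊤ _ le_rfl, resFun_self]
  let e : (moduleSpecΓFunctor (R := Γ(X, V))).obj G ≃ₗ[Γ(X, V)] Γ(F, V) :=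
    { e₀ with map_smul' := he }
  haveI : Module.Injective Γ(X, V) ((moduleSpecΓFunctor (R := Γ(X, V))).obj G) := by
    refine ⟨fun {P Q} _ _ _ _ φ hφ g => ?_⟩
    obtain ⟨h, hh⟩ := Module.Injective.out (R := Γ(X, V)) (Q := Γ(F, V)) φ hφ (e.toLinearMap ∘ₗ g)
    exact ⟨e.symm.toLinearMap ∘ₗ h, fun p => (congrArg e.symm (hh p)).trans (e.symm_apply_apply _)⟩
  have hI₁ : Injective (tilde ((moduleSpecΓFunctor (R := Γ(X, V))).obj G)) := injective_tilde _
  haveI hI₂ : Injective G := Injective.of_iso (asIso G.fromTildeΓ) hI₁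
  have hI₃ : Injective (G.restrict hV.isoSpec.hom) := injective_restrict _ G
  exact Injective.of_iso ((Scheme.Modules.restrictFunctorCongr hV.isoSpec_hom_fromSpec.symm).app F ≪≫
    (Scheme.Modules.restrictFunctorComp _ _).app F).symm hI₃

end Groth.CohTwo.InjQCoh
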