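import Groth.Agent.SitesTopoi.Mod.DerivedRestr
import Groth.Agent.CohTwo.Glue
import Groth.Agent.CohTwo.Extend
import Groth.Agent.QCohMod.Category
import Groth.Agent.SiteCohomology.SchemeModules

/-!
Sections with supports on a scheme and restriction to open subschemes.
-/

universe u

open CategoryTheory CategoryTheory.Limits AlgebraicGeometry TopologicalSpace Opposite

set_option backward.isDefEq.respectTransparency false
set_option linter.style.haveILetI false

namespace Groth.CohTwo.GammaSh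

variable {X : Scheme.{u}} (U : X.Opens)

/-- Sections supported off `U`. -/
noncomputable abbrev gam : X.Modules ⥤ X.Modules := ModSite.sectOn X.sheaf U

/-- The inclusion. -/
noncomputable abbrev gι (H : X.Modules) : (gam U).obj H ⟶ H :=
  (ModSite.sectOnι X.sheaf U).app H

theorem mono_gι (H : X.Modules) : Mono (gι U H) := inferInstanceAs (Mono (kernel.ι _))

theorem res_gι (H : X.Modules) (W : X.Opens) (t : Γ((gam U).obj H, W)) :
    res H (inf_le_left : W ⊓ U ≤ W) ((gι U H).app W t) = 0 :=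
  SitesTopoi.ModH.mem_sectOn (O := X.sheaf) U H (V := W) t (W := W ⊓ U)
    (homOfLE inf_le_left) (homOfLE inf_le_right)

/-- The unit whose kernel it is. -/
noncomputable abbrev gU (H : X.Modules) :
    H ⟶ ((ModSite.restr X.sheaf U ⋙ ModSite.pushOver X.sheaf U).obj H : X.Modules) :=
  (ModSite.restrPushOverAdj X.sheaf U).unit.app H

theorem unit_app_eq_zero (H : X.Modules) {W : X.Opens} (s : Γ(H, W))
    (h : res H (inf_le_left : W ⊓ U ≤ W) s = 0) :
    (gU U H).app W s = 0 := by
  refine (SitesTopoi.ModH.unit_apm_eq_zero_iff (O := X.sheaf) U H (V := W) s).2 fun W' g a => ?_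
  change res H (leOfHom g) s = 0
  rw [← res_res H (le_inf (leOfHom g) (leOfHom a)) inf_le_left s, h, map_zero]

/-- Maps with supports off `U` lift. -/
theorem exists_lift {K H : X.Modules} (ψ : K ⟶ H)
    (h : ∀ (W : X.Opens) (t : Γ(K, W)), res H (inf_le_left : W ⊓ U ≤ W) (ψ.app W t) = 0) :
    ∃ φ : K ⟶ (gam U).obj H, φ ≫ gι U H = ψ :=
  ⟨kernel.lift _ ψ (hom_ext_app fun W t => unit_app_eq_zero U H _ (h W t)), kernel.lift_ι _ _ _⟩

theorem mem_range_gι (H : X.Modules) {W : X.Opens} {s : Γ(H, W)}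
    (h : res H (inf_le_left : W ⊓ U ≤ W) s = 0) : ∃ t, (gι U H).app W t = s := by
  haveI := mono_gι U H
  exact QCohMod.exists_app_eq_of_mono_exact (X := X)
    (S := ShortComplex.mk (gι U H) (gU U H)
      (kernel.condition _))
    (ShortComplex.exact_of_f_is_kernel _ (kernelIsKernel _)) W s (unit_app_eq_zero U H s h)

variable {Y : Scheme.{u}} (j : Y ⟶ X) [IsOpenImmersion j]

theorem image_inf_preimage (W : Y.Opens) : j ''ᵁ (W ⊓ j ⁻¹ᵁ U) = j ''ᵁ W ⊓ U := by
  ext x
  constructor
  · rintro ⟨y, ⟨h1, h2⟩, rfl⟩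
    exact ⟨⟨y, h1, rfl⟩, h2⟩
  · rintro ⟨⟨y, h1, rfl⟩, h2⟩
    exact ⟨y, ⟨h1, h2⟩, rfl⟩

theorem res_restrict (H : X.Modules) {W' W : Y.Opens} (h : W' ≤ W) (s : Γ(H.restrict j, W)) :
    res (H.restrict j) h s = res H (Scheme.Hom.image_mono j h) (show Γ(H, j ''ᵁ W) from s) := rfl

theorem exists_restrict_lift (H : X.Modules) :
    ∃ φ : ((gam U).obj H).restrict j ⟶ (gam (j ⁻¹ᵁ U)).obj (H.restrict j),
      φ ≫ gι (j ⁻¹ᵁ U) (H.restrict j) = (Scheme.Modules.restrictFunctor j).map (gι U H) := by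
  refine exists_lift _ _ fun W t => ?_
  rw [res_restrict]
  have h1 := res_gι U H (j ''ᵁ W) t
  exact (res_res H (image_inf_preimage U j W).le inf_le_left _).symm.trans
    ((congrArg (res H _) h1).trans (map_zero _))

/-- Comparison of sections with supports with restriction. -/
noncomputable def gamRestrictHom (H : X.Modules) :
    ((gam U).obj H).restrict j ⟶ (gam (j ⁻¹ᵁ U)).obj (H.restrict j) :=
  (exists_restrict_lift U j H).choose

theorem gamRestrictHom_ι (H : X.Modules) :
    gamRestrictHom U j H ≫ gι (j ⁻¹ᵁ U) (H.restrict j) =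
      (Scheme.Modules.restrictFunctor j).map (gι U H) :=
  (exists_restrict_lift U j H).choose_spec

theorem isIso_gamRestrictHom (H : X.Modules) : IsIso (gamRestrictHom U j H) := by
  refine isIso_of_app_bijective _ fun W => ?_
  haveI := mono_gι U H
  haveI := mono_gι (j ⁻¹ᵁ U) (H.restrict j)
  have h : ∀ t, (gι (j ⁻¹ᵁ U) (H.restrict j)).app W ((gamRestrictHom U j H).app W t) =
      (gι U H).app (j ''ᵁ W) t := fun t =>
    congrArg (fun f : _ ⟶ H.restrict j => f.app W t) (gamRestrictHom_ι U j H)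
  refine ⟨fun s t hst => ?_, fun s => ?_⟩
  · refine app_injective (gι U H) (j ''ᵁ W) ?_
    rw [← h, ← h, hst]
  · have h1 := res_gι (j ⁻¹ᵁ U) (H.restrict j) W s
    rw [res_restrict] at h1
    obtain ⟨t, ht⟩ := mem_range_gι U H (W := j ''ᵁ W)
      (s := (gι (j ⁻¹ᵁ U) (H.restrict j)).app W s)
      ((res_res H (image_inf_preimage U j W).ge (Scheme.Hom.image_mono j inf_le_left) _).symm.trans
        ((congrArg (res H _) h1).trans (map_zero _)))
    exact ⟨t, app_injective (gι (j ⁻¹ᵁ U) (H.restrict j)) W ((h t).trans ht)⟩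

/-- Sections with supports commute with restriction to open subschemes. -/
noncomputable def gamRestrictIso :
    gam U ⋙ Scheme.Modules.restrictFunctor j ≅
      Scheme.Modules.restrictFunctor j ⋙ gam (j ⁻¹ᵁ U) :=
  NatIso.ofComponents (fun H => @asIso _ _ _ _ (gamRestrictHom U j H) (isIso_gamRestrictHom U j H))
    fun {H H'} f => by
      haveI := mono_gι (j ⁻¹ᵁ U) (H'.restrict j)
      refine (cancel_mono (gι (j ⁻¹ᵁ U) (H'.restrict j))).1 ?_
      change ((Scheme.Modules.restrictFunctor j).map ((gam U).map f) ≫ gamRestrictHom U j H') ≫ _ =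
        (gamRestrictHom U j H ≫ (gam (j ⁻¹ᵁ U)).map ((Scheme.Modules.restrictFunctor j).map f)) ≫ _
      rw [Category.assoc, gamRestrictHom_ι, Category.assoc, ← Functor.map_comp]
      refine Eq.trans ?_ (congrArg (gamRestrictHom U j H ≫ ·)
        ((ModSite.sectOnι Y.sheaf (j ⁻¹ᵁ U)).naturality ((Scheme.Modules.restrictFunctor j).map f)).symm)
      refine Eq.trans ?_ ((Category.assoc _ _ _).trans rfl)
      refine Eq.trans ?_ (congrArg (· ≫ (Scheme.Modules.restrictFunctor j).map f)
        (gamRestrictHom_ι U j H).symm)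
      rw [← Functor.map_comp]
      exact congrArg _ ((ModSite.sectOnι X.sheaf U).naturality f)

end Groth.CohTwo.GammaSh
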