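import Groth.Agent.CohTwo.ExtZAffine
import Groth.Agent.CohTwo.SectOnRestrict
import Groth.Agent.SheafExt.Restrict
import Groth.Agent.KTheory.PerfCoh

/-!
Ext sheaves with supports on affine charts.
-/

universe u

open CategoryTheory CategoryTheory.Limits AlgebraicGeometry TopologicalSpace Opposite

set_option backward.isDefEq.respectTransparency false
set_option linter.style.haveILetI false

namespace Groth.CohTwo.ExtZ

open Groth.CohTwo.GammaSh (gam gι opensIdeal)

variable {X Y : Scheme.{u}}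

/-- Invariance in the first variable. -/
theorem nonempty_extZSh_congr (U : X.Opens) {F F' : X.Modules} (e : F ≅ F')
    [ModSite.HasSheafHom (O := X.sheaf) F] [ModSite.HasSheafHom (O := X.sheaf) F']
    [HasInjectiveResolutions (ModSite.Mod X.sheaf)] (i : ℕ) (G : X.Modules) :
    Nonempty (extZObj U F i G ≅ extZObj U F' i G) :=
  let h : (ModSite.sheafHom (O := X.sheaf) F) ≅ ModSite.sheafHom (O := X.sheaf) F' :=
    Adjunction.rightAdjointUniq (ModSite.sheafHomAdj (O := X.sheaf) F)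
      ((ModSite.sheafHomAdj (O := X.sheaf) F').ofNatIsoLeft
        ((ModSite.tensorBi X.sheaf).flip.mapIso e.symm))
  ⟨(SitesTopoi.ModH.rightDerivedIso
    (Functor.isoWhiskerRight h (ModSite.sectOn X.sheaf U)) i).app G⟩

/-- Ext sheaves with supports commute with restriction to an open. -/
theorem nonempty_extZSh_restrict (j : Y ⟶ X) [IsOpenImmersion j] (U : X.Opens) (F G : X.Modules)
    (i : ℕ) [ModSite.HasSheafHom (O := X.sheaf) F] [HasInjectiveResolutions (ModSite.Mod X.sheaf)]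
    [ModSite.HasSheafHom (O := Y.sheaf) (F.restrict j)]
    [HasInjectiveResolutions (ModSite.Mod Y.sheaf)] :
    Nonempty ((extZObj U F i G).restrict j ≅
      extZObj (j ⁻¹ᵁ U) (F.restrict j) i (G.restrict j)) := by
  haveI : HasInjectiveResolutions X.Modules := ‹HasInjectiveResolutions (ModSite.Mod X.sheaf)›
  haveI : HasInjectiveResolutions Y.Modules := ‹HasInjectiveResolutions (ModSite.Mod Y.sheaf)›
  haveI : PreservesFiniteLimits (Scheme.Modules.restrictFunctor j) :=
    haveI : PreservesLimitsOfSize.{0, 0} (Scheme.Modules.restrictFunctor j) :=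
      (CxOX.extZeroAdj j).rightAdjoint_preservesLimits
    PreservesLimitsOfSize.preservesFiniteLimits _
  haveI : PreservesFiniteColimits (Scheme.Modules.restrictFunctor j) :=
    haveI : PreservesColimitsOfSize.{0, 0} (Scheme.Modules.restrictFunctor j) :=
      (Scheme.Modules.restrictAdjunction j).leftAdjoint_preservesColimits
    PreservesColimitsOfSize.preservesFiniteColimits _
  haveI : (Scheme.Modules.restrictFunctor j).PreservesInjectiveObjects :=
    ⟨fun {I} _ => CohTwo.injective_restrict j I⟩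
  let H : X.Modules ⥤ X.Modules := ModSite.sheafHom (O := X.sheaf) F
  let H' : Y.Modules ⥤ Y.Modules := ModSite.sheafHom (O := Y.sheaf) (F.restrict j)
  haveI : H.Additive := ModSite.sheafHom_additive (O := X.sheaf) F
  haveI : H'.Additive := ModSite.sheafHom_additive (O := Y.sheaf) (F.restrict j)
  haveI : (gam U).Additive := ModSite.sectOn_additive X.sheaf U
  haveI : (gam (j ⁻¹ᵁ U)).Additive := ModSite.sectOn_additive Y.sheaf (j ⁻¹ᵁ U)
  let A : X.Modules ⥤ X.Modules := H ⋙ gam U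
  let B : Y.Modules ⥤ Y.Modules := H' ⋙ gam (j ⁻¹ᵁ U)
  let h : A ⋙ Scheme.Modules.restrictFunctor j ≅ Scheme.Modules.restrictFunctor j ⋙ B :=
    Functor.associator _ _ _ ≪≫ Functor.isoWhiskerLeft H (GammaSh.gamRestrictIso U j) ≪≫
      (Functor.associator _ _ _).symm ≪≫
      Functor.isoWhiskerRight (SheafExt.sheafHomRestrictIso j F) (gam (j ⁻¹ᵁ U)) ≪≫
      Functor.associator _ _ _
  obtain ⟨c⟩ := SheafExt.nonempty_rightDerived_comp_exact A (Scheme.Modules.restrictFunctor j) i G
  exact ⟨c.symm ≪≫ (SitesTopoi.ModH.rightDerivedIso h i).app G ≪≫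
      (LocCohZBase.DerivedComp.rightDerivedCompIso (Scheme.Modules.restrictFunctor j) B i).app G⟩

variable [IsLocallyNoetherian X]

/-- On an affine chart, Ext sheaves with supports are those of tilde modules. -/
theorem nonempty_extZSh_chart (U : X.Opens) (F G : X.Modules) (hF : Coh.IsCoh F) [G.IsQuasicoherent]
    [ModSite.HasSheafHom (O := X.sheaf) F] [HasInjectiveResolutions (ModSite.Mod X.sheaf)]
    {V : X.Opens} (hV : IsAffineOpen V) (i : ℕ) :
    ∃ (J : InjectiveResolution (moduleSpecΓFunctor.obj (G.restrict hV.fromSpec)))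
      (T : CochainComplex (ModuleCat.{u} Γ(X, V)) ℕ) (ι : T ⟶ J.cocomplex),
      (∀ j, Function.Injective (ι.f j).hom) ∧
      (∀ j, LinearMap.range (ι.f j).hom =
        GammaExt.tors (suppIdeal (hV.fromSpec ⁻¹ᵁ U)) (J.cocomplex.X j)) ∧
      Nonempty ((extZObj U F i G).restrict hV.fromSpec ≅
        tilde ((GammaExt.homT (moduleSpecΓFunctor.obj (F.restrict hV.fromSpec)) T).homology i)) := by
  haveI : IsNoetherianRing Γ(X, V) := IsLocallyNoetherian.component_noetherian ⟨V, hV⟩
  have hFV := SheafExt.isCoh_restrictFunctor hV.fromSpec hF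
  haveI := hFV.1
  haveI := SheafExt.finite_Γ_of_isCoh hFV
  haveI := SitesTopoi.ModH.hasSheafHom (O := (Spec Γ(X, V)).sheaf) (F.restrict hV.fromSpec)
  haveI := SitesTopoi.ModH.hasSheafHom (O := (Spec Γ(X, V)).sheaf)
    (tilde (moduleSpecΓFunctor.obj (F.restrict hV.fromSpec)))
  haveI : HasInjectiveResolutions (ModSite.Mod (Spec Γ(X, V)).sheaf) := inferInstance
  obtain ⟨r⟩ := nonempty_extZSh_restrict hV.fromSpec U F G i
  obtain ⟨b⟩ := nonempty_extZSh_congr (hV.fromSpec ⁻¹ᵁ U)
    (F' := tilde (moduleSpecΓFunctor.obj (F.restrict hV.fromSpec)))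
    (asIso (F.restrict hV.fromSpec).fromTildeΓ).symm i (G.restrict hV.fromSpec)
  obtain ⟨J, T, ι, h₁, h₂, ⟨c⟩⟩ := exists_model (hV.fromSpec ⁻¹ᵁ U)
    (moduleSpecΓFunctor.obj (F.restrict hV.fromSpec))
    (moduleSpecΓFunctor.obj (G.restrict hV.fromSpec)) i
  exact ⟨J, T, ι, h₁, h₂, ⟨r ≪≫ b ≪≫ (ModSite.extZSh (O := (Spec Γ(X, V)).sheaf) _ _ i).mapIso
    (asIso (G.restrict hV.fromSpec).fromTildeΓ).symm ≪≫ c⟩⟩

omit [IsLocallyNoetherian X] in
/-- A property of restrictions to affine spectra transfers to the open subscheme. -/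
theorem restrict_ι_iso (E : X.Modules) {V : X.Opens} (hV : IsAffineOpen V) :
    Nonempty ((E.restrict hV.fromSpec).restrict hV.isoSpec.hom ≅ E.restrict V.ι) :=
  ⟨((Scheme.Modules.restrictFunctorCongr hV.isoSpec_hom_fromSpec.symm).app E ≪≫
    (Scheme.Modules.restrictFunctorComp _ _).app E).symm⟩

/-- Ext sheaves with supports of a coherent into a quasi-coherent module are quasi-coherent. -/
theorem isQCoh_extZSh (U : X.Opens) (F G : X.Modules) (hF : Coh.IsCoh F) [G.IsQuasicoherent]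
    [ModSite.HasSheafHom (O := X.sheaf) F] [HasInjectiveResolutions (ModSite.Mod X.sheaf)] (i : ℕ) :
    (extZObj U F i G).IsQuasicoherent := by
  refine QCohMod.isQCoh_of_forall_exists _ fun x => ?_
  obtain ⟨V, hV, hxV, -⟩ :=
    X.isBasis_affineOpens.exists_subset_of_mem_open (Set.mem_univ x) isOpen_univ
  obtain ⟨V, hV, rfl⟩ := hV
  refine ⟨V, hxV, ?_⟩
  obtain ⟨J, T, ι, -, -, ⟨e⟩⟩ := nonempty_extZSh_chart U F G hF hV i
  obtain ⟨r⟩ := restrict_ι_iso (extZObj U F i G) hV
  haveI : ((extZObj U F i G).restrict hV.fromSpec).IsQuasicoherent :=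
    (QCohMod.isQCoh_iff_of_iso e.symm).mp inferInstance
  exact (QCohMod.isQCoh_iff_of_iso r).mp
    (Scheme.Modules.isQuasicoherent_restrictFunctor _ _)

/-- Coherence is tested on the algebraic model. -/
theorem isCoh_extZSh_of_finite (U : X.Opens) (F G : X.Modules) (hF : Coh.IsCoh F)
    [G.IsQuasicoherent] [ModSite.HasSheafHom (O := X.sheaf) F]
    [HasInjectiveResolutions (ModSite.Mod X.sheaf)] (i : ℕ)
    (h : ∀ (V : X.Opens) (hV : IsAffineOpen V)
      (J : InjectiveResolution (moduleSpecΓFunctor.obj (G.restrict hV.fromSpec)))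
      (T : CochainComplex (ModuleCat.{u} Γ(X, V)) ℕ) (ι : T ⟶ J.cocomplex),
      (∀ j, Function.Injective (ι.f j).hom) →
      (∀ j, LinearMap.range (ι.f j).hom =
        GammaExt.tors (suppIdeal (hV.fromSpec ⁻¹ᵁ U)) (J.cocomplex.X j)) →
      Module.Finite Γ(X, V)
        ((GammaExt.homT (moduleSpecΓFunctor.obj (F.restrict hV.fromSpec)) T).homology i)) :
    Coh.IsCoh (extZObj U F i G) := by
  refine KTheory.Perf.isCoh_of_local fun x => ?_
  obtain ⟨V, hV, hxV, -⟩ :=
    X.isBasis_affineOpens.exists_subset_of_mem_open (Set.mem_univ x) isOpen_univ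
  obtain ⟨V, hV, rfl⟩ := hV
  refine ⟨V, hxV, ?_⟩
  obtain ⟨J, T, ι, h₁, h₂, ⟨e⟩⟩ := nonempty_extZSh_chart U F G hF hV i
  obtain ⟨r⟩ := restrict_ι_iso (extZObj U F i G) hV
  haveI := h V hV J T ι h₁ h₂
  exact QCohMod.isCoh_of_iso r (SheafExt.isCoh_restrictFunctor _ (QCohMod.isCoh_of_iso e.symm
    ⟨inferInstance, (PropsBasic.FPSections.isFT_tilde_iff _).2 inferInstance⟩))

/-- Vanishing is tested on the algebraic model. -/
theorem isZero_extZSh_of_exactAt (U : X.Opens) (F G : X.Modules) (hF : Coh.IsCoh F)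
    [G.IsQuasicoherent] [ModSite.HasSheafHom (O := X.sheaf) F]
    [HasInjectiveResolutions (ModSite.Mod X.sheaf)] (i : ℕ)
    (h : ∀ (V : X.Opens) (hV : IsAffineOpen V)
      (J : InjectiveResolution (moduleSpecΓFunctor.obj (G.restrict hV.fromSpec)))
      (T : CochainComplex (ModuleCat.{u} Γ(X, V)) ℕ) (ι : T ⟶ J.cocomplex),
      (∀ j, Function.Injective (ι.f j).hom) →
      (∀ j, LinearMap.range (ι.f j).hom =
        GammaExt.tors (suppIdeal (hV.fromSpec ⁻¹ᵁ U)) (J.cocomplex.X j)) →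
      (GammaExt.homT (moduleSpecΓFunctor.obj (F.restrict hV.fromSpec)) T).ExactAt i) :
    IsZero (extZObj U F i G) := by
  rw [QCohMod.isZero_iff_support_eq_empty]
  refine Set.eq_empty_of_forall_notMem fun x hx => ?_
  obtain ⟨V, hV, hxV, -⟩ :=
    X.isBasis_affineOpens.exists_subset_of_mem_open (Set.mem_univ x) isOpen_univ
  obtain ⟨V, hV, rfl⟩ := hV
  obtain ⟨J, T, ι, h₁, h₂, ⟨e⟩⟩ := nonempty_extZSh_chart U F G hF hV i
  have hz : IsZero ((extZObj U F i G).restrict hV.fromSpec) :=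
    IsZero.of_iso ((tilde.functor _).map_isZero ((HomologicalComplex.exactAt_iff_isZero_homology _ _).1
      (h V hV J T ι h₁ h₂))) e
  haveI := isQCoh_extZSh U F G hF i
  haveI : Subsingleton Γ((extZObj U F i G).restrict hV.fromSpec, ⊤) :=
    AddCommGrpCat.subsingleton_of_isZero
      (((SheafOfModules.toSheaf _ ⋙ sheafToPresheaf _ _).map_isZero hz).obj (op ⊤))
  haveI : Subsingleton Γ(extZObj U F i G, V) :=
    (QCohMod.topEquiv hV (extZObj U F i G)).toEquiv.subsingleton_congr.1 ‹_›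
  have hp := (QCohMod.mem_support_iff _ hV x hxV).1 hx
  rw [Module.support_eq_empty] at hp
  exact hp

end Groth.CohTwo.ExtZ
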