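import Groth.Agent.CohTwo.LocFreeDual
import Groth.Agent.CohBase.ExchangeStmt
import Groth.Agent.CohBase.HomNearFibre
import Groth.Agent.RefRank.Divisor
import Groth.Agent.LocCohBase.HomExtend
import Groth.Agent.Duality.SheafHom
import Groth.Agent.CohFin.ProjFinite

/-!
`M ↦ Hom(E, F ⊗ M)` is corepresentable for finite locally free `E`, and so are kernels.
-/

universe u

open CategoryTheory Limits AlgebraicGeometry TopologicalSpace Opposite
open scoped TensorProduct
open Groth.CohTwo.SheafHomIso (tF)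
open Groth.CohTwo.LocFreeDual (dual)
open Groth.PicAux (tmulSec tensor_hom_ext exists_leftUnitor exists_braiding)

namespace Groth.CohTwo.HomTensor

variable {X : Scheme.{u}}

/-- Homomorphisms out of the structure module are global sections. -/
noncomputable def homOEquiv (N : X.Modules) : (Coh.structureModule X ⟶ N) ≃+ Γ(N, ⊤) where
  toFun φ := φ.app ⊤ (PicAux.oneSec X ⊤)
  invFun m := N.unitHomEquiv.symm
    ⟨fun U => QCohMod.res N (le_top : U.unop ≤ ⊤) m, fun {U V} i => by
      exact QCohMod.res_res N _ i.unop.le m⟩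
  left_inv φ := by
    apply N.unitHomEquiv.injective
    rw [Equiv.apply_symm_apply]
    exact Subtype.ext (funext fun U =>
      (QCohMod.res_app φ (le_top : U.unop ≤ ⊤) (PicAux.oneSec X ⊤)).trans
        (congrArg (φ.app U.unop) (map_one (X.presheaf.map (homOfLE (le_top : U.unop ≤ ⊤)).op).hom)))
  right_inv m := by
    have h := congrFun (congrArg Subtype.val (N.unitHomEquiv.apply_symm_apply
      ⟨fun U => QCohMod.res N (le_top : U.unop ≤ ⊤) m, fun {U V} i => by
        exact QCohMod.res_res N _ i.unop.le m⟩)) (op ⊤)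
    exact h.trans (QCohMod.res_self N m)
  map_add' φ ψ := rfl

lemma homOEquiv_comp {N N' : X.Modules} (φ : Coh.structureModule X ⟶ N) (g : N ⟶ N') :
    homOEquiv N' (φ ≫ g) = g.app ⊤ (homOEquiv N φ) := rfl

variable {E : X.Modules}

/-- `Hom(E, N) = Hom(O, E^∨ ⊗ N)`. -/
noncomputable def homEquivDual (hE : FlatMod.IsFinLocFree E) (N : X.Modules) :
    (E ⟶ N) ≃ (Coh.structureModule X ⟶ (tF (dual E)).obj N) :=
  haveI := Duality.SheafHom.hasSheafHom E
  (((exists_braiding E (Coh.structureModule X)).choose ≪≫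
    (exists_leftUnitor E).choose).homFromEquiv).symm.trans
    ((LocFreeDual.dualAdj hE).homEquiv (Coh.structureModule X) N)

lemma homEquivDual_comp (hE : FlatMod.IsFinLocFree E) {N N' : X.Modules} (φ : E ⟶ N) (g : N ⟶ N') :
    homEquivDual hE N' (φ ≫ g) = homEquivDual hE N φ ≫ (tF (dual E)).map g := by
  haveI := Duality.SheafHom.hasSheafHom E
  exact (congrArg ((LocFreeDual.dualAdj hE).homEquiv (Coh.structureModule X) N')
    (Category.assoc _ _ _).symm).trans ((LocFreeDual.dualAdj hE).homEquiv_naturality_right _ g)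

/-- `Hom(E, N) = Γ(E^∨ ⊗ N)`, additively. -/
noncomputable def homEquivSec (hE : FlatMod.IsFinLocFree E) (N : X.Modules) :
    (E ⟶ N) ≃+ Γ((tF (dual E)).obj N, ⊤) :=
  { (homEquivDual hE N).trans (homOEquiv _).toEquiv with
    map_add' := fun φ ψ => by
      have := Duality.SheafHom.hasSheafHom E
      change homOEquiv _ (homEquivDual hE N (φ + ψ)) =
        homOEquiv _ (homEquivDual hE N φ) + homOEquiv _ (homEquivDual hE N ψ)
      refine Eq.trans (congrArg (homOEquiv _) ?_) (map_add (homOEquiv ((tF (dual E)).obj N)) _ _)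
      exact (congrArg ((LocFreeDual.dualAdj hE).homEquiv (Coh.structureModule X) N)
        (Preadditive.comp_add _ _ _ _ φ ψ)).trans
        (map_add ((LocFreeDual.dualAdj hE).homAddEquiv (Coh.structureModule X) N) _ _) }

lemma homEquivSec_comp (hE : FlatMod.IsFinLocFree E) {N N' : X.Modules} (φ : E ⟶ N) (g : N ⟶ N') :
    homEquivSec hE N' (φ ≫ g) = ((tF (dual E)).map g).app ⊤ (homEquivSec hE N φ) :=
  (congrArg (homOEquiv _) (homEquivDual_comp hE φ g)).trans (homOEquiv_comp _ _)

/-- `D ⊗ (P ⊗ F) ≅ P ⊗ (D ⊗ F)`. -/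
noncomputable def swapIso (D P F : X.Modules) :
    (tF D).obj ((DCoh.tensorRightMod F).obj P) ≅
      (DCoh.tensorRightMod (CohB1.tensorMod D F)).obj P :=
  (DerivedCoh.KFlat.assocApp D P F).symm ≪≫
    (DCoh.tensorRightMod F).mapIso (exists_braiding D P).choose ≪≫
    DerivedCoh.KFlat.assocApp P D F

lemma swapIso_tmul (D P F : X.Modules) (W : X.Opens) (d : Γ(D, W)) (p : Γ(P, W)) (c : Γ(F, W)) :
    (swapIso D P F).hom.app W (tmulSec d (tmulSec p c : Γ(CohB1.tensorMod P F, W))) =
      (tmulSec p (tmulSec d c : Γ(CohB1.tensorMod D F, W)) :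
        Γ(CohB1.tensorMod P (CohB1.tensorMod D F), W)) := by
  refine Eq.trans (congrArg (fun z => (DerivedCoh.KFlat.assocApp P D F).hom.app W
    (((DCoh.tensorRightMod F).map (exists_braiding D P).choose.hom).app W z))
    (LocFreeDual.assoc_inv_tmul D P F W d p c)) ?_
  refine Eq.trans (congrArg ((DerivedCoh.KFlat.assocApp P D F).hom.app W)
    ((DerivedCoh.KFlat.tensorMap_left_tmulSec (exists_braiding D P).choose.hom F W _ c).trans ?_))
    (DerivedCoh.KFlat.assocApp_tmul P D F W p d c)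
  exact congrArg (fun z => (tmulSec z c : Γ(CohB1.tensorMod (CohB1.tensorMod P D) F, W)))
    ((exists_braiding D P).choose_spec W d p)

lemma swapIso_natural (D F : X.Modules) {P P' : X.Modules} (φ : P ⟶ P') :
    (tF D).map ((DCoh.tensorRightMod F).map φ) ≫ (swapIso D P' F).hom =
      (swapIso D P F).hom ≫ (DCoh.tensorRightMod (CohB1.tensorMod D F)).map φ := by
  refine (cancel_epi (DerivedCoh.KFlat.assocApp D P F).hom).1
    (Groth.PicAux.tensor_hom_ext₃ fun W d p c => ?_)
  change (swapIso D P' F).hom.app W (((tF D).map ((DCoh.tensorRightMod F).map φ)).app W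
      ((DerivedCoh.KFlat.assocApp D P F).hom.app W
        (tmulSec (tmulSec d p : Γ(CohB1.tensorMod D P, W)) c :
          Γ(CohB1.tensorMod (CohB1.tensorMod D P) F, W)))) =
    ((DCoh.tensorRightMod (CohB1.tensorMod D F)).map φ).app W ((swapIso D P F).hom.app W
      ((DerivedCoh.KFlat.assocApp D P F).hom.app W
        (tmulSec (tmulSec d p : Γ(CohB1.tensorMod D P, W)) c :
          Γ(CohB1.tensorMod (CohB1.tensorMod D P) F, W))))
  rw [DerivedCoh.KFlat.assocApp_tmul]
  refine Eq.trans (congrArg ((swapIso D P' F).hom.app W)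
    (((SheafHomIso.tF_map_tmulSec ((DCoh.tensorRightMod F).map φ) W d _).trans
      (congrArg (fun z => (tmulSec d z : Γ(CohB1.tensorMod D (CohB1.tensorMod P' F), W)))
        (DerivedCoh.KFlat.tensorMap_left_tmulSec φ F W p c))))) ?_
  refine (swapIso_tmul D P' F W d _ c).trans ?_
  refine Eq.trans ?_ (congrArg _ (swapIso_tmul D P F W d p c)).symm
  exact (DerivedCoh.KFlat.tensorMap_left_tmulSec φ (CohB1.tensorMod D F) W p _).symm

/-- Tensoring by a finite locally free module preserves flatness over the base. -/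
theorem isFlatOver_tensorMod {Y : Scheme.{u}} (f : X ⟶ Y) {D F : X.Modules}
    (hD : FlatMod.IsFinLocFree D) (hF : FlatMod.IsFlatOver f F) :
    FlatMod.IsFlatOver f (CohB1.tensorMod D F) := by
  intro x
  classical
  let := (f.stalkMap x).hom.toAlgebra
  let := FlatMod.moduleStalkOver f F x
  let := FlatMod.moduleStalkOver f (CohB1.tensorMod D F) x
  have : IsScalarTower (Y.presheaf.stalk (f x)) (X.presheaf.stalk x) (F.presheaf.stalk x) :=
    .of_algebraMap_smul fun _ _ => rfl
  have : IsScalarTower (Y.presheaf.stalk (f x)) (X.presheaf.stalk x)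
      ((CohB1.tensorMod D F).presheaf.stalk x) := .of_algebraMap_smul fun _ _ => rfl
  have : Module.Flat (Y.presheaf.stalk (f x)) (F.presheaf.stalk x) := hF x
  have := KTheory.LocFree.free_stalk hD x
  let b := Module.Free.chooseBasis (X.presheaf.stalk x) (D.presheaf.stalk x)
  let e : (CohB1.tensorMod D F).presheaf.stalk x ≃ₗ[X.presheaf.stalk x]
      (Module.Free.ChooseBasisIndex (X.presheaf.stalk x) (D.presheaf.stalk x) →₀ F.presheaf.stalk x) :=
    (QCohMod.stalkTensorEquiv D F x).symm.trans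
      ((TensorProduct.congr b.repr (LinearEquiv.refl _ _)).trans
        (TensorProduct.finsuppScalarLeft _ _ _))
  have : Module.Flat (Y.presheaf.stalk (f x))
      (Module.Free.ChooseBasisIndex (X.presheaf.stalk x) (D.presheaf.stalk x) →₀ F.presheaf.stalk x) :=
    Module.Flat.of_linearEquiv (finsuppLEquivDirectSum (Y.presheaf.stalk (f x)) (F.presheaf.stalk x) _)
  exact Module.Flat.of_linearEquiv (e.restrictScalars (Y.presheaf.stalk (f x)))

/-- Tensoring by a finite locally free module preserves coherence. -/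
theorem isCoh_tensorMod {D F : X.Modules} (hD : FlatMod.IsFinLocFree D) (hF : Coh.IsCoh F) :
    Coh.IsCoh (CohB1.tensorMod D F) :=
  RefRank.isCoh_tensorMod ((QCohMod.isCoh_iff D).2
    ⟨LocCohBase.HomExtend.isQCoh_of_isFinLocFree hD,
      fun _ hU => (LocFree.finite_projective_sections hD hU).1⟩) hF

variable {A : Type u} [CommRing A] [X.Over (Spec (CommRingCat.of A))]

/-- The dual is finite locally free. -/
theorem isFinLocFree_dual (hE : FlatMod.IsFinLocFree E) : FlatMod.IsFinLocFree (dual E) :=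
  LocFree.isFinLocFree_homSh hE (LocFree.isFinLocFree_unit X)

/-- `Hom(E, P ⊗ F) = Γ(P ⊗ (E^∨ ⊗ F))`. -/
noncomputable def secEquiv (hE : FlatMod.IsFinLocFree E) (F P : X.Modules) :
    (E ⟶ (DCoh.tensorRightMod F).obj P) ≃+
      Γ((DCoh.tensorRightMod (CohB1.tensorMod (dual E) F)).obj P, ⊤) :=
  (homEquivSec hE ((DCoh.tensorRightMod F).obj P)).trans
    (AddEquiv.ofBijective (ConcreteCategory.hom ((swapIso (dual E) P F).hom.app ⊤))
      (ConcreteCategory.bijective_of_isIso _))

omit [X.Over (Spec (CommRingCat.of A))] in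
lemma comp_homEquivSec (hE : FlatMod.IsFinLocFree E) {N N' Q Q' : X.Modules} (φ : E ⟶ N) (g : N ⟶ N')
    (s : (tF (dual E)).obj N ⟶ Q) (s' : (tF (dual E)).obj N' ⟶ Q') (h : Q ⟶ Q')
    (w : (tF (dual E)).map g ≫ s' = s ≫ h) :
    s'.app ⊤ (homEquivSec hE N' (φ ≫ g)) = h.app ⊤ (s.app ⊤ (homEquivSec hE N φ)) :=
  (congrArg (s'.app ⊤) (homEquivSec_comp hE φ g)).trans
    (congr(Scheme.Modules.Hom.app $w ⊤ (homEquivSec hE _ φ)))

omit [X.Over (Spec (CommRingCat.of A))] in
lemma secEquiv_natural (hE : FlatMod.IsFinLocFree E) (F : X.Modules) {P P' : X.Modules} (g : P ⟶ P')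
    (φ : E ⟶ (DCoh.tensorRightMod F).obj P) :
    secEquiv hE F P' (φ ≫ (DCoh.tensorRightMod F).map g) =
      ((DCoh.tensorRightMod (CohB1.tensorMod (dual E) F)).map g).app ⊤ (secEquiv hE F P φ) :=
  comp_homEquivSec hE φ ((DCoh.tensorRightMod F).map g) (swapIso (dual E) P F).hom
    (swapIso (dual E) P' F).hom ((DCoh.tensorRightMod (CohB1.tensorMod (dual E) F)).map g)
    (swapIso_natural (dual E) F g)

/-- `M ↦ Hom(E, F ⊗ M)` as global sections of a twisted tensor functor. -/
noncomputable def homTensorIso (hE : FlatMod.IsFinLocFree E) (F : X.Modules) :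
    CohIII.tensorAFunctor A F ⋙ preadditiveCoyoneda.obj (op E) ≅
      (CohIII.tensorAFunctor A (CohB1.tensorMod (dual E) F) ⋙ CohIII.globalSectionsA A) ⋙
        forget₂ (ModuleCat.{u} A) AddCommGrpCat.{u} :=
  NatIso.ofComponents
    (fun M => AddEquiv.toAddCommGrpIso (secEquiv hE F (CohBase.pullTilde (X := X) M)))
    fun {M N} g => AddCommGrpCat.ext fun φ =>
      secEquiv_natural hE F
        ((Scheme.Modules.pullback (X ↘ Spec (CommRingCat.of A))).map (tilde.map g)) φ

variable [IsNoetherianRing A] [IsProper (X ↘ Spec (CommRingCat.of A))]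

/-- Corepresentability of `M ↦ Hom(E, F ⊗ M)`. -/
theorem exists_corep_hom (hE : FlatMod.IsFinLocFree E) {F : X.Modules} (hF : Coh.IsCoh F)
    (hfl : FlatMod.IsFlatOver (X ↘ Spec (CommRingCat.of A)) F) :
    ∃ Q : ModuleCat.{u} A, Module.Finite A Q ∧
      Nonempty (CohIII.tensorAFunctor A F ⋙ preadditiveCoyoneda.obj (op E) ≅
        (linearCoyoneda A (ModuleCat.{u} A)).obj (op Q) ⋙
          forget₂ (ModuleCat.{u} A) AddCommGrpCat.{u}) := by
  have hD := isFinLocFree_dual hE
  obtain ⟨Q, hQ, ⟨e⟩⟩ := CohBase.exists_corep_globalSections A X _ (isCoh_tensorMod hD hF)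
    (isFlatOver_tensorMod _ hD hfl) CohFin.projFinite
  exact ⟨Q, hQ, ⟨homTensorIso hE F ≪≫ Functor.isoWhiskerRight e _⟩⟩

omit [X.Over (Spec (CommRingCat.of A))] [IsNoetherianRing A] [IsProper (X ↘ Spec (CommRingCat.of A))] in
/-- The kernel of a transformation of corepresentable functors is corepresentable. -/
theorem exists_corep_kernel {Q Q' : ModuleCat.{u} A} [Module.Finite A Q]
    (η : (linearCoyoneda A (ModuleCat.{u} A)).obj (op Q) ⋙ forget₂ (ModuleCat.{u} A) AddCommGrpCat.{u} ⟶
      (linearCoyoneda A (ModuleCat.{u} A)).obj (op Q') ⋙ forget₂ (ModuleCat.{u} A) AddCommGrpCat.{u}) :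
    ∃ (R : ModuleCat.{u} A) (π : Q ⟶ R), Module.Finite A R ∧ Function.Surjective π.hom ∧
      ∀ (M : ModuleCat.{u} A) (x : Q ⟶ M), η.app M x = 0 ↔ ∃ y : R ⟶ M, π ≫ y = x := by
  let u : Q' ⟶ Q := η.app Q (𝟙 Q)
  have hu : ∀ (M : ModuleCat.{u} A) (x : Q ⟶ M), η.app M x = u ≫ x := fun M x => by
    refine Eq.trans ?_ (congr($(η.naturality x) (𝟙 Q)))
    exact congrArg (η.app M) (Category.id_comp x).symm
  refine ⟨ModuleCat.of A (Q ⧸ LinearMap.range u.hom), ModuleCat.ofHom (Submodule.mkQ _), inferInstance,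
    Submodule.mkQ_surjective _, fun M x => ?_⟩
  rw [hu]
  constructor
  · intro h
    refine ⟨ModuleCat.ofHom ((LinearMap.range u.hom).liftQ x.hom ?_), ModuleCat.hom_ext (LinearMap.ext fun _ => rfl)⟩
    rintro _ ⟨q, rfl⟩
    have h' : u ≫ x = 0 := h
    exact congr($h' q)
  · rintro ⟨y, rfl⟩
    refine ModuleCat.hom_ext (LinearMap.ext fun q => ?_)
    change y.hom (Submodule.Quotient.mk (u.hom q)) = 0
    rw [(Submodule.Quotient.mk_eq_zero _).2 (LinearMap.mem_range_self _ q), map_zero]

end Groth.CohTwo.HomTensor
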