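import Groth.Agent.PicAux.TensorLift
import Groth.Agent.RefRank.HomSec
import Groth.Agent.QCohMod.TensorStalk
import Groth.Prelude.Def_DCoh4

/-!
The sheaf Hom defined as an adjoint agrees with the sheaf of families of stalk maps.
-/

universe u

open CategoryTheory AlgebraicGeometry Opposite TopologicalSpace

namespace Groth.CohTwo.SheafHomIso

open Groth.QCohMod (germ germ_res germ_smul exists_germ stalkTensorHom stalkTensorHom_tmul)
open Groth.PicAux (tmulSec tensor_hom_ext exists_tensor_lift tensorMap_app_tmulSec)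
open Groth.RefRank (hom_ext_sec secToLin germ_secToLin secToLin_res secToLin_add secToLin_smul
  mod_section_ext)

variable {X : Scheme.{u}} (F : X.Modules) {G H : X.Modules}

/-- `g ↦ secToLin g`, linearly. -/
noncomputable def secToLinₗ (G : X.Modules) (U : X.Opens) :
    Γ(RefHull.homSh F G, U) →ₗ[Γ(X, U)] Γ(F, U) →ₗ[Γ(X, U)] Γ(G, U) where
  toFun := secToLin
  map_add' := secToLin_add
  map_smul' := secToLin_smul

theorem exists_evalHom (G : X.Modules) : ∃ φ : CohB1.tensorMod F (RefHull.homSh F G) ⟶ G,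
    ∀ (W : X.Opens) (m : Γ(F, W)) (g : Γ(RefHull.homSh F G, W)),
      φ.app W (tmulSec m g) = secToLin g m :=
  exists_tensor_lift (fun W => (secToLinₗ F G W).flip) fun _ _ h m g => (secToLin_res h g m).symm

/-- Evaluation `F ⊗ Hom(F, G) ⟶ G`. -/
noncomputable def evalHom (G : X.Modules) : CohB1.tensorMod F (RefHull.homSh F G) ⟶ G :=
  (exists_evalHom F G).choose

theorem evalHom_tmulSec {G : X.Modules} (W : X.Opens) (m : Γ(F, W)) (g : Γ(RefHull.homSh F G, W)) :
    (evalHom F G).app W (tmulSec m g) = secToLin g m :=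
  (exists_evalHom F G).choose_spec W m g

variable {F}

/-- The stalk maps `F_x → G_x` attached to a germ of `H` by a morphism `F ⊗ H ⟶ G`. -/
noncomputable def curryStalk (β : CohB1.tensorMod F H ⟶ G) (x : X) :
    H.presheaf.stalk x →ₗ[X.presheaf.stalk x] RefHull.StalkHom F G x :=
  (((TensorProduct.mk (X.presheaf.stalk x) (F.presheaf.stalk x) (H.presheaf.stalk x)).compr₂
    ((RefHull.stalkMapₗ β x).comp (stalkTensorHom F H x)))).flip

theorem curryStalk_germ (β : CohB1.tensorMod F H ⟶ G) {x : X} {W : X.Opens} (hx : x ∈ W)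
    (m : Γ(F, W)) (b : Γ(H, W)) :
    curryStalk β x (germ H x hx b) (germ F x hx m) = germ G x hx (β.app W (tmulSec m b)) := by
  rw [curryStalk, LinearMap.flip_apply, LinearMap.compr₂_apply, TensorProduct.mk_apply,
    LinearMap.comp_apply, stalkTensorHom_tmul]
  exact RefHull.stalkMapₗ_germ β x hx _

/-- The section of the sheaf Hom attached to a section. -/
noncomputable def currySec (β : CohB1.tensorMod F H ⟶ G) (U : X.Opens) (b : Γ(H, U)) :
    Γ(RefHull.homSh F G, U) :=
  ⟨fun x => curryStalk β x.1 (germ H x.1 x.2 b), fun V i m x =>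
    ⟨V, x.2, 𝟙 V, β.app V (tmulSec m (QCohMod.res H i.le b)), fun y => by
      refine Eq.trans ?_ (curryStalk_germ β y.2 m (QCohMod.res H i.le b))
      rw [germ_res]⟩⟩

theorem currySec_val (β : CohB1.tensorMod F H ⟶ G) (U : X.Opens) (b : Γ(H, U)) (x : U) :
    (currySec β U b).1 x = curryStalk β x.1 (germ H x.1 x.2 b) := rfl

theorem currySec_zero (β : CohB1.tensorMod F H ⟶ G) (U : X.Opens) :
    currySec β U 0 = 0 := hom_ext_sec fun x => by
  rw [currySec_val, map_zero, map_zero]
  rfl

theorem currySec_add (β : CohB1.tensorMod F H ⟶ G) (U : X.Opens) (a b : Γ(H, U)) :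
    currySec β U (a + b) = currySec β U a + currySec β U b := hom_ext_sec fun x => by
  rw [currySec_val, map_add, map_add]
  rfl

/-- Currying a morphism out of a tensor product. -/
noncomputable def toHomSh (β : CohB1.tensorMod F H ⟶ G) : H ⟶ RefHull.homSh F G :=
  ⟨PresheafOfModules.homMk
    { app := fun U => AddCommGrpCat.ofHom
        { toFun := fun b => currySec β U.unop b
          map_zero' := currySec_zero β U.unop
          map_add' := currySec_add β U.unop }
      naturality := fun U V i => by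
        ext b
        refine hom_ext_sec fun x => ?_
        change curryStalk β x.1 (germ H x.1 x.2 (QCohMod.res H i.unop.le b)) = _
        rw [germ_res]
        rfl }
    fun U r b => hom_ext_sec fun x => by
      change curryStalk β x.1 (germ H x.1 x.2
        ((show Γ(X, U.unop) from r) • (show Γ(H, U.unop) from b))) = _
      rw [germ_smul, map_smul]
      rfl⟩

theorem toHomSh_app (β : CohB1.tensorMod F H ⟶ G) (U : X.Opens) (b : Γ(H, U)) :
    (toHomSh β).app U b = currySec β U b := rfl

variable (F) in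
/-- `F ⊗ -`. -/
noncomputable abbrev tF : X.Modules ⥤ X.Modules := (DCoh.tensorBi (X := X)).obj F

theorem tF_map_tmulSec {H' : X.Modules} (g : H' ⟶ H) (W : X.Opens) (m : Γ(F, W)) (b : Γ(H', W)) :
    ((tF F).map g).app W (tmulSec m b) = tmulSec m (g.app W b) := by
  have h := tensorMap_app_tmulSec (𝟙 F) g W m b
  have e : KoszTw.tensorMap (𝟙 F) g = (tF F).map g := by
    rw [KoszTw.tensorMap, CategoryTheory.Functor.map_id]
    exact Category.id_comp _
  rw [e] at h
  exact h

theorem map_toHomSh_eval (β : CohB1.tensorMod F H ⟶ G) :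
    (tF F).map (toHomSh β) ≫ evalHom F G = β := by
  refine tensor_hom_ext fun W m b => ?_
  refine Eq.trans (congrArg ((evalHom F G).app W) (tF_map_tmulSec (toHomSh β) W m b)) ?_
  rw [evalHom_tmulSec]
  refine mod_section_ext G fun x hx => ?_
  rw [germ_secToLin, toHomSh_app, currySec_val, curryStalk_germ]

theorem stalkHom_ext' {x : X} {f g : RefHull.StalkHom F G x}
    (h : ∀ (V : X.Opens) (hx : x ∈ V) (m : Γ(F, V)), f (germ F x hx m) = g (germ F x hx m)) :
    f = g :=
  LinearMap.ext fun v => by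
    obtain ⟨V, hx, m, rfl⟩ := exists_germ F x v
    exact h V hx m

theorem toHomSh_comp {H' : X.Modules} (g : H' ⟶ H) (β : CohB1.tensorMod F H ⟶ G) :
    toHomSh ((tF F).map g ≫ β) = g ≫ toHomSh β := by
  refine Scheme.Modules.hom_ext _ _ fun U => ?_
  ext b
  refine hom_ext_sec fun x => stalkHom_ext' fun V hV m => ?_
  rw [Scheme.Modules.Hom.comp_app, ConcreteCategory.comp_apply, toHomSh_app, toHomSh_app,
    currySec_val, currySec_val]
  have hW : (x : X) ∈ V ⊓ U := ⟨hV, x.2⟩
  rw [← germ_res F (inf_le_left : V ⊓ U ≤ V) x.1 hW m, ← germ_res H' (inf_le_right : V ⊓ U ≤ U) x.1 hW b,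
    ← germ_res H (inf_le_right : V ⊓ U ≤ U) x.1 hW (g.app U b), curryStalk_germ, curryStalk_germ,
    QCohMod.res_app, Scheme.Modules.Hom.comp_app, ConcreteCategory.comp_apply]
  exact congrArg _ (congrArg _ (tF_map_tmulSec g _ _ _))

theorem toHomSh_eval : toHomSh (evalHom F G) = 𝟙 (RefHull.homSh F G) := by
  refine Scheme.Modules.hom_ext _ _ fun U => ?_
  ext g
  refine hom_ext_sec fun x => stalkHom_ext' fun V hV m => ?_
  rw [toHomSh_app, currySec_val]
  have hW : (x : X) ∈ V ⊓ U := ⟨hV, x.2⟩
  rw [← germ_res F (inf_le_left : V ⊓ U ≤ V) x.1 hW m,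
    ← germ_res (RefHull.homSh F G) (inf_le_right : V ⊓ U ≤ U) x.1 hW g, curryStalk_germ,
    evalHom_tmulSec, germ_secToLin]
  rfl

variable (F) (G) in
/-- The counit at `G`. -/
noncomputable def ev [DCoh.HasSheafHom F] :
    CohB1.tensorMod F ((DCoh.sheafHom F).obj G) ⟶ G :=
  (DCoh.sheafHomAdj F).counit.app G

variable (F) (G) in
/-- The inverse comparison. -/
noncomputable def invMap [DCoh.HasSheafHom F] : RefHull.homSh F G ⟶ (DCoh.sheafHom F).obj G :=
  (DCoh.sheafHomAdj F).homEquiv (RefHull.homSh F G) G (evalHom F G)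

theorem map_invMap_ev [DCoh.HasSheafHom F] : (tF F).map (invMap F G) ≫ ev F G = evalHom F G :=
  ((DCoh.sheafHomAdj F).homEquiv_counit _ _ _).symm.trans (Equiv.symm_apply_apply _ _)

theorem eq_id_of_map_ev [DCoh.HasSheafHom F] (g : (DCoh.sheafHom F).obj G ⟶ (DCoh.sheafHom F).obj G)
    (h : (tF F).map g ≫ ev F G = ev F G) : g = 𝟙 _ := by
  apply ((DCoh.sheafHomAdj F).homEquiv _ _).symm.injective
  rw [Adjunction.homEquiv_counit, Adjunction.homEquiv_counit, CategoryTheory.Functor.map_id]
  exact h.trans (Category.id_comp _).symm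

theorem hom_inv [DCoh.HasSheafHom F] : toHomSh (ev F G) ≫ invMap F G = 𝟙 _ := by
  refine eq_id_of_map_ev _ ?_
  rw [Functor.map_comp]
  refine (Category.assoc _ _ _).trans ?_
  exact (congrArg (_ ≫ ·) map_invMap_ev).trans (map_toHomSh_eval _)

theorem inv_hom [DCoh.HasSheafHom F] : invMap F G ≫ toHomSh (ev F G) = 𝟙 _ :=
  (toHomSh_comp (invMap F G) (ev F G)).symm.trans ((congrArg toHomSh map_invMap_ev).trans toHomSh_eval)

variable (F) (G) in
/-- The adjoint sheaf Hom is the sheaf of families of stalk maps. -/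
noncomputable def iso [DCoh.HasSheafHom F] : (DCoh.sheafHom F).obj G ≅ RefHull.homSh F G where
  hom := toHomSh (ev F G)
  inv := invMap F G
  hom_inv_id := hom_inv
  inv_hom_id := inv_hom

theorem iso_hom_app [DCoh.HasSheafHom F] {U : X.Opens} (b : Γ((DCoh.sheafHom F).obj G, U)) :
    (iso F G).hom.app U b = currySec (ev F G) U b := rfl

end Groth.CohTwo.SheafHomIso
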