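import Groth.Agent.CohTwo.SheafHomIso
import Groth.Agent.RefRank.Stalk
import Groth.Agent.LocCohBase.Depth
import Mathlib.RingTheory.KrullDimension.Module
import Mathlib.RingTheory.Finiteness.Finsupp

/-!
Depth and support dimension of modules of homomorphisms, and of stalks of sheaves Hom.
-/

universe u

open RingTheory.Sequence

namespace Groth.CohTwo.HomDepth

variable {R : Type u} [CommRing R] {I : Ideal R} {N M : Type u} [AddCommGroup N] [Module R N]
  [AddCommGroup M] [Module R M]

lemma isSMulRegular_hom {x : R} (hx : IsSMulRegular M x) : IsSMulRegular (N →ₗ[R] M) x :=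
  fun f g h => LinearMap.ext fun n => hx (LinearMap.congr_fun h n)

lemma isSMulRegular_quot_hom {x y : R} (hx : IsSMulRegular M x)
    (hy : IsSMulRegular (QuotSMulTop x M) y) :
    IsSMulRegular (QuotSMulTop x (N →ₗ[R] M)) y := by
  rw [isSMulRegular_iff_right_eq_zero_of_smul]
  intro q
  induction q using Submodule.Quotient.induction_on with
  | H f =>
    intro h
    rw [← Submodule.Quotient.mk_smul, Submodule.Quotient.mk_eq_zero,
      Submodule.mem_smul_pointwise_iff_exists] at h
    obtain ⟨g, -, hg⟩ := h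
    have hmem : ∀ n, ∃ m, x • m = f n := fun n => by
      have h0 : (Submodule.Quotient.mk (f n) : QuotSMulTop x M) = 0 := by
        refine isSMulRegular_iff_right_eq_zero_of_smul.1 hy _ ?_
        rw [← Submodule.Quotient.mk_smul, Submodule.Quotient.mk_eq_zero,
          Submodule.mem_smul_pointwise_iff_exists]
        exact ⟨g n, trivial, LinearMap.congr_fun hg n⟩
      rw [Submodule.Quotient.mk_eq_zero, Submodule.mem_smul_pointwise_iff_exists] at h0
      obtain ⟨m, -, hm⟩ := h0
      exact ⟨m, hm⟩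
    choose m hm using hmem
    let h' : N →ₗ[R] M :=
      { toFun := m
        map_add' := fun a b => hx (show x • m (a + b) = x • (m a + m b) by
          rw [smul_add, hm, hm, hm, map_add])
        map_smul' := fun r a => hx (show x • m (r • a) = x • (r • m a) by
          rw [hm, smul_comm, hm, map_smul]) }
    rw [Submodule.Quotient.mk_eq_zero, Submodule.mem_smul_pointwise_iff_exists]
    exact ⟨h', trivial, LinearMap.ext hm⟩

lemma le_idealDepth_hom [Module.Finite R M] {n : ℕ} (hn : n ≤ 2)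
    (h : (n : ℕ∞) ≤ LocCoh.idealDepth I M) : (n : ℕ∞) ≤ LocCoh.idealDepth I (N →ₗ[R] M) := by
  by_cases hIM : I • (⊤ : Submodule R M) = ⊤
  · obtain ⟨r, hr, hr'⟩ := LocCohBase.exists_smul_eq_self_of_smul_top_eq_top (I := I) hIM
    rw [LocCohBase.idealDepth_eq_top_of_smul_top_eq_top (I := I) (M := N →ₗ[R] M)]
    · exact le_top
    · refine eq_top_iff.2 fun f _ => ?_
      rw [show f = r • f from LinearMap.ext fun a => (hr' (f a)).symm]
      exact Submodule.smul_mem_smul hr trivial
  by_cases hIH : I • (⊤ : Submodule R (N →ₗ[R] M)) = ⊤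
  · rw [LocCohBase.idealDepth_eq_top_of_smul_top_eq_top hIH]
    exact le_top
  obtain ⟨rs, hlen, hrs, hmem⟩ := (LocCohBase.le_idealDepth_iff_exists I hIM n).1 h
  refine (LocCohBase.le_idealDepth_iff_exists I hIH n).2 ⟨rs, hlen, ?_, hmem⟩
  rcases rs with _ | ⟨x, _ | ⟨y, _ | ⟨z, rs⟩⟩⟩
  · exact IsWeaklyRegular.nil R _
  · exact (isWeaklyRegular_singleton_iff _ _).2
      (isSMulRegular_hom ((isWeaklyRegular_singleton_iff _ _).1 hrs))
  · rw [isWeaklyRegular_cons_iff, isWeaklyRegular_singleton_iff] at hrs ⊢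
    exact ⟨isSMulRegular_hom hrs.1, isSMulRegular_quot_hom hrs.1 hrs.2⟩
  · simp only [List.length_cons] at hlen
    omega

lemma supportDim_hom_le [IsNoetherianRing R] [Module.Finite R N] [Module.Finite R M] :
    Module.supportDim R (N →ₗ[R] M) ≤ Module.supportDim R M := by
  have hsub : Module.support R (N →ₗ[R] M) ⊆ Module.support R M := by
    rw [Module.support_eq_zeroLocus, Module.support_eq_zeroLocus]
    refine PrimeSpectrum.zeroLocus_anti_mono fun r hr => ?_
    rw [SetLike.mem_coe, Module.mem_annihilator] at hr ⊢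
    exact fun f => LinearMap.ext fun n => hr (f n)
  exact Order.krullDim_le_of_strictMono (fun p => ⟨p.1, hsub p.2⟩) fun a b hab => hab

end Groth.CohTwo.HomDepth

open CategoryTheory AlgebraicGeometry

namespace Groth.CohTwo.HomDepth

variable {X : Scheme.{u}} [IsLocallyNoetherian X] {F G : X.Modules}

theorem isCoh_sheafHom (hF : Coh.IsCoh F) (hG : Coh.IsCoh G) [DCoh.HasSheafHom F] :
    Coh.IsCoh ((DCoh.sheafHom F).obj G) :=
  QCohMod.isCoh_of_iso (SheafHomIso.iso F G).symm (RefRank.isCoh_homSh hF hG)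

theorem nonempty_stalk_sheafHom_equiv (hF : Coh.IsCoh F) (hG : Coh.IsCoh G) [DCoh.HasSheafHom F]
    (x : X) : Nonempty ((((DCoh.sheafHom F).obj G).presheaf.stalk x) ≃ₗ[X.presheaf.stalk x]
      (F.presheaf.stalk x →ₗ[X.presheaf.stalk x] G.presheaf.stalk x)) := by
  haveI := hG.1
  let e₁ : ((DCoh.sheafHom F).obj G).presheaf.stalk x ≃ₗ[X.presheaf.stalk x]
      (RefHull.homSh F G).presheaf.stalk x :=
    LinearEquiv.ofBijective (RefHull.stalkMapₗ (SheafHomIso.iso F G).hom x)
      ((RefRank.isIso_iff_bijective_stalk _).1 inferInstance x)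
  exact ⟨e₁.trans (RefRank.homStalkEquiv hF x)⟩

theorem le_depth_stalk_sheafHom (hF : Coh.IsCoh F) (hG : Coh.IsCoh G) [DCoh.HasSheafHom F] (x : X)
    {n : ℕ} (hn : n ≤ 2) (h : (n : ℕ∞) ≤ LocCoh.depth (X.presheaf.stalk x) ↑(G.presheaf.stalk x)) :
    (n : ℕ∞) ≤ LocCoh.depth (X.presheaf.stalk x) ↑(((DCoh.sheafHom F).obj G).presheaf.stalk x) := by
  obtain ⟨e⟩ := nonempty_stalk_sheafHom_equiv hF hG x
  haveI := RefRank.finite_stalkModule hG x
  rw [LocCoh.depth, LocCohBase.idealDepth_congr e]
  exact le_idealDepth_hom hn h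

theorem supportDim_stalk_sheafHom_le (hF : Coh.IsCoh F) (hG : Coh.IsCoh G) [DCoh.HasSheafHom F]
    (x : X) : Module.supportDim (X.presheaf.stalk x) ↑(((DCoh.sheafHom F).obj G).presheaf.stalk x) ≤
      Module.supportDim (X.presheaf.stalk x) ↑(G.presheaf.stalk x) := by
  obtain ⟨e⟩ := nonempty_stalk_sheafHom_equiv hF hG x
  haveI := RefRank.finite_stalkModule hG x
  haveI := RefRank.finite_stalkModule hF x
  rw [Module.supportDim_eq_of_equiv e]
  exact supportDim_hom_le

end Groth.CohTwo.HomDepth
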