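import Groth.Agent.Misc4.ExtFree
import Groth.Agent.PicAux.Sections
import Groth.Agent.SiteCohomology.Flasque
import Groth.Prelude.Def_Coh

/-!
Ext groups out of the structure module are cohomology groups.
-/

universe u

open CategoryTheory AlgebraicGeometry Opposite TopologicalSpace

namespace Groth.CohTwo.ExtStructure

variable (X : Scheme.{u})

theorem nonempty_freeOn_top_iso :
    Nonempty ((ModSite.freeOn X.sheaf (⊤ : X.Opens) : X.Modules) ≅ Coh.structureModule X) := by
  refine Groth.Misc4.FreeOn.nonempty_iso_of_homEquiv (A := X.Modules)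
    (fun M : X.Modules => Γ(M, ⊤)) (fun p s => p.app ⊤ s)
    (fun M => Groth.Misc4.FreeOn.homEquiv (O := X.sheaf) (⊤ : X.Opens) M)
    (fun M =>
      { toFun := fun φ => φ.app ⊤ (Groth.PicAux.oneSec X ⊤)
        invFun := fun s => Groth.PicAux.homOfSection s
        left_inv := fun φ => Groth.PicAux.hom_structure_ext (Groth.PicAux.homOfSection_one _)
        right_inv := fun s => Groth.PicAux.homOfSection_one s })
    (fun p f => Groth.Misc4.FreeOn.homEquiv_comp (O := X.sheaf) (⊤ : X.Opens) f p) (fun p f => rfl)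

/-- `Ext(O, F) = H(X, F)`. -/
theorem nonempty_ext_structure_equiv [HasExt.{u} X.Modules] (F : X.Modules) (p : ℕ) :
    Nonempty (Abelian.Ext (Coh.structureModule X) F p ≃+ Coh.HH X F p) := by
  haveI : HasExt.{u} (ModSite.Mod X.sheaf) := ‹HasExt.{u} X.Modules›
  obtain ⟨i⟩ := nonempty_freeOn_top_iso X
  obtain ⟨j⟩ := Groth.Misc4.ExtFree.nonempty_freeOn_iso (O := X.sheaf) (⊤ : X.Opens)
  obtain ⟨e⟩ := Groth.Misc4.ExtFree.nonempty_ext_equiv (O := X.sheaf)
    ((presheafToSheaf (Opens.grothendieckTopology X) (Type u)).obj (yoneda.obj (⊤ : X.Opens))) F p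
  exact ⟨((Groth.SiteCohomology.extIsoLeft (i.symm ≪≫ j) F p).symm.trans e).trans
    ((Groth.SiteCohomology.HKYonedaEquiv _ (⊤ : X.Opens) (ModSite.toAb F) p).trans
      (Groth.SiteCohomology.HUTopEquiv (Coh.toAb F) p))⟩

end Groth.CohTwo.ExtStructure
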