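import Groth.Agent.CohTwo.LocFreeDual
import Groth.Agent.DerivedCoh.PCoh.Pullback
import Groth.Agent.EtaleBase.ExtAdj
import Groth.Agent.LocCohZBase.DerivedComp
import Groth.Agent.SitesTopoi.Mod.TensorExact
import Groth.Prelude.Def_ModSite2
import Mathlib.Algebra.Homology.ShortComplex.ExactFunctor

/-!
Tensor products with finite locally free modules, Ext groups and Ext sheaves.
-/

universe u

open CategoryTheory CategoryTheory.Limits AlgebraicGeometry

namespace Groth.CohTwo.LocFreeExt

open Groth.DerivedCoh.KFlat (T assocApp assocApp₁)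
open Groth.CohTwo.SheafHomIso (tF)

variable {X : Scheme.{u}}

/-- `- ⊗ E`. -/
noncomputable abbrev tR (E : X.Modules) : X.Modules ⥤ X.Modules := (DCoh.tensorBi (X := X)).flip.obj E

instance additive_tR (E : X.Modules) : (tR E).Additive where
  map_add {L M f g} := congrArg (fun t => NatTrans.app t E) ((DCoh.tensorBi (X := X)).map_add (f := f) (g := g))

/-- `- ⊗ E ≅ E ⊗ -`. -/
noncomputable def flipIso (E : X.Modules) : tR E ≅ tF E :=
  NatIso.ofComponents (fun L => (Groth.PicAux.exists_braiding L E).choose) fun {L L'} φ =>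
    Groth.PicAux.tensor_hom_ext fun W a b => by
      refine (congrArg ((Groth.PicAux.exists_braiding L' E).choose.hom.app W)
        (Groth.DerivedCoh.KFlat.tensorMap_left_tmulSec φ E W a b)).trans ?_
      refine ((Groth.PicAux.exists_braiding L' E).choose_spec W (φ.app W a) b).trans ?_
      refine Eq.trans ?_ (congrArg (((tF E).map φ).app W)
        ((Groth.PicAux.exists_braiding L E).choose_spec W a b)).symm
      exact (Groth.DerivedCoh.KFlat.tensorMap_tmulSec E φ W b a).symm

theorem hasSheafHom (E : X.Modules) : DCoh.HasSheafHom E :=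
  haveI : (tR E).IsLeftAdjoint := Groth.SitesTopoi.ModH.hasSheafHom (O := X.sheaf) E
  Functor.isLeftAdjoint_of_iso (flipIso E)

theorem preservesFinite_tR {E : X.Modules} (hE : FlatMod.IsFinLocFree E) :
    PreservesFiniteLimits (tR E) ∧ PreservesFiniteColimits (tR E) :=
  ((Functor.exact_tfae (tR E)).out 0 3).1 (Groth.DerivedCoh.KFlat.flat_of_isFlat
    (Groth.DerivedCoh.PCoh.isFlat_of_isFinLocFree hE))

/-- The dual as an adjoint sheaf Hom. -/
noncomputable abbrev msDual (E : X.Modules) [ModSite.HasSheafHom (O := X.sheaf) E] : X.Modules :=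
  (ModSite.sheafHom (O := X.sheaf) E).obj (Coh.structureModule X)

variable (E : X.Modules) [ModSite.HasSheafHom (O := X.sheaf) E]

/-- The two adjoint sheaf Hom functors agree. -/
noncomputable def msIso [DCoh.HasSheafHom E] :
    (ModSite.sheafHom (O := X.sheaf) E : X.Modules ⥤ X.Modules) ≅ DCoh.sheafHom E :=
  Adjunction.rightAdjointUniq (ModSite.sheafHomAdj (O := X.sheaf) E : tR E ⊣ _)
    ((DCoh.sheafHomAdj E).ofNatIsoLeft (flipIso E).symm)

/-- The dual does not depend on the construction. -/
noncomputable def msDualIso [DCoh.HasSheafHom E] : msDual E ≅ LocFreeDual.dual E :=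
  (msIso E).app _ ≪≫ SheafHomIso.iso E (Coh.structureModule X)

variable {E}

theorem nonempty_sheafHom_iso_tensor (hE : FlatMod.IsFinLocFree E) :
    Nonempty ((ModSite.sheafHom (O := X.sheaf) E : X.Modules ⥤ X.Modules) ≅ tR (msDual E)) :=
  haveI := hasSheafHom E
  ⟨msIso E ≪≫ (LocFreeDual.dualTensorIso hE).symm ≪≫ (flipIso _).symm ≪≫
    ((DCoh.tensorBi (X := X)).flip.mapIso (msDualIso E)).symm⟩

theorem isFinLocFree_msDual (hE : FlatMod.IsFinLocFree E) : FlatMod.IsFinLocFree (msDual E) :=
  haveI := hasSheafHom E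
  KTheory.LocFree.isFinLocFree_of_iso (msDualIso E).symm
    (LocFree.isFinLocFree_homSh hE (LocFree.isFinLocFree_unit X))

theorem nonempty_ext_tensor (hE : FlatMod.IsFinLocFree E) [HasExt.{u} X.Modules] (F G : X.Modules)
    (i : ℕ) :
    Nonempty (Abelian.Ext (CohB1.tensorMod F E) G i ≃+
      Abelian.Ext F (CohB1.tensorMod G (msDual E)) i) := by
  obtain ⟨e⟩ := nonempty_sheafHom_iso_tensor hE
  have adj : tR E ⊣ tR (msDual E) :=
    (ModSite.sheafHomAdj (O := X.sheaf) E : tR E ⊣ _).ofNatIsoRight e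
  have := (preservesFinite_tR hE).1
  have := (preservesFinite_tR hE).2
  have := (preservesFinite_tR (isFinLocFree_msDual hE)).1
  have := (preservesFinite_tR (isFinLocFree_msDual hE)).2
  exact ⟨(AddEquiv.ofBijective (EtaleBase.ExtAdj.adjExt adj F G i)
    (EtaleBase.ExtAdj.adjExt_bijective_of_exact adj F G i)).symm⟩

theorem nonempty_rightDerived_comp [HasInjectiveResolutions X.Modules] (A B : X.Modules ⥤ X.Modules)
    [A.Additive] [B.Additive] [PreservesFiniteLimits B] [PreservesFiniteColimits B] (i : ℕ)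
    (G : X.Modules) :
    Nonempty (((A ⋙ B).rightDerived i).obj G ≅ B.obj ((A.rightDerived i).obj G)) :=
  ⟨(injectiveResolution G).isoRightDerivedObj (A ⋙ B) i ≪≫
    (HomologicalComplex.homologyFunctor X.Modules _ i).mapIso
      (LocCohZBase.DerivedComp.cxIso A B (injectiveResolution G).cocomplex) ≪≫
    (((A.mapHomologicalComplex _).obj (injectiveResolution G).cocomplex).sc i).mapHomologyIso B ≪≫
    B.mapIso ((injectiveResolution G).isoRightDerivedObj A i).symm⟩

/-- `(- ⊗ L) ⊗ F ≅ - ⊗ (L ⊗ F)`. -/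
noncomputable def assocFlip (L F : X.Modules) :
    tR L ⋙ tR F ≅ tR (CohB1.tensorMod L F) :=
  NatIso.ofComponents (fun G => assocApp G L F) fun φ => assocApp₁ φ L F

theorem nonempty_extSh_tensor (F G L : X.Modules) (hL : FlatMod.IsFinLocFree L) (i : ℕ)
    [ModSite.HasSheafHom (O := X.sheaf) F] [ModSite.HasSheafHom (O := X.sheaf) L]
    [ModSite.HasSheafHom (O := X.sheaf) (CohB1.tensorMod L F)]
    [HasInjectiveResolutions (ModSite.Mod X.sheaf)] :
    Nonempty ((ModSite.extSh (O := X.sheaf) (CohB1.tensorMod L F) i).obj G ≅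
      CohB1.tensorMod ((ModSite.extSh (O := X.sheaf) F i).obj G) (msDual L)) := by
  obtain ⟨e⟩ := nonempty_sheafHom_iso_tensor hL
  haveI : HasInjectiveResolutions X.Modules := ‹HasInjectiveResolutions (ModSite.Mod X.sheaf)›
  let A : X.Modules ⥤ X.Modules := ModSite.sheafHom (O := X.sheaf) F
  let A' : X.Modules ⥤ X.Modules := ModSite.sheafHom (O := X.sheaf) (CohB1.tensorMod L F)
  let adjF : tR F ⊣ A :=
    ModSite.sheafHomAdj (O := X.sheaf) F
  let adjL : tR L ⊣ tR (msDual L) :=
    (ModSite.sheafHomAdj (O := X.sheaf) L : tR L ⊣ _).ofNatIsoRight e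
  let adjLF : tR (CohB1.tensorMod L F) ⊣
      A' :=
    ModSite.sheafHomAdj (O := X.sheaf) (CohB1.tensorMod L F)
  let h : A' ≅
      A ⋙ tR (msDual L) :=
    Adjunction.rightAdjointUniq adjLF
      ((adjL.comp adjF).ofNatIsoLeft (assocFlip L F))
  haveI : A.Additive := adjF.right_adjoint_additive
  haveI : A'.Additive :=
    adjLF.right_adjoint_additive
  haveI := (preservesFinite_tR (isFinLocFree_msDual hL)).1
  haveI := (preservesFinite_tR (isFinLocFree_msDual hL)).2
  haveI : (tR (msDual L)).Additive := additive_tR _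
  obtain ⟨c⟩ := nonempty_rightDerived_comp A (tR (msDual L)) i G
  exact ⟨({ hom := NatTrans.rightDerived h.hom i
            inv := NatTrans.rightDerived h.inv i
            hom_inv_id := by rw [← NatTrans.rightDerived_comp, Iso.hom_inv_id, NatTrans.rightDerived_id]
            inv_hom_id := by rw [← NatTrans.rightDerived_comp, Iso.inv_hom_id, NatTrans.rightDerived_id] } :
      _ ≅ _).app G ≪≫ c⟩

end Groth.CohTwo.LocFreeExt
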