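import Groth.Agent.CohBase.LocalModel
import Groth.Agent.CohBase.BaseChangeModel
import Groth.Agent.CohBase.FlatCohBaseChange
import Groth.Agent.CohBase.FibreBC
import Groth.Agent.CohFin.Proper
import Groth.Prelude.Def_PerfAux

/-!
Cohomology dimensions under extension of the base field, and along base change of fibres.
-/

universe u

open CategoryTheory Limits AlgebraicGeometry TopologicalSpace Opposite HomologicalComplex
open scoped TensorProduct

namespace Groth.CohTwo

open Groth.CohBase CxRank

/-- Dimensions of cohomology are invariant under field extensions. -/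
theorem finrank_HH_fieldExt {k K : Type u} [Field k] [Field K] [Algebra k K] {Z Z' : Scheme.{u}}
    [Z.Over (Spec (CommRingCat.of k))] [Z'.Over (Spec (CommRingCat.of K))] {h : Z' ⟶ Z}
    (hsq : IsBC (A := k) (A' := K) h) (F : Z.Modules) [F.IsQuasicoherent] [Z.IsSeparated]
    [CompactSpace Z] (p : ℕ) :
    Module.finrank K (Coh.HH Z' ((Scheme.Modules.pullback h).obj F) p) =
      Module.finrank k (Coh.HH Z F p) := by
  obtain ⟨G⟩ := exists_goodCover Z
  let L := cxA k G.U F
  let Kk : ModuleCat.{u} k := ModuleCat.of k K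
  obtain ⟨e, he⟩ := exists_bcEquiv hsq F G p
  let e' : LinearMap.ker ((dq L (p : ℤ)).rTensor Kk) ≃+
      Coh.HH Z' ((Scheme.Modules.pullback h).obj F) p :=
    (tKerEquiv L Kk (p : ℤ)).symm.toAddEquiv.trans e
  obtain ⟨t⟩ := exists_ker_baseChange_equiv (K := K) (dq L (p : ℤ)) e' fun b z w hw => by
    let m : Kk ⟶ Kk := ModuleCat.ofHom (LinearMap.mul k K b)
    obtain ⟨a, rfl⟩ := (tKerEquiv L Kk (p : ℤ)).surjective z
    have hw' : w = tKerEquiv L Kk (p : ℤ) ((CohIII.TFun L (p : ℤ)).map m a) :=
      Subtype.ext (hw.trans (tKerEquiv_map L Kk (p : ℤ) m a).symm)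
    subst hw'
    change e ((tKerEquiv L Kk (p : ℤ)).symm (tKerEquiv L Kk (p : ℤ) _)) =
      b • (show Coh.HH Z' ((Scheme.Modules.pullback h).obj F) p from
        e ((tKerEquiv L Kk (p : ℤ)).symm (tKerEquiv L Kk (p : ℤ) a)))
    rw [LinearEquiv.symm_apply_apply, LinearEquiv.symm_apply_apply]
    exact he b a
  rw [← t.finrank_eq, ← (hkBaseChange L (p : ℤ) K inferInstance).finrank_eq,
    Module.finrank_baseChange, ((tOneEquiv L (p : ℤ)).symm.trans (selfLinIso k G F p)).finrank_eq]

/-- Betti numbers of fibres are invariant under base change. -/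
theorem betti_baseChange {X Y X' Y' : Scheme.{u}} {f : X ⟶ Y} {f' : X' ⟶ Y'} {g' : X' ⟶ X}
    {g : Y' ⟶ Y} [IsProper f] (hc : IsPullback g' f' f g) (F : X.Modules) [F.IsQuasicoherent]
    (y' : Y') (p : ℕ) :
    PerfAux.betti f' ((Scheme.Modules.pullback g').obj F) y' p = PerfAux.betti f F (g y') p := by
  let k := Y.residueField (g y')
  let K := Y'.residueField y'
  let π := f.fiberToSpecResidueField (g y')
  let π' := f'.fiberToSpecResidueField y'
  letI : Algebra k K := (g.residueFieldMap y').hom.toAlgebra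
  letI : (f.fiber (g y')).Over (Spec (CommRingCat.of k)) := ⟨π⟩
  letI : (f'.fiber y').Over (Spec (CommRingCat.of K)) := ⟨π'⟩
  let h : f'.fiber y' ⟶ f.fiber (g y') :=
    pullback.map f' (Y'.fromSpecResidueField y') f (Y.fromSpecResidueField (g y')) g'
      (Spec.map (g.residueFieldMap y')) g hc.w.symm (by simp)
  have hsq : IsBC (A := k) (A' := K) h := isPullback_fiberToSpecResidueField_of_isPullback hc y'
  have : IsProper π := MorphismProperty.pullback_snd _ _ ‹IsProper f›
  have : (f.fiber (g y')).IsSeparated := CohFin.isSeparated_of_proper (A := k) π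
  have : CompactSpace (f.fiber (g y')) := CohFin.compactSpace_of_proper (A := k) π
  let Fy := CohIII.fiberMod f F (g y')
  have := QCohMod.isQCoh_pullback_obj (f.fiberι (g y')) F
  have hι : h ≫ f.fiberι (g y') = f'.fiberι y' ≫ g' := pullback.lift_fst _ _ _
  let θ : (Scheme.Modules.pullback h).obj Fy ≅
      CohIII.fiberMod f' ((Scheme.Modules.pullback g').obj F) y' :=
    (Scheme.Modules.pullbackComp h (f.fiberι (g y'))).app F ≪≫
      eqToIso (congrArg (fun a => (Scheme.Modules.pullback a).obj F) hι) ≪≫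
      ((Scheme.Modules.pullbackComp (f'.fiberι y') g').app F).symm
  exact ((haIsoEquiv (A := K) π' θ p).finrank_eq).symm.trans (finrank_HH_fieldExt hsq Fy p)

end Groth.CohTwo
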