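import Groth.Agent.CohC3.QuotSections
import Groth.Agent.CohC3.Affines
import Groth.Agent.QCohMod.Killed
import Groth.Agent.QCohMod.PullbackQCoh
import Groth.Agent.AdicLinTop.Thickenings
import Groth.Agent.Divisors.IdealComap
import Groth.Agent.PicAux.Powers
import Groth.Prelude.Def_CohB1

/-!
Modules on thickenings over `Spec A`: the unit of a closed immersion as a quotient `M ⟶ M / K M`,
kernels of cartesian closed immersions over quotients of `A`, and twisting.
-/

universe u

open CategoryTheory CategoryTheory.Limits AlgebraicGeometry Opposite TopologicalSpace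

namespace Groth.CohTwo

variable {A : Type u} [CommRing A] {X Z : Scheme.{u}} [X.Over (Spec (CommRingCat.of A))]
  [Z.Over (Spec (CommRingCat.of A))]

/-- Elements of `A` vanishing on `X` kill every module. -/
lemma killedBy_of_toGlobal {K : Ideal A} (M : X.Modules)
    (h : ∀ a ∈ K, Coh.toGlobal (X ↘ Spec (CommRingCat.of A)) a = 0) : Formal.KilledBy K M := by
  intro a ha
  refine Scheme.Modules.hom_ext _ _ fun U => ?_
  ext s
  change CohC3.baseApp X U a • s = 0
  have h0 : CohC3.baseApp X U a = 0 :=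
    (congrArg (Coh.resTop X (op U)) (h a ha)).trans (map_zero _)
  rw [h0, zero_smul]

lemma killedBy_pushforward (i : Z ⟶ X)
    (hi : i ≫ (X ↘ Spec (CommRingCat.of A)) = Z ↘ Spec (CommRingCat.of A))
    {K : Ideal A} {N : Z.Modules} (h : Formal.KilledBy K N) :
    Formal.KilledBy K ((Scheme.Modules.pushforward i).obj N) := fun a ha => by
  rw [← CohC3.pushforward_map_smulMod hi N a, h a ha]
  exact (Scheme.Modules.pushforward i).map_zero _ _

/-- A quasi-coherent module killed by `K` sees the unit of a closed immersion cut out by `K` as an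
isomorphism. -/
lemma isIso_unit_of_killedBy (i : Z ⟶ X) [IsClosedImmersion i] {K : Ideal A}
    (hker : ∀ U : X.affineOpens, i.ker.ideal U ≤ K.map (CohC3.baseApp X U.1))
    (Q : X.Modules) [Q.IsQuasicoherent] (hQ : Formal.KilledBy K Q) :
    IsIso ((Scheme.Modules.pullbackPushforwardAdjunction i).unit.app Q) := by
  refine (QCohMod.isIso_unit_closedImmersion_iff i Q).2 fun U a ha s => ?_
  have hmem : a • s ∈ (K.map (CohC3.baseApp X U.1)) • (⊤ : Submodule Γ(X, U.1) Γ(Q, U.1)) :=
    Submodule.smul_mem_smul (hker U ha) trivial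
  simpa using CohC3.app_eq_zero_of_mem_smul (𝟙 Q) ((CohC3.killedBy_iff_le K Q).1 hQ) hmem

/-- For a closed immersion `i` cut out by `K` the unit `M ⟶ i_* i^* M` is the quotient `M / K M`. -/
theorem isQuot_unit (i : Z ⟶ X) [IsClosedImmersion i]
    (hi : i ≫ (X ↘ Spec (CommRingCat.of A)) = Z ↘ Spec (CommRingCat.of A)) {K : Ideal A}
    (hK : ∀ a ∈ K, Coh.toGlobal (Z ↘ Spec (CommRingCat.of A)) a = 0)
    (hker : ∀ U : X.affineOpens, i.ker.ideal U ≤ K.map (CohC3.baseApp X U.1))
    (M : X.Modules) [M.IsQuasicoherent] :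
    CohC3.IsQuot K ((Scheme.Modules.pullbackPushforwardAdjunction i).unit.app M) := by
  let adj := Scheme.Modules.pullbackPushforwardAdjunction i
  let π := cokernel.π (Formal.smulFamily K M)
  have hπ : CohC3.IsQuot K π := CohC3.isQuot_cokernel K M
  haveI := CohC3.isQCoh_of_isQuot hπ
  haveI := isIso_unit_of_killedBy i hker _ hπ.killedBy
  haveI : IsIso ((Scheme.Modules.pullback i).map π) :=
    (hπ.map_adj adj hi).isIso_of_killedBy (killedBy_of_toGlobal _ hK)
  have e : adj.unit.app M = π ≫ adj.unit.app _ ≫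
      inv ((Scheme.Modules.pushforward i).map ((Scheme.Modules.pullback i).map π)) := by
    rw [← Category.assoc, IsIso.eq_comp_inv]
    exact (adj.unit.naturality π).symm
  rw [e]
  haveI h1 : IsIso (adj.unit.app (cokernel (Formal.smulFamily K M))) :=
    isIso_unit_of_killedBy i hker _ hπ.killedBy
  haveI h2 : IsIso (inv ((Scheme.Modules.pushforward i).map ((Scheme.Modules.pullback i).map π))) :=
    inferInstance
  exact @CohC3.IsQuot.comp_iso _ _ _ _ _ _ _ _ _ hπ _ (IsIso.comp_isIso' h1 h2)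

/-- The ideal of a closed immersion which is the base change of `Spec (A/K') ⟶ Spec (A/K)` is
generated by `K'`. -/
theorem ker_le_of_isPullback {Y W : Scheme.{u}} [W.Over (Spec (CommRingCat.of A))] {K K' : Ideal A}
    (hKK : K ≤ K') {fst : Y ⟶ W} {snd : Y ⟶ Spec (CommRingCat.of (A ⧸ K'))}
    {f : W ⟶ Spec (CommRingCat.of (A ⧸ K))}
    (h : IsPullback fst snd f (Spec.map (CommRingCat.ofHom (Ideal.Quotient.factor hKK))))
    (hf : f ≫ Spec.map (CommRingCat.ofHom (Ideal.Quotient.mk K)) = W ↘ Spec (CommRingCat.of A))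
    (V : W.affineOpens) : fst.ker.ideal V ≤ K'.map (CohC3.baseApp W V.1) := by
  let φ := CommRingCat.ofHom (Ideal.Quotient.factor hKK)
  haveI : IsClosedImmersion (Spec.map φ) :=
    IsClosedImmersion.spec_of_surjective φ (Ideal.Quotient.factor_surjective hKK)
  rw [AdicLinTop.Thickenings.ker_eq_comap_of_isPullback h]
  rw [Divisors.ideal_comap_affine _ f ⟨⊤, isAffineOpen_top _⟩ V le_top]
  refine Ideal.map_le_iff_le_comap.2 fun x hx => ?_
  rw [Scheme.Hom.ker_apply, RingHom.mem_ker] at hx
  obtain ⟨y, rfl⟩ : ∃ y, (Scheme.ΓSpecIso (CommRingCat.of (A ⧸ K))).inv y = x :=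
    ⟨_, Iso.hom_inv_id_apply _ x⟩
  obtain ⟨a, rfl⟩ := Ideal.Quotient.mk_surjective y
  have ha : a ∈ K' := by
    have h1 : (Spec.map φ).appTop ((Scheme.ΓSpecIso (CommRingCat.of (A ⧸ K))).inv
        (Ideal.Quotient.mk K a)) = (Scheme.ΓSpecIso (CommRingCat.of (A ⧸ K'))).inv
          (φ (Ideal.Quotient.mk K a)) :=
      (congr(($(Scheme.ΓSpecIso_inv_naturality φ)) (Ideal.Quotient.mk K a))).symm
    have h2 := congrArg (Scheme.ΓSpecIso (CommRingCat.of (A ⧸ K'))).hom (h1.symm.trans hx)
    exact Ideal.Quotient.eq_zero_iff_mem.1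
      ((Iso.inv_hom_id_apply (Scheme.ΓSpecIso (CommRingCat.of (A ⧸ K'))) _).symm.trans (h2.trans (map_zero _)))
  rw [Ideal.mem_comap]
  have e : CohC3.baseApp W V.1 a = f.appLE ⊤ V.1 le_top
      ((Scheme.ΓSpecIso (CommRingCat.of (A ⧸ K))).inv (Ideal.Quotient.mk K a)) := by
    change Coh.resTop W (op V.1) (Coh.toGlobal (W ↘ Spec (CommRingCat.of A)) a) = _
    rw [← hf]
    unfold Coh.toGlobal
    rw [Scheme.Hom.comp_appTop]
    exact congrArg (fun z => W.presheaf.map (homOfLE le_top).op (f.appTop z))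
      (congr(($(Scheme.ΓSpecIso_inv_naturality (CommRingCat.ofHom (Ideal.Quotient.mk K)))) a)).symm
  exact e ▸ Ideal.mem_map_of_mem _ ha

/-- Elements of `K` vanish on a scheme lying over `Spec (A/K)`. -/
lemma toGlobal_eq_zero_of_factor {W : Scheme.{u}} {s : W ⟶ Spec (CommRingCat.of A)} {K : Ideal A}
    {f : W ⟶ Spec (CommRingCat.of (A ⧸ K))}
    (hf : f ≫ Spec.map (CommRingCat.ofHom (Ideal.Quotient.mk K)) = s) {a : A} (ha : a ∈ K) :
    Coh.toGlobal s a = 0 := by
  subst hf
  unfold Coh.toGlobal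
  rw [Scheme.Hom.comp_appTop]
  change f.appTop ((Spec.map _).appTop ((Scheme.ΓSpecIso (CommRingCat.of A)).inv a)) = 0
  rw [show (Spec.map (CommRingCat.ofHom (Ideal.Quotient.mk K))).appTop
      ((Scheme.ΓSpecIso (CommRingCat.of A)).inv a) =
      (Scheme.ΓSpecIso (CommRingCat.of (A ⧸ K))).inv (Ideal.Quotient.mk K a) from
    (congr(($(Scheme.ΓSpecIso_inv_naturality (CommRingCat.ofHom (Ideal.Quotient.mk K)))) a)).symm,
    Ideal.Quotient.eq_zero_iff_mem.2 ha]
  exact (congrArg f.appTop (map_zero _)).trans (map_zero _)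

/-- Twisting commutes with multiplication by elements of `A`. -/
lemma tensorRightMod_map_smulMod (L M : X.Modules) (a : A) :
    (DCoh.tensorRightMod L).map (Formal.smulMod A M a) =
      Formal.smulMod A ((DCoh.tensorRightMod L).obj M) a := by
  refine PicAux.tensor_hom_ext (L := M) (M := L) fun W m l => ?_
  refine (PicAux.tensorRightMod_map_tmulSec L _ W m l).trans ?_
  exact PicAux.tmulSec_smul_left _ _ _

/-- Twisting by an invertible module preserves quotients `M ⟶ M / K M`. -/
theorem isQuot_tensorRightMod {L : X.Modules} (hL : PicF.IsInvertible L) {K : Ideal A}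
    {M G : X.Modules} {q : M ⟶ G} (h : CohC3.IsQuot K q) :
    CohC3.IsQuot K ((DCoh.tensorRightMod L).map q) := by
  haveI := PicAux.isEquivalence_tensorRightMod_of_isInvertible hL
  let T := DCoh.tensorRightMod L
  haveI := h.epi
  refine ⟨fun a ha => ?_, inferInstance, fun {N} φ hφ => ?_⟩
  · rw [CohC3.mem_annHom, ← tensorRightMod_map_smulMod, ← T.map_comp, (CohC3.mem_annHom q a).1
      (h.le_ann ha)]
    exact T.map_zero _ _
  · let e := T.objObjPreimageIso N
    obtain ⟨ψ₀, hψ₀⟩ := h.desc (T.preimage (φ ≫ e.inv)) fun a ha => by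
      rw [CohC3.mem_annHom]
      refine T.map_injective ?_
      rw [T.map_comp, T.map_preimage, T.map_zero, tensorRightMod_map_smulMod, ← Category.assoc,
        (CohC3.mem_annHom φ a).1 (hφ ha), zero_comp]
    refine ⟨T.map ψ₀ ≫ e.hom, ?_⟩
    rw [← Category.assoc, ← T.map_comp, hψ₀, T.map_preimage, Category.assoc, e.inv_hom_id,
      Category.comp_id]

end Groth.CohTwo
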