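import Groth.Agent.CohTwo.AdicVanishing

/-!
Adic systems given by cartesian squares over the quotients of `A`.
-/

universe u

open CategoryTheory CategoryTheory.Limits AlgebraicGeometry Opposite TopologicalSpace

namespace Groth.CohTwo

open Groth.CohC3

variable {A : Type u} [CommRing A] (J : Ideal A) (Xs : ℕ → Scheme.{u})
  (p : (k : ℕ) → (Xs k ⟶ Spec (CommRingCat.of (A ⧸ J ^ (k + 1)))))
  (i : (k : ℕ) → (Xs k ⟶ Xs (k + 1)))
  (hcart : ∀ k, IsPullback (i k) (p k) (p (k + 1)) (CohB1.specQuotTrans J k))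

include hcart in
lemma isClosedImmersion_of_cart (k : ℕ) : IsClosedImmersion (i k) :=
  MorphismProperty.of_isPullback (hcart k).flip
    (IsClosedImmersion.spec_of_surjective _
      (Ideal.Quotient.factor_surjective (Ideal.pow_le_pow_right (Nat.le_succ (k + 1)))))

/-- The adic system of a tower of cartesian squares. -/
noncomputable def AdicSch.ofCartesian : AdicSch A J where
  X := Xs
  str k := ⟨p k ≫ CohB1.specQuot J k⟩
  i := i
  closed k := isClosedImmersion_of_cart J Xs p i hcart k
  comp_over k := by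
    change i k ≫ p (k + 1) ≫ CohB1.specQuot J (k + 1) = p k ≫ CohB1.specQuot J k
    rw [(hcart k).w_assoc, CohB1.specQuotTrans_specQuot]
  zero k a ha := toGlobal_eq_zero_of_factor (f := p k) rfl ha
  ker_i k U := by
    letI : (Xs (k + 1)).Over (Spec (CommRingCat.of A)) := ⟨p (k + 1) ≫ CohB1.specQuot J (k + 1)⟩
    exact ker_le_of_isPullback (Ideal.pow_le_pow_right (Nat.le_succ (k + 1))) (hcart k) rfl U

lemma isPullback_toX : ∀ k, IsPullback ((AdicSch.ofCartesian J Xs p i hcart).toX k) (p 0) (p k)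
    (Spec.map (CommRingCat.ofHom (Ideal.Quotient.factor
      (Ideal.pow_le_pow_right (show 0 + 1 ≤ k + 1 by omega) : J ^ (k + 1) ≤ J ^ (0 + 1)))))
  | 0 => by
    have : Spec.map (CommRingCat.ofHom (Ideal.Quotient.factor (le_refl (J ^ (0 + 1))))) = 𝟙 _ := by
      rw [← Spec.map_id]
      congr 1
      refine CommRingCat.hom_ext (Ideal.Quotient.ringHom_ext ?_)
      ext a
      rfl
    change IsPullback (𝟙 (Xs 0)) (p 0) (p 0) _
    rw [this]
    exact IsPullback.of_horiz_isIso ⟨by simp⟩
  | k + 1 => by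
    have h := (isPullback_toX k).paste_horiz (hcart k)
    have e : Spec.map (CommRingCat.ofHom (Ideal.Quotient.factor
        (Ideal.pow_le_pow_right (show 0 + 1 ≤ k + 1 by omega) : J ^ (k + 1) ≤ J ^ (0 + 1)))) ≫
        CohB1.specQuotTrans J k = Spec.map (CommRingCat.ofHom (Ideal.Quotient.factor
        (Ideal.pow_le_pow_right (show 0 + 1 ≤ k + 1 + 1 by omega) :
          J ^ (k + 1 + 1) ≤ J ^ (0 + 1)))) := by
      rw [CohB1.specQuotTrans, ← Spec.map_comp, ← CommRingCat.ofHom_comp]
      congr 2
      refine Ideal.Quotient.ringHom_ext ?_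
      ext a
      rfl
    rw [e] at h
    exact h

lemma ker_toX_le (k : ℕ) (U : ((AdicSch.ofCartesian J Xs p i hcart).X k).affineOpens) :
    ((AdicSch.ofCartesian J Xs p i hcart).toX k).ker.ideal U ≤
      J.map (baseApp ((AdicSch.ofCartesian J Xs p i hcart).X k) U.1) := by
  have h := ker_le_of_isPullback (W := (AdicSch.ofCartesian J Xs p i hcart).X k) _
    (isPullback_toX J Xs p i hcart k) rfl U
  rwa [zero_add, pow_one] at h

include hcart in
lemma isProper_zero (hp : IsProper (p 0)) :
    IsProper ((AdicSch.ofCartesian J Xs p i hcart).X 0 ↘ Spec (CommRingCat.of A)) := by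
  haveI := hp
  haveI : IsClosedImmersion (CohB1.specQuot J 0) :=
    IsClosedImmersion.spec_of_surjective _ Ideal.Quotient.mk_surjective
  exact MorphismProperty.comp_mem _ (p 0) (CohB1.specQuot J 0) hp inferInstance

/-- The system of a compatible family of quasi-coherent modules. -/
noncomputable def AdicMod.ofIso {A : Type u} [CommRing A] {J : Ideal A} (S : AdicSch A J)
    (F : ∀ k, (S.X k).Modules) (hF : ∀ k, (F k).IsQuasicoherent)
    (ψ : ∀ k, Nonempty ((Scheme.Modules.pullback (S.i k)).obj (F (k + 1)) ≅ F k)) : AdicMod S where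
  F := F
  qcoh := hF
  q k := (Scheme.Modules.pullbackPushforwardAdjunction (S.i k)).unit.app (F (k + 1)) ≫
    (Scheme.Modules.pushforward (S.i k)).map (ψ k).some.hom
  isQuot k :=
    have := hF (k + 1)
    IsQuot.comp_iso (isQuot_unit (S.i k) (S.comp_over k) (S.zero k) (S.ker_i k) (F (k + 1))) _

end Groth.CohTwo
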