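import Groth.Agent.CohTwo.AdicUnit
import Groth.Agent.CohC3.GradedVanishing
import Groth.Agent.CohC3.GrSeq
import Groth.Agent.CohC3.ProperSupport
import Groth.Agent.QCohMod.FTCriterion

/-!
Coherent systems of modules on an adic system of schemes and their associated graded modules on
the zeroth scheme.
-/

universe u

open CategoryTheory CategoryTheory.Limits AlgebraicGeometry Opposite TopologicalSpace

namespace Groth.CohTwo

open Groth.CohC3

/-- A system of schemes over `Spec A`, each cut out in the next one by a power of `J`. -/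
structure AdicSch (A : Type u) [CommRing A] (J : Ideal A) where
  /-- the schemes -/
  X : ℕ → Scheme.{u}
  /-- the structure morphisms -/
  str : ∀ k, (X k).Over (Spec (CommRingCat.of A))
  /-- the transition morphisms -/
  i : ∀ k, X k ⟶ X (k + 1)
  closed : ∀ k, IsClosedImmersion (i k)
  comp_over : ∀ k, i k ≫ (X (k + 1) ↘ Spec (CommRingCat.of A)) = X k ↘ Spec (CommRingCat.of A)
  zero : ∀ k, ∀ a ∈ J ^ (k + 1), Coh.toGlobal (X k ↘ Spec (CommRingCat.of A)) a = 0
  ker_i : ∀ k (U : (X (k + 1)).affineOpens),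
    (i k).ker.ideal U ≤ (J ^ (k + 1)).map (baseApp (X (k + 1)) U.1)

variable {A : Type u} [CommRing A] {J : Ideal A}

namespace AdicSch

variable (S : AdicSch A J)

instance instOver (k : ℕ) : (S.X k).Over (Spec (CommRingCat.of A)) := S.str k

instance instClosed (k : ℕ) : IsClosedImmersion (S.i k) := S.closed k

/-- The closed immersion `X 0 ⟶ X k`. -/
noncomputable def toX : ∀ k, S.X 0 ⟶ S.X k
  | 0 => 𝟙 _
  | k + 1 => toX k ≫ S.i k

instance instClosedToX : ∀ k, IsClosedImmersion (S.toX k)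
  | 0 => inferInstanceAs (IsClosedImmersion (𝟙 _))
  | k + 1 =>
    have := instClosedToX k
    inferInstanceAs (IsClosedImmersion (S.toX k ≫ S.i k))

end AdicSch

/-- A system of quasi-coherent modules, each the reduction of the next one. -/
structure AdicMod (S : AdicSch A J) where
  /-- the modules -/
  F : ∀ k, (S.X k).Modules
  qcoh : ∀ k, (F k).IsQuasicoherent
  /-- the reduction maps -/
  q : ∀ k, F (k + 1) ⟶ (Scheme.Modules.pushforward (S.i k)).obj (F k)
  isQuot : ∀ k, IsQuot (J ^ (k + 1)) (q k)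

namespace AdicMod

variable {S : AdicSch A J} (M : AdicMod S)

instance instQCoh (k : ℕ) : (M.F k).IsQuasicoherent := M.qcoh k

lemma killed (k : ℕ) : Formal.KilledBy (J ^ (k + 1)) (M.F k) :=
  killedBy_of_toGlobal _ (S.zero k)

lemma killed_push (k : ℕ) :
    Formal.KilledBy (J ^ (k + 1)) ((Scheme.Modules.pushforward (S.i k)).obj (M.F k)) :=
  killedBy_pushforward _ (S.comp_over k) (M.killed k)

/-- The graded pieces `J^k F_k`. -/
noncomputable def K : ∀ k, (S.X k).Modules
  | 0 => M.F 0
  | k + 1 => kernel (M.q k)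

/-- Their inclusions. -/
noncomputable def ι : ∀ k, M.K k ⟶ M.F k
  | 0 => 𝟙 _
  | k + 1 => kernel.ι (M.q k)

instance instMonoι : ∀ k, Mono (M.ι k)
  | 0 => inferInstanceAs (Mono (𝟙 _))
  | k + 1 => inferInstanceAs (Mono (kernel.ι (M.q k)))

instance instQCohK : ∀ k, (M.K k).IsQuasicoherent
  | 0 => inferInstanceAs (M.F 0).IsQuasicoherent
  | k + 1 => inferInstanceAs (kernel (M.q k)).IsQuasicoherent

lemma exists_raise {a : A} (ha : a ∈ J) (k : ℕ) :
    ∃ ψ : (Scheme.Modules.pushforward (S.i k)).obj (M.F k) ⟶ M.F (k + 1),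
      M.q k ≫ ψ = Formal.smulMod A _ a :=
  (M.isQuot k).desc _ (mul_le_annHom_smulMod (M.killed (k + 1)) fun b hb => by
    rw [pow_succ']; exact Ideal.mul_mem_mul ha hb)

/-- Multiplication by an element of `J`, raising the level. -/
noncomputable def raise {a : A} (ha : a ∈ J) (k : ℕ) :
    (Scheme.Modules.pushforward (S.i k)).obj (M.F k) ⟶ M.F (k + 1) :=
  (M.exists_raise ha k).choose

@[reassoc]
lemma q_raise {a : A} (ha : a ∈ J) (k : ℕ) : M.q k ≫ M.raise ha k = Formal.smulMod A _ a :=
  (M.exists_raise ha k).choose_spec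

@[reassoc]
lemma raise_q {a : A} (ha : a ∈ J) (k : ℕ) : M.raise ha k ≫ M.q k = Formal.smulMod A _ a :=
  (M.isQuot k).hom_ext (by rw [q_raise_assoc, smulMod_naturality])

lemma ι_smul {a : A} (ha : a ∈ J) : ∀ k, M.ι k ≫ Formal.smulMod A (M.F k) a = 0
  | 0 => by rw [M.killed 0 a (by rwa [zero_add, pow_one]), comp_zero]
  | k + 1 => by
    rw [← M.q_raise ha k]
    exact (kernel.condition_assoc (M.q k) _).trans zero_comp

lemma killed_K (k : ℕ) : Formal.KilledBy J (M.K k) := fun a ha => by
  rw [← cancel_mono (M.ι k), zero_comp, ← smulMod_naturality, M.ι_smul ha k]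

/-- Multiplication by an element of `J` on the graded pieces. -/
noncomputable def α {a : A} (ha : a ∈ J) (k : ℕ) :
    (Scheme.Modules.pushforward (S.i k)).obj (M.K k) ⟶ M.K (k + 1) :=
  kernel.lift (M.q k) ((Scheme.Modules.pushforward (S.i k)).map (M.ι k) ≫ M.raise ha k)
    (by rw [Category.assoc, raise_q, ← pushforward_map_smulMod (S.comp_over k),
      ← Functor.map_comp, M.ι_smul ha k, Functor.map_zero])

@[reassoc]
lemma α_ι {a : A} (ha : a ∈ J) (k : ℕ) :
    M.α ha k ≫ M.ι (k + 1) =
      (Scheme.Modules.pushforward (S.i k)).map (M.ι k) ≫ M.raise ha k :=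
  kernel.lift_ι _ _ _

lemma epi_push_q (k : ℕ) : Epi ((Scheme.Modules.pushforward (S.i (k + 1))).map (M.q k)) := by
  haveI := (M.isQuot k).epi
  exact (shortExact_push_closed (S.i (k + 1))
    (S := ShortComplex.mk (kernel.ι (M.q k)) (M.q k) (kernel.condition _))
    { exact := ShortComplex.exact_of_f_is_kernel _ (kernelIsKernel _)
      mono_f := inferInstance
      epi_g := inferInstance }).epi_g

lemma raise_comm {a b : A} (ha : a ∈ J) (hb : b ∈ J) (k : ℕ) :
    (Scheme.Modules.pushforward (S.i (k + 1))).map (M.raise ha k) ≫ M.raise hb (k + 1) =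
      (Scheme.Modules.pushforward (S.i (k + 1))).map (M.raise hb k) ≫ M.raise ha (k + 1) := by
  have key : ∀ {a b : A} (ha : a ∈ J) (hb : b ∈ J),
      M.q (k + 1) ≫ (Scheme.Modules.pushforward (S.i (k + 1))).map (M.q k) ≫
        (Scheme.Modules.pushforward (S.i (k + 1))).map (M.raise ha k) ≫ M.raise hb (k + 1) =
      Formal.smulMod A _ a ≫ Formal.smulMod A _ b := by
    intro a b ha hb
    rw [← Functor.map_comp_assoc, q_raise, pushforward_map_smulMod (S.comp_over (k + 1)),
      ← Category.assoc, smulMod_naturality, Category.assoc, q_raise]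
  haveI := (M.isQuot (k + 1)).epi
  haveI := M.epi_push_q k
  rw [← cancel_epi ((Scheme.Modules.pushforward (S.i (k + 1))).map (M.q k)),
    ← cancel_epi (M.q (k + 1)), key ha hb, key hb ha, ← smulMod_mul, ← smulMod_mul, mul_comm]

lemma α_comm {a b : A} (ha : a ∈ J) (hb : b ∈ J) (k : ℕ) :
    (Scheme.Modules.pushforward (S.i (k + 1))).map (M.α ha k) ≫ M.α hb (k + 1) =
      (Scheme.Modules.pushforward (S.i (k + 1))).map (M.α hb k) ≫ M.α ha (k + 1) := by
  rw [← cancel_mono (M.ι (k + 1 + 1))]
  simp only [Category.assoc, α_ι]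
  simp only [← Functor.map_comp_assoc, α_ι]
  simp only [Functor.map_comp, Category.assoc, raise_comm M ha hb]

lemma exists_push_ι_eq (k : ℕ) {U : (S.X (k + 1)).Opens} {w : Γ(M.F (k + 1), U)}
    (hw : w ∈ ((J ^ k).map (baseApp (S.X (k + 1)) U)) •
      (⊤ : Submodule Γ(S.X (k + 1), U) Γ(M.F (k + 1), U))) :
    ∃ y, ((Scheme.Modules.pushforward (S.i k)).map (M.ι k)).app U y = (M.q k).app U w := by
  cases k with
  | zero => exact ⟨(M.q 0).app U w, rfl⟩
  | succ j =>
    refine QCohMod.exists_app_eq_of_mono_exact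
      (S := ShortComplex.mk (kernel.ι (M.q j)) (M.q j) (kernel.condition _))
      (ShortComplex.exact_of_f_is_kernel _ (kernelIsKernel _)) (S.i (j + 1) ⁻¹ᵁ U) _ ?_
    exact app_eq_zero_of_mem_smul
      (M.q (j + 1) ≫ (Scheme.Modules.pushforward (S.i (j + 1))).map (M.q j))
      (le_annHom_of_killedBy (killedBy_pushforward _ (S.comp_over (j + 1)) (M.killed_push j)) _) hw

/-- The operators given by generators of `J` are jointly epimorphic on the graded pieces. -/
lemma α_joint_epi {r : ℕ} (t : Fin r → A) (ht : ∀ l, t l ∈ J)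
    (hspan : Ideal.span (Set.range t) = J) (k : ℕ) {T : (S.X (k + 1)).Modules}
    (g : M.K (k + 1) ⟶ T) (hg : ∀ l, M.α (ht l) k ≫ g = 0) : g = 0 := by
  refine hom_eq_zero_of_cover g fun x => ?_
  obtain ⟨U, hU, hx⟩ := QCohMod.exists_affine_mem x
  refine ⟨U, hU, hx, fun s => ?_⟩
  let P := (LinearMap.ker (QCohMod.appₗ g U)).map (QCohMod.appₗ (M.ι (k + 1)) U)
  suffices h : ((J ^ (k + 1)).map (baseApp (S.X (k + 1)) U)) •
      (⊤ : Submodule Γ(S.X (k + 1), U) Γ(M.F (k + 1), U)) ≤ P by
    obtain ⟨s', hs', e⟩ := h (((M.isQuot k).app_eq_zero_iff ((M.ι (k + 1)).app U s) hU).1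
      (congr(($(kernel.condition (M.q k))).app U s)))
    rw [app_injective (M.ι (k + 1)) U (e.symm)]
    exact hs'
  have hJ : (J ^ (k + 1)).map (baseApp (S.X (k + 1)) U) =
      Ideal.span (baseApp (S.X (k + 1)) U '' Set.range t) *
        (J ^ k).map (baseApp (S.X (k + 1)) U) := by
    rw [pow_succ', Ideal.map_mul, ← Ideal.map_span, hspan]
  rw [hJ, Submodule.mul_smul, Submodule.smul_le]
  intro b hb w hw
  induction hb using Submodule.span_induction with
  | zero => rw [zero_smul]; exact zero_mem _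
  | add b c _ _ h₁ h₂ => rw [add_smul]; exact add_mem h₁ h₂
  | smul c b _ h₁ => rw [smul_eq_mul, mul_smul]; exact P.smul_mem _ h₁
  | mem b hb =>
    obtain ⟨_, ⟨l, rfl⟩, rfl⟩ := hb
    obtain ⟨y, hy⟩ := M.exists_push_ι_eq k hw
    refine ⟨(M.α (ht l) k).app U y, congr(($(hg l)).app U y), ?_⟩
    refine (congr(($(M.α_ι (ht l) k)).app U y)).trans ?_
    refine (congrArg ((M.raise (ht l) k).app U) hy).trans ?_
    exact congr(($(M.q_raise (ht l) k)).app U w)

/-- The graded pieces on the zeroth scheme. -/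
noncomputable abbrev gr (k : ℕ) : (S.X 0).Modules :=
  (Scheme.Modules.pullback (S.toX k)).obj (M.K k)

/-- The comparison `gr k ≅ toX(k+1)^* i_* K k`. -/
noncomputable def cmp (k : ℕ) :
    M.gr k ⟶ (Scheme.Modules.pullback (S.toX (k + 1))).obj
      ((Scheme.Modules.pushforward (S.i k)).obj (M.K k)) :=
  haveI := QCohMod.isIso_counit_closedImmersion (S.i k) (M.K k)
  (Scheme.Modules.pullback (S.toX k)).map
      (inv ((Scheme.Modules.pullbackPushforwardAdjunction (S.i k)).counit.app (M.K k))) ≫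
    (Scheme.Modules.pullbackComp (S.toX k) (S.i k)).hom.app _

instance instIsIsoCmp (k : ℕ) : IsIso (M.cmp k) := by
  haveI := QCohMod.isIso_counit_closedImmersion (S.i k) (M.K k)
  unfold cmp
  exact IsIso.comp_isIso' inferInstance
    ((Scheme.Modules.pullbackComp (S.toX k) (S.i k)).app _).isIso_hom

/-- The operators on the graded pieces. -/
noncomputable def op {a : A} (ha : a ∈ J) (k : ℕ) : M.gr k ⟶ M.gr (k + 1) :=
  M.cmp k ≫ (Scheme.Modules.pullback (S.toX (k + 1))).map (M.α ha k)

lemma map_α_cmp {a : A} (ha : a ∈ J) (k : ℕ) :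
    haveI := QCohMod.isIso_counit_closedImmersion (S.i (k + 1))
      ((Scheme.Modules.pushforward (S.i k)).obj (M.K k))
    (Scheme.Modules.pullback (S.toX (k + 1))).map (M.α ha k) ≫ M.cmp (k + 1) =
      ((Scheme.Modules.pullback (S.toX (k + 1))).map
          (inv ((Scheme.Modules.pullbackPushforwardAdjunction (S.i (k + 1))).counit.app
            ((Scheme.Modules.pushforward (S.i k)).obj (M.K k)))) ≫
        (Scheme.Modules.pullbackComp (S.toX (k + 1)) (S.i (k + 1))).hom.app _) ≫
      (Scheme.Modules.pullback (S.toX (k + 1 + 1))).map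
        ((Scheme.Modules.pushforward (S.i (k + 1))).map (M.α ha k)) := by
  haveI := QCohMod.isIso_counit_closedImmersion (S.i (k + 1))
    ((Scheme.Modules.pushforward (S.i k)).obj (M.K k))
  haveI := QCohMod.isIso_counit_closedImmersion (S.i (k + 1)) (M.K (k + 1))
  have h1 : M.α ha k ≫ inv ((Scheme.Modules.pullbackPushforwardAdjunction (S.i (k + 1))).counit.app
        (M.K (k + 1))) =
      inv ((Scheme.Modules.pullbackPushforwardAdjunction (S.i (k + 1))).counit.app _) ≫
        (Scheme.Modules.pullback (S.i (k + 1))).map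
          ((Scheme.Modules.pushforward (S.i (k + 1))).map (M.α ha k)) := by
    rw [IsIso.eq_inv_comp, ← Category.assoc, IsIso.comp_inv_eq]
    exact ((Scheme.Modules.pullbackPushforwardAdjunction (S.i (k + 1))).counit.naturality _).symm
  unfold cmp
  rw [← Category.assoc, ← Functor.map_comp, h1, Functor.map_comp, Category.assoc, Category.assoc]
  congr 1
  exact (Scheme.Modules.pullbackComp (S.toX (k + 1)) (S.i (k + 1))).hom.naturality _

lemma op_comm {a b : A} (ha : a ∈ J) (hb : b ∈ J) (k : ℕ) :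
    M.op ha k ≫ M.op hb (k + 1) = M.op hb k ≫ M.op ha (k + 1) := by
  have h := M.α_comm ha hb k
  have h' := congrArg (Scheme.Modules.pullback (S.toX (k + 1 + 1))).map h
  rw [Functor.map_comp, Functor.map_comp] at h'
  simp only [op, Category.assoc]
  rw [← Category.assoc (((Scheme.Modules.pullback (S.toX (k + 1))).map (M.α ha k))), map_α_cmp,
    ← Category.assoc (((Scheme.Modules.pullback (S.toX (k + 1))).map (M.α hb k))), map_α_cmp]
  simp only [Category.assoc]
  exact congrArg (_ ≫ ·) (congrArg (_ ≫ ·) (congrArg (_ ≫ ·) h'))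

/-- The associated graded sequence. -/
noncomputable abbrev grSeq {r : ℕ} (t : Fin r → A) (ht : ∀ l, t l ∈ J) : GSeq (S.X 0) r where
  obj := M.gr
  op l k := M.op (ht l) k
  comm l m k := M.op_comm (ht m) (ht l) k

lemma op_joint_epi {r : ℕ} (t : Fin r → A) (ht : ∀ l, t l ∈ J)
    (hspan : Ideal.span (Set.range t) = J) (k : ℕ) {T : (S.X 0).Modules}
    (g : M.gr (k + 1) ⟶ T) (hg : ∀ l, M.op (ht l) k ≫ g = 0) : g = 0 := by
  let adj := Scheme.Modules.pullbackPushforwardAdjunction (S.toX (k + 1))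
  have : adj.homEquiv _ _ g = 0 := M.α_joint_epi t ht hspan k _ fun l => by
    have h1 : (Scheme.Modules.pullback (S.toX (k + 1))).map (M.α (ht l) k) ≫ g = 0 := by
      have h := hg l
      simp only [op, Category.assoc] at h
      exact (cancel_epi (M.cmp k)).1 (h.trans comp_zero.symm)
    rw [← adj.homEquiv_naturality_left, h1, adj.homEquiv_unit, Functor.map_zero, comp_zero]
  apply (adj.homEquiv _ _).injective
  rw [this, adj.homEquiv_unit, Functor.map_zero, comp_zero]

lemma gen_grSeq {r : ℕ} (t : Fin r → A) (ht : ∀ l, t l ∈ J)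
    (hspan : Ideal.span (Set.range t) = J) : (M.grSeq t ht).Gen := by
  refine ⟨0, fun k _ => Preadditive.epi_of_cancel_zero _ fun g hg => ?_⟩
  refine M.op_joint_epi t ht hspan k g fun l => ?_
  have := congrArg (biproduct.ι (fun _ : Fin r => M.gr k) l ≫ ·) hg
  simpa using this

lemma isCoh_gr {r : ℕ} (t : Fin r → A) (ht : ∀ l, t l ∈ J)
    (hspan : Ideal.span (Set.range t) = J) (h0 : Coh.IsCoh (M.F 0)) (k : ℕ) :
    Coh.IsCoh (M.gr k) := by
  have hq : ∀ k, (M.gr k).IsQuasicoherent := fun k => QCohMod.isQCoh_pullback_obj _ _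
  induction k with
  | zero => exact ⟨hq 0, QCohMod.isFT_pullback _ _ h0.2⟩
  | succ k ih =>
    refine ⟨hq _, ?_⟩
    haveI : Epi (biproduct.desc fun l => M.op (ht l) k) :=
      Preadditive.epi_of_cancel_zero _ fun g hg => M.op_joint_epi t ht hspan k g fun l => by
        have := congrArg (biproduct.ι (fun _ : Fin r => M.gr k) l ≫ ·) hg
        simpa using this
    exact QCohMod.isFT_of_epi (biproduct.desc fun l => M.op (ht l) k) (CohC3.isCoh_pw r ih).2

end AdicMod

end Groth.CohTwo
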