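import Groth.Agent.CohTwo.AdicGraded
import Groth.Agent.PicAux.PullTensor
import Groth.Agent.PnCoh.VanishingClosed
import Groth.Agent.PnCoh.SectionsExact
import Groth.Agent.VarietyBC.GGen
import Groth.Agent.Chow.QcohExtend

/-!
Uniform vanishing and generation by global sections for twists on adic systems of schemes.
-/

universe u

open CategoryTheory CategoryTheory.Limits AlgebraicGeometry Opposite TopologicalSpace

open ZeroObject

namespace Groth.CohTwo

open Groth.CohC3

/-- A morphism out of a globally generated module killing all global sections is zero. -/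
lemma eq_zero_of_isGloballyGenerated {X : Scheme.{u}} {G D : X.Modules}
    (h : Curv2.IsGloballyGenerated G) (g : G ⟶ D) (hg : ∀ s, g.app ⊤ s = 0) : g = 0 := by
  obtain ⟨ι, p, hp⟩ := h
  let p' : (∐ fun _ : ι => Coh.structureModule X) ⟶ G := p
  haveI : Epi p' := hp
  rw [← cancel_epi p', comp_zero]
  refine Sigma.hom_ext _ _ fun j => ?_
  rw [comp_zero]
  refine hom_ext_app fun W r => ?_
  let φ : Coh.structureModule X ⟶ G := Sigma.ι (fun _ : ι => Coh.structureModule X) j ≫ p'
  change g.app W (φ.app W r) = 0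
  rw [← QCohMod.structureModule_eq_smul_one r, φ.app_smul, g.app_smul]
  have h1 : φ.app W (QCohMod.oneSec W) =
      res G (le_top : W ≤ ⊤) (φ.app ⊤ (PicAux.oneSec X ⊤)) :=
    (congrArg (φ.app W) (PicAux.res_oneSec _)).symm.trans (PicAux.app_res φ (le_top : W ≤ ⊤) _)
  rw [h1, app_res, hg, map_zero]
  exact smul_zero _

namespace AdicMod

variable {A : Type u} [CommRing A] {J : Ideal A} {S : AdicSch A J} (M : AdicMod S)
  (L : ∀ k, (S.X k).Modules)

lemma nonempty_pullback_tensorPow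
    (φ : ∀ k, Nonempty ((Scheme.Modules.pullback (S.i k)).obj (L (k + 1)) ≅ L k)) (n k : ℕ) :
    Nonempty ((Scheme.Modules.pullback (S.i k)).obj (CohB1.tensorPow (L (k + 1)) n) ≅
      CohB1.tensorPow (L k) n) :=
  ⟨(PicAux.pullback_tensorPow (S.i k) _ n).some ≪≫
    (PicAux.nonempty_tensorPow_iso (φ k).some n).some⟩

lemma nonempty_toX_tensorPow
    (φ : ∀ k, Nonempty ((Scheme.Modules.pullback (S.i k)).obj (L (k + 1)) ≅ L k)) (n : ℕ) :
    ∀ k, Nonempty ((Scheme.Modules.pullback (S.toX k)).obj (CohB1.tensorPow (L k) n) ≅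
      CohB1.tensorPow (L 0) n)
  | 0 => ⟨(Scheme.Modules.pullbackId _).app _⟩
  | k + 1 => ⟨((Scheme.Modules.pullbackComp (S.toX k) (S.i k)).app _).symm ≪≫
      (Scheme.Modules.pullback (S.toX k)).mapIso (nonempty_pullback_tensorPow L φ n k).some ≪≫
      (nonempty_toX_tensorPow φ n k).some⟩

variable (hkerT : ∀ k (U : (S.X k).affineOpens),
  (S.toX k).ker.ideal U ≤ J.map (baseApp (S.X k) U.1)) (hL : ∀ k, PicF.IsInvertible (L k))
  (φ : ∀ k, Nonempty ((Scheme.Modules.pullback (S.i k)).obj (L (k + 1)) ≅ L k))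

include hkerT hL φ in
lemma nonempty_K_twist (n k : ℕ) :
    Nonempty (CohB1.tensorMod (M.K k) (CohB1.tensorPow (L k) n) ≅
      (Scheme.Modules.pushforward (S.toX k)).obj
        (CohB1.tensorMod (M.gr k) (CohB1.tensorPow (L 0) n))) := by
  haveI := isIso_unit_of_killedBy (S.toX k) (hkerT k) (M.K k) (M.killed_K k)
  obtain ⟨θ, -⟩ := PnCoh.exists_projectionFormula (S.toX k) (M.gr k)
    (PicAux.isInvertible_tensorPow (hL k) n)
  exact ⟨PicGrp.tensorModIso
      (asIso ((Scheme.Modules.pullbackPushforwardAdjunction (S.toX k)).unit.app (M.K k)))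
      (Iso.refl _) ≪≫ θ ≪≫ (Scheme.Modules.pushforward (S.toX k)).mapIso
        (PicGrp.tensorModIso (Iso.refl _) (nonempty_toX_tensorPow L φ n k).some)⟩

/-- Cohomology vanishing on `X k` for direct images along a closed immersion. -/
lemma subsingleton_HH_push {W Z : Scheme.{u}} (j : Z ⟶ W) [IsClosedImmersion j]
    (s : W ⟶ Spec (CommRingCat.of A)) {N : Z.Modules} {q : ℕ}
    (h : Subsingleton (Coh.HH Z N q)) :
    Subsingleton (Coh.HH W ((Scheme.Modules.pushforward j).obj N) q) := by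
  obtain ⟨e⟩ := nonempty_linearEquiv_push_closed j s q N
  haveI : Subsingleton (CohFin.HA (j ≫ s) N q) := h
  exact (e.toEquiv.subsingleton :)

include hkerT hL φ in
lemma subsingleton_K_twist {n q : ℕ} (k : ℕ)
    (h : Subsingleton (Coh.HH (S.X 0) (CohB1.tensorMod (M.gr k) (CohB1.tensorPow (L 0) n)) q)) :
    Subsingleton (Coh.HH (S.X k) (CohB1.tensorMod (M.K k) (CohB1.tensorPow (L k) n)) q) :=
  PnCoh.subsingleton_HH_of_iso (S.X k ↘ Spec (CommRingCat.of A))
    (M.nonempty_K_twist L hkerT hL φ n k).some.symm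
    (subsingleton_HH_push _ (S.X k ↘ Spec (CommRingCat.of A)) h)

include hL φ in
lemma nonempty_push_twist (n k : ℕ) :
    Nonempty (CohB1.tensorMod ((Scheme.Modules.pushforward (S.i k)).obj (M.F k))
        (CohB1.tensorPow (L (k + 1)) n) ≅
      (Scheme.Modules.pushforward (S.i k)).obj
        (CohB1.tensorMod (M.F k) (CohB1.tensorPow (L k) n))) := by
  obtain ⟨θ, -⟩ := PnCoh.exists_projectionFormula (S.i k) (M.F k)
    (PicAux.isInvertible_tensorPow (hL (k + 1)) n)
  exact ⟨θ ≪≫ (Scheme.Modules.pushforward (S.i k)).mapIso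
    (PicGrp.tensorModIso (Iso.refl _) (nonempty_pullback_tensorPow L φ n k).some)⟩

variable [IsNoetherianRing A] (hp : IsProper (S.X 0 ↘ Spec (CommRingCat.of A)))
  (ha : CohB1.IsAmple (L 0)) (h0 : Coh.IsCoh (M.F 0))

include hkerT hL φ hp ha h0 in
/-- Serre vanishing, uniform in the level. -/
theorem exists_uniform_vanishing :
    ∃ n₀ : ℕ, ∀ n : ℕ, n₀ ≤ n → ∀ k q : ℕ, 0 < q →
      Subsingleton (Coh.HH (S.X k) (CohB1.tensorMod (M.F k) (CohB1.tensorPow (L k) n)) q) ∧
      Subsingleton (Coh.HH (S.X k) (CohB1.tensorMod (M.K k) (CohB1.tensorPow (L k) n)) q) := by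
  obtain ⟨r, t, hspan⟩ := Submodule.fg_iff_exists_fin_generating_family.1 (IsNoetherian.noetherian J)
  have ht : ∀ l, t l ∈ J := fun l => hspan ▸ Submodule.subset_span ⟨l, rfl⟩
  obtain ⟨d₀, hd₀⟩ := GSeq.exists_uniform_vanishing (A := A) ha (M.grSeq t ht)
    (M.isCoh_gr t ht hspan h0) (M.gen_grSeq t ht hspan)
  refine ⟨d₀, fun n hn k => ?_⟩
  have hK : ∀ k q, 0 < q →
      Subsingleton (Coh.HH (S.X k) (CohB1.tensorMod (M.K k) (CohB1.tensorPow (L k) n)) q) :=
    fun k q hq => M.subsingleton_K_twist L hkerT hL φ k (hd₀ k n hn q hq)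
  induction k with
  | zero => exact fun q hq => ⟨hK 0 q hq, hK 0 q hq⟩
  | succ k ih =>
    intro q hq
    refine ⟨?_, hK _ q hq⟩
    haveI := (M.isQuot k).epi
    refine subsingleton_HH_X₂ (A := A)
      (PicAux.shortExact_tensorRightMod (PicAux.isInvertible_tensorPow (hL (k + 1)) n)
        (S := ShortComplex.mk (kernel.ι (M.q k)) (M.q k) (kernel.condition _))
        { exact := ShortComplex.exact_of_f_is_kernel _ (kernelIsKernel _)
          mono_f := inferInstance
          epi_g := inferInstance }) (hK (k + 1) q hq) ?_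
    exact PnCoh.subsingleton_HH_of_iso (S.X (k + 1) ↘ Spec (CommRingCat.of A))
      (M.nonempty_push_twist L hL φ n k).some.symm
      (subsingleton_HH_push _ (S.X (k + 1) ↘ Spec (CommRingCat.of A)) (ih q hq).1)

/-- A quasi-coherent module with no quotient modulo a nilpotent ideal is zero. -/
lemma isZero_of_isQuot_zero {X : Scheme.{u}} [X.Over (Spec (CommRingCat.of A))] {C D : X.Modules}
    [C.IsQuasicoherent] {I : Ideal A} {π : C ⟶ D} (hπ : IsQuot I π) (hD : π = 0) {e : ℕ}
    (hC : Formal.KilledBy (I ^ e) C) : IsZero C := by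
  refine (IsZero.iff_id_eq_zero _).2 (hom_eq_zero_of_cover _ fun x => ?_)
  obtain ⟨U, hU, hx⟩ := QCohMod.exists_affine_mem x
  refine ⟨U, hU, hx, fun s => ?_⟩
  have htop : (I.map (baseApp X U)) • (⊤ : Submodule Γ(X, U) Γ(C, U)) = ⊤ :=
    eq_top_iff.2 fun s _ => (hπ.app_eq_zero_iff s hU).1 (by rw [hD]; rfl)
  have hpow : ∀ e, ((I ^ e).map (baseApp X U)) • (⊤ : Submodule Γ(X, U) Γ(C, U)) = ⊤ := by
    intro e
    induction e with
    | zero => rw [pow_zero, Ideal.one_eq_top, Ideal.map_top, Submodule.top_smul]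
    | succ e ih => rw [pow_succ, Ideal.map_mul, Submodule.mul_smul, htop, ih]
  exact app_eq_zero_of_mem_smul (𝟙 C) ((killedBy_iff_le _ C).1 hC)
    ((hpow e).ge (Submodule.mem_top : s ∈ _))

include hL φ in
/-- One step of lifting generation by global sections. -/
lemma isGloballyGenerated_succ {n k : ℕ}
    (hG : Curv2.IsGloballyGenerated (CohB1.tensorMod (M.F k) (CohB1.tensorPow (L k) n)))
    (hv : Subsingleton
      (Coh.HH (S.X (k + 1)) (CohB1.tensorMod (M.K (k + 1)) (CohB1.tensorPow (L (k + 1)) n)) 1)) :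
    Curv2.IsGloballyGenerated
      (CohB1.tensorMod (M.F (k + 1)) (CohB1.tensorPow (L (k + 1)) n)) := by
  let X := S.X (k + 1)
  let P := CohB1.tensorPow (L (k + 1)) n
  let T := CohB1.tensorMod (M.F (k + 1)) P
  have hP : PicF.IsInvertible P := PicAux.isInvertible_tensorPow (hL (k + 1)) n
  haveI : P.IsQuasicoherent := PicAux.isQCoh_of_isInvertible hP
  haveI : (CohB1.tensorPow (L k) n).IsQuasicoherent :=
    PicAux.isQCoh_of_isInvertible (PicAux.isInvertible_tensorPow (hL k) n)
  haveI : T.IsQuasicoherent := QCohMod.isQCoh_tensorMod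
  haveI : (CohB1.tensorMod (M.F k) (CohB1.tensorPow (L k) n)).IsQuasicoherent :=
    QCohMod.isQCoh_tensorMod
  obtain ⟨θ⟩ := M.nonempty_push_twist L hL φ n k
  let q' : T ⟶ (Scheme.Modules.pushforward (S.i k)).obj
      (CohB1.tensorMod (M.F k) (CohB1.tensorPow (L k) n)) :=
    (DCoh.tensorRightMod P).map (M.q k) ≫ θ.hom
  have hq' : IsQuot (J ^ (k + 1)) q' := (isQuot_tensorRightMod hP (M.isQuot k)).comp_iso θ.hom
  haveI := hq'.epi
  haveI := (M.isQuot k).epi
  have hses := PicAux.shortExact_tensorRightMod hP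
    (S := ShortComplex.mk (kernel.ι (M.q k)) (M.q k) (kernel.condition _))
    { exact := ShortComplex.exact_of_f_is_kernel _ (kernelIsKernel _)
      mono_f := inferInstance
      epi_g := inferInstance }
  have hker : Subsingleton (Coh.HH X (kernel q') 1) :=
    PnCoh.subsingleton_HH_of_iso (X ↘ Spec (CommRingCat.of A))
      ((hses.fIsKernel.conePointUniqueUpToIso (limit.isLimit _)) ≪≫
        (kernelCompMono ((DCoh.tensorRightMod P).map (M.q k)) θ.hom).symm) hv
  have hsurj : Function.Surjective (q'.app ⊤) := fun y => by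
    have h := PnCoh.exact_app_top_of_subsingleton (X ↘ Spec (CommRingCat.of A))
      (ShortComplex.mk q' (0 : _ ⟶ (0 : X.Modules)) comp_zero)
      ((ShortComplex.exact_iff_epi _ rfl).2 ‹Epi q'›) hker
    exact (h y).1 rfl
  let f := QCohMod.freeHom T (fun s : Γ(T, (⊤ : X.Opens)) => s)
  suffices Epi f from ⟨_, f, this⟩
  let π := cokernel.π f
  have hπ : ∀ s, π.app ⊤ s = 0 := fun s => by
    have e : QCohMod.secHom T s ≫ π = 0 := by
      rw [← QCohMod.ι_freeHom T (fun s : Γ(T, (⊤ : X.Opens)) => s) s, Category.assoc,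
        cokernel.condition, comp_zero]
    have h1 := congr(($e).app ⊤ (QCohMod.oneSec ⊤))
    rw [Scheme.Modules.Hom.comp_app, ConcreteCategory.comp_apply, QCohMod.secHom_app_one,
      QCohMod.res_self] at h1
    exact h1
  haveI : (cokernel f).IsQuasicoherent := inferInstance
  let ρ := cokernel.π (Formal.smulFamily (J ^ (k + 1)) (cokernel f))
  have hρ : IsQuot (J ^ (k + 1)) ρ := isQuot_cokernel _ _
  obtain ⟨χ, hχ⟩ := hq'.desc (π ≫ ρ) (hρ.le_ann.trans (annHom_le_precomp π ρ))
  let D := cokernel (Formal.smulFamily (J ^ (k + 1)) (cokernel f))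
  haveI : D.IsQuasicoherent := isQCoh_of_isQuot hρ
  haveI := isIso_unit_of_killedBy (S.i k) (S.ker_i k) D hρ.killedBy
  obtain ⟨g, hg⟩ := QCohMod.exists_map_pushforward_eq (S.i k)
    (χ ≫ (Scheme.Modules.pullbackPushforwardAdjunction (S.i k)).unit.app D)
  have hg0 : g = 0 := eq_zero_of_isGloballyGenerated hG g fun y => by
    obtain ⟨s, hs⟩ := hsurj y
    change ((Scheme.Modules.pushforward (S.i k)).map g).app ⊤ y = 0
    rw [hg, ← hs]
    change ((Scheme.Modules.pullbackPushforwardAdjunction (S.i k)).unit.app D).app ⊤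
      ((q' ≫ χ).app ⊤ s) = 0
    rw [hχ, Scheme.Modules.Hom.comp_app, ConcreteCategory.comp_apply, hπ, map_zero, map_zero]
  have hρ0 : ρ = 0 := by
    rw [hg0, Functor.map_zero] at hg
    have hχ0 : χ = 0 := (cancel_mono _).1 (hg.symm.trans zero_comp.symm)
    rw [hχ0, comp_zero] at hχ
    exact (cancel_epi π).1 (hχ.symm.trans comp_zero.symm)
  refine Preadditive.epi_of_isZero_cokernel f (isZero_of_isQuot_zero hρ hρ0 (e := 2) ?_)
  intro a ha
  exact killedBy_of_toGlobal _ (S.zero (k + 1)) a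
    (Ideal.pow_le_pow_right (by omega) (by rwa [← pow_mul] at ha : a ∈ J ^ ((k + 1) * 2)))

include hkerT hL φ hp ha h0 in
/-- Generation by global sections, uniform in the level. -/
theorem exists_uniform_gen :
    ∃ N : ℕ, ∀ n : ℕ, N ≤ n → ∀ k : ℕ,
      Curv2.IsGloballyGenerated (CohB1.tensorMod (M.F k) (CohB1.tensorPow (L k) n)) := by
  obtain ⟨n₀, hn₀⟩ := M.exists_uniform_vanishing L hkerT hL φ hp ha h0
  obtain ⟨n₁, hn₁⟩ := Chow.exists_isGloballyGenerated_twist ha (M.F 0) h0.2
  refine ⟨max n₀ n₁, fun n hn k => ?_⟩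
  induction k with
  | zero => exact hn₁ n (le_trans (le_max_right _ _) hn)
  | succ k ih =>
    exact M.isGloballyGenerated_succ L hL φ ih
      (hn₀ n (le_trans (le_max_left _ _) hn) (k + 1) 1 Nat.one_pos).2

end AdicMod

end Groth.CohTwo
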