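import Groth.Agent.QCohMod.Killed
import Groth.Agent.QCohMod.Coherent
import Groth.Agent.PnCoh.AmpleVanishing
import Groth.Agent.PnCoh.ProjectionFormula
import Groth.Agent.PicAux.Powers
import Groth.Agent.PicAux.PullTensor
import Groth.Agent.Inter.AmpleCrit
import Groth.Agent.FlatMor2.StratVanish.Main
import Groth.Agent.FlatStrata.Twist
import Groth.Agent.RefRank.DivSheaf
import Groth.Agent.OmegaSheaf.IsoLocal

/-!
An invertible module ample on two closed subschemes whose ideals multiply to zero is ample.
-/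

set_option autoImplicit false

universe u

open CategoryTheory CategoryTheory.Limits AlgebraicGeometry

noncomputable section

namespace Groth.CohTwo.AmpleTwo

variable {A : Type u} [CommRing A] [IsNoetherianRing A] {X : Scheme.{u}}
  (f : X ⟶ Spec (CommRingCat.of A)) [IsProper f] {L : X.Modules}

include f

/-- Serre vanishing for coherent modules killed by an ideal on whose subscheme `L` is ample. -/
theorem exists_vanishing_killed (hL : PicF.IsInvertible L) (I : X.IdealSheafData)
    (hI : CohB1.IsAmple ((Scheme.Modules.pullback I.subschemeι).obj L))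
    (G : X.Modules) (hG : Coh.IsCoh G) (hk : Groth.QCohMod.Killed I G) :
    ∃ d₀ : ℕ, ∀ d : ℕ, d₀ ≤ d → ∀ q : ℕ, 0 < q →
      Subsingleton (Coh.HH X (CohB1.tensorMod G (CohB1.tensorPow L d)) q) := by
  haveI := hG.1
  let i := I.subschemeι
  let G' := (Scheme.Modules.pullback i).obj G
  have hG' : Coh.IsCoh G' := Groth.FlatStrata.isCoh_pullback i hG
  haveI := hG'.1
  haveI : IsIso ((Scheme.Modules.pullbackPushforwardAdjunction i).unit.app G) :=
    (Groth.QCohMod.isIso_unit_closedImmersion_iff i G).2 fun U a ha =>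
      hk U a (by rwa [show i.ker = I from I.ker_subschemeι] at ha)
  let e₀ : G ≅ (Scheme.Modules.pushforward i).obj G' :=
    asIso ((Scheme.Modules.pullbackPushforwardAdjunction i).unit.app G)
  obtain ⟨d₀, hd⟩ := Groth.PnCoh.exists_subsingleton_of_isAmple (i ≫ f) hI G' hG'
  refine ⟨d₀, fun d hdd q hq => ?_⟩
  have hLd := Groth.PicAux.isInvertible_tensorPow hL d
  obtain ⟨θ, -⟩ := Groth.PnCoh.exists_projectionFormula i G' hLd
  obtain ⟨π⟩ := Groth.PicAux.pullback_tensorPow i L d
  have h1 : Subsingleton (Coh.HH I.subscheme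
      (CohB1.tensorMod G' ((Scheme.Modules.pullback i).obj (CohB1.tensorPow L d))) q) :=
    Groth.PnCoh.subsingleton_HH_of_iso (i ≫ f)
      (PicGrp.tensorModIso (Iso.refl G') π.symm) (hd d hdd q hq)
  haveI : (CohB1.tensorPow L d).IsQuasicoherent :=
    Groth.PicAux.isQCoh_of_isInvertible hLd
  haveI := Groth.QCohMod.isQCoh_pullback_obj i (CohB1.tensorPow L d)
  haveI : X.IsSeparated := ⟨by
    rw [← terminal.comp_from f]
    infer_instance⟩
  haveI : CompactSpace X := QuasiCompact.compactSpace_of_compactSpace f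
  haveI : CompactSpace I.subscheme := QuasiCompact.compactSpace_of_compactSpace i
  haveI : I.subscheme.IsSeparated := ⟨by
    rw [← terminal.comp_from i]
    infer_instance⟩
  let N := CohB1.tensorMod G' ((Scheme.Modules.pullback i).obj (CohB1.tensorPow L d))
  haveI : N.IsQuasicoherent := Groth.QCohMod.isQCoh_tensorMod
  obtain ⟨e⟩ := Groth.CohFin.nonempty_linearEquiv_push i f q N
  have h2 : Subsingleton (Coh.HH X ((Scheme.Modules.pushforward i).obj N) q) := by
    haveI : Subsingleton (Groth.CohFin.HA (i ≫ f) N q) := h1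
    exact (e.toEquiv.subsingleton :)
  exact Groth.PnCoh.subsingleton_HH_of_iso f
    (θ.symm ≪≫ PicGrp.tensorModIso e₀.symm (Iso.refl _)) h2

/-- Eventual vanishing of `H¹` of the twists of the coherent modules killed by `I`. -/
def HasVan (L : X.Modules) (I : X.IdealSheafData) : Prop :=
  ∀ G : X.Modules, Coh.IsCoh G → Groth.QCohMod.Killed I G →
    ∃ d₀ : ℕ, ∀ d : ℕ, d₀ ≤ d → Subsingleton (Coh.HH X (CohB1.tensorMod G (CohB1.tensorPow L d)) 1)

theorem hasVan_of_isAmple (hL : PicF.IsInvertible L) (I : X.IdealSheafData)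
    (hI : CohB1.IsAmple ((Scheme.Modules.pullback I.subschemeι).obj L)) : HasVan L I := by
  intro G hG hk
  obtain ⟨d₀, hd⟩ := exists_vanishing_killed f hL I hI G hG hk
  exact ⟨d₀, fun d hdd => hd d hdd 1 one_pos⟩

theorem hasVan_mul (hL : PicF.IsInvertible L) {I J : X.IdealSheafData} (hI : HasVan L I)
    (hJ : HasVan L J) : HasVan L (I * J) := by
  haveI : IsLocallyNoetherian X := LocallyOfFiniteType.isLocallyNoetherian f
  intro G hG hk
  haveI := hG.1
  let i := I.subschemeι
  let M := (Scheme.Modules.pushforward i).obj ((Scheme.Modules.pullback i).obj G)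
  let η : G ⟶ M := (Scheme.Modules.pullbackPushforwardAdjunction i).unit.app G
  haveI : ((Scheme.Modules.pullback i).obj G).IsQuasicoherent := Groth.QCohMod.isQCoh_pullback_obj i G
  haveI : M.IsQuasicoherent := Groth.QCohMod.isQCoh_pushforward (M := (Scheme.Modules.pullback i).obj G) i
  haveI : Epi η := Groth.OmegaSheaf.epi_of_affine_cover η fun x => by
    obtain ⟨U, hU, hx, -⟩ := exists_isAffineOpen_mem_and_subset (x := x) (U := (⊤ : X.Opens)) trivial
    exact ⟨U, hU, hx, (Groth.QCohMod.unit_closedImmersion_app i G hU).1⟩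
  have hM : Coh.IsCoh M := Groth.CohTwo.isCoh_push i (Groth.FlatStrata.isCoh_pullback i hG)
  let S := ShortComplex.mk (kernel.ι η) η (kernel.condition η)
  have hS : S.ShortExact :=
    { exact := ShortComplex.exact_of_f_is_kernel _ (kernelIsKernel η)
      mono_f := inferInstanceAs (Mono (kernel.ι η))
      epi_g := inferInstanceAs (Epi η) }
  have hK : Coh.IsCoh (kernel η) := Groth.QCohMod.isCoh_kernel η hG
  haveI := hK.1
  have hkK : Groth.QCohMod.Killed J (kernel η) := by
    intro U a ha s
    apply Groth.QCohMod.app_injective_of_mono (kernel.ι η) U.1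
    rw [map_zero, Scheme.Modules.Hom.app_smul]
    set t := (kernel.ι η).app U.1 s with ht
    have h0 : η.app U.1 t = 0 := by
      rw [ht, ← ConcreteCategory.comp_apply, ← Scheme.Modules.Hom.comp_app, kernel.condition]
      rfl
    have hmem : t ∈ i.ker.ideal U • (⊤ : Submodule Γ(X, U.1) Γ(G, U.1)) :=
      ((Groth.QCohMod.unit_closedImmersion_app i G U.2).2 t).1 h0
    rw [show i.ker = I from I.ker_subschemeι] at hmem
    refine Submodule.smul_induction_on hmem (fun r hr m _ => ?_) fun x y hx hy => ?_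
    · rw [← mul_smul, mul_comm]
      exact hk U (r * a) (Ideal.mul_mem_mul hr ha) m
    · rw [smul_add, hx, hy, add_zero]
  obtain ⟨d₁, h₁⟩ := hJ (kernel η) hK hkK
  have hkM : Groth.QCohMod.Killed I M := by
    have h := Groth.QCohMod.killed_pushforward i ((Scheme.Modules.pullback i).obj G)
    rwa [show i.ker = I from I.ker_subschemeι] at h
  obtain ⟨d₂, h₂⟩ := hI M hM hkM
  refine ⟨max d₁ d₂, fun d hd => ?_⟩
  have hT := Groth.PicAux.shortExact_tensorRightMod (Groth.PicAux.isInvertible_tensorPow hL d) hS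
  exact Groth.FlatMor2.StratVanish.subsingleton_HH_middle hT 1
    (h₁ d ((le_max_left _ _).trans hd)) (h₂ d ((le_max_right _ _).trans hd))

/-- Ampleness from eventual vanishing for all coherent modules. -/
theorem isAmple_of_hasVan_bot (hL : PicF.IsInvertible L) (h : HasVan L (⊥ : X.IdealSheafData)) :
    CohB1.IsAmple L := by
  haveI : IsLocallyNoetherian X := LocallyOfFiniteType.isLocallyNoetherian f
  haveI : CompactSpace X := QuasiCompact.compactSpace_of_compactSpace f
  refine Inter.isAmple_of_ideal_vanishing hL fun Q => ?_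
  obtain ⟨d, hd⟩ := h _ (Groth.RefRank.isCoh_idealMod Q) fun U a ha s => by
    rw [Scheme.IdealSheafData.ideal_bot, Pi.bot_apply, Ideal.mem_bot] at ha
    rw [ha, zero_smul]
  exact ⟨d, hd _ d.le_succ⟩

/-- An invertible module ample on `V(I)` and on `V(J)` with `I J = 0` is ample. -/
theorem isAmple_of_mul_eq_bot (hL : PicF.IsInvertible L) (I J : X.IdealSheafData) (hIJ : I * J = ⊥)
    (hI : CohB1.IsAmple ((Scheme.Modules.pullback I.subschemeι).obj L))
    (hJ : CohB1.IsAmple ((Scheme.Modules.pullback J.subschemeι).obj L)) : CohB1.IsAmple L :=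
  isAmple_of_hasVan_bot f hL
    (hIJ ▸ hasVan_mul f hL (hasVan_of_isAmple f hL I hI) (hasVan_of_isAmple f hL J hJ))

/-- An invertible module ample on each member of a finite closed cover is ample. -/
theorem isAmple_of_closed_cover (hL : PicF.IsInvertible L) {α : Type*} (s : Finset α)
    (Z : α → TopologicalSpace.Closeds X) (hcov : ∀ x : X, ∃ a ∈ s, x ∈ Z a)
    (hZ : ∀ a ∈ s, CohB1.IsAmple
      ((Scheme.Modules.pullback (Scheme.IdealSheafData.vanishingIdeal (Z a)).subschemeι).obj L)) :
    CohB1.IsAmple L := by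
  classical
  haveI : IsLocallyNoetherian X := LocallyOfFiniteType.isLocallyNoetherian f
  haveI : CompactSpace X := QuasiCompact.compactSpace_of_compactSpace f
  let P : X.IdealSheafData := ∏ a ∈ s, Scheme.IdealSheafData.vanishingIdeal (Z a)
  have key : ∀ t : Finset α, t ⊆ s → t.Nonempty →
      HasVan L (∏ a ∈ t, Scheme.IdealSheafData.vanishingIdeal (Z a)) := by
    intro t ht hne
    induction hne using Finset.Nonempty.cons_induction with
    | singleton a => simpa using hasVan_of_isAmple f hL _ (hZ a (ht (Finset.mem_singleton_self a)))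
    | cons a t hat _ ih =>
      rw [Finset.prod_cons]
      exact hasVan_mul f hL (hasVan_of_isAmple f hL _ (hZ a (ht (Finset.mem_cons_self a t))))
        (ih ((Finset.subset_cons hat).trans ht))
  rcases s.eq_empty_or_nonempty with hs | hs
  · have : IsEmpty X := ⟨fun x => by obtain ⟨a, ha, -⟩ := hcov x; simp [hs] at ha⟩
    exact ⟨hL, inferInstance, fun x => (this.false x).elim⟩
  have hP : HasVan L P := key s subset_rfl hs
  have hsup : ∀ (t : Finset α) (x : X), (∃ a ∈ t, x ∈ Z a) →
      x ∈ (∏ a ∈ t, Scheme.IdealSheafData.vanishingIdeal (Z a) : X.IdealSheafData).support := by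
    intro t
    induction t using Finset.induction_on with
    | empty => simp
    | insert a t hat ih =>
      rintro x ⟨b, hb, hxb⟩
      rw [Finset.prod_insert hat, Scheme.IdealSheafData.support_mul]
      rcases Finset.mem_insert.1 hb with rfl | hb
      · left
        exact Scheme.IdealSheafData.le_support_iff_le_vanishingIdeal.2 le_rfl hxb
      · exact Or.inr (ih x ⟨b, hb, hxb⟩)
  have hnil : P ≤ Scheme.IdealSheafData.vanishingIdeal ⊤ :=
    Scheme.IdealSheafData.le_support_iff_le_vanishingIdeal.1 fun x _ => hsup s x (hcov x)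
  have hloc : ∀ U : X.affineOpens, ∃ m : ℕ, P.ideal U ^ m = ⊥ := fun U => by
    haveI : IsNoetherianRing Γ(X, U.1) := IsLocallyNoetherian.component_noetherian U
    have h1 : P.ideal U ≤ nilradical Γ(X, U.1) := by
      refine (hnil U).trans ?_
      rw [Scheme.IdealSheafData.vanishingIdeal_ideal, TopologicalSpace.Closeds.coe_top,
        Set.preimage_univ, PrimeSpectrum.vanishingIdeal_univ]
    obtain ⟨m, hm⟩ := IsNoetherianRing.isNilpotent_nilradical Γ(X, U.1)
    exact ⟨m, le_bot_iff.1 ((Ideal.pow_right_mono h1 m).trans hm.le)⟩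
  choose m hm using hloc
  obtain ⟨t, ht⟩ := isCompact_univ.elim_finite_subcover
    (fun V : X.affineOpens => ((V : X.Opens) : Set X)) (fun V => (V : X.Opens).2) (fun x _ => by
      obtain ⟨_, ⟨V, hV, rfl⟩, hxV, -⟩ :=
        X.isBasis_affineOpens.exists_subset_of_mem_open (Set.mem_univ x) isOpen_univ
      exact Set.mem_iUnion.2 ⟨⟨V, hV⟩, hxV⟩)
  have hPm : ∀ M : ℕ, HasVan L (P ^ (M + 1)) := by
    intro M
    induction M with
    | zero => simpa using hP
    | succ M ih => rw [pow_succ]; exact hasVan_mul f hL ih hP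
  have hbot : P ^ (t.sup m + 1) = ⊥ := by
    refine Scheme.IdealSheafData.ext_of_iSup_eq_top (fun V : t => V.1) ?_ fun V => ?_
    · exact eq_top_iff.2 fun x _ => by
        obtain ⟨V, hV, hxV⟩ := Set.mem_iUnion₂.1 (ht (Set.mem_univ x))
        exact TopologicalSpace.Opens.mem_iSup.2 ⟨⟨V, hV⟩, hxV⟩
    · rw [Scheme.IdealSheafData.ideal_pow, Scheme.IdealSheafData.ideal_bot, Pi.pow_apply,
        Pi.bot_apply]
      exact eq_bot_iff.2 ((Ideal.pow_le_pow_right
        ((Finset.le_sup V.2).trans (Nat.le_succ _))).trans (hm V.1).le)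
  exact isAmple_of_hasVan_bot f hL (hbot ▸ hPm (t.sup m))

end Groth.CohTwo.AmpleTwo
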