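import Groth.Agent.CohBase.RankTheory
import Groth.Agent.CohBase.TensorQis
import Groth.Agent.FlatCxBase.BoundedFlat
import Mathlib.RingTheory.Flat.EquationalCriterion

/-!
Truncating a complex of finite flat modules to the range of its cohomology.
-/

universe u

open CategoryTheory CategoryTheory.Limits MonoidalCategory HomologicalComplex
open scoped TensorProduct

namespace Groth.CohTwo.Amplitude

open Groth.FlatCxBase Groth.CohBase.CxRank

variable {A : Type u} [CommRing A] (L : CochainComplex (ModuleCat.{u} A) ℤ) (a b : ℤ)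

/-- Cocycles from degree `b` on. -/
noncomputable def Zs (i : ℤ) : Submodule A (L.X i) :=
  if i < b then ⊤ else if i = b then LinearMap.ker (L.d i (i + 1)).hom else ⊥

/-- The part to be killed up to degree `a`. -/
noncomputable def Bs (i : ℤ) : Submodule A (L.X i) :=
  if i < a then ⊤ else if i = a then LinearMap.range (L.d (i - 1) i).hom else ⊥

lemma Zs_of_lt {i : ℤ} (h : i < b) : Zs L b i = ⊤ := if_pos h
lemma Zs_self : Zs L b b = LinearMap.ker (L.d b (b + 1)).hom := by simp [Zs]
lemma Zs_of_gt {i : ℤ} (h : b < i) : Zs L b i = ⊥ := by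
  rw [Zs, if_neg (by omega), if_neg (by omega)]
lemma Bs_of_lt {i : ℤ} (h : i < a) : Bs L a i = ⊤ := if_pos h
lemma Bs_self : Bs L a a = LinearMap.range (L.d (a - 1) a).hom := by simp [Bs]
lemma Bs_of_gt {i : ℤ} (h : a < i) : Bs L a i = ⊥ := by
  rw [Bs, if_neg (by omega), if_neg (by omega)]

lemma d_d_apply (i j k : ℤ) (x : L.X i) : L.d j k (L.d i j x) = 0 :=
  ConcreteCategory.congr_hom (L.d_comp_d i j k) x

lemma d_mem_Zs (i : ℤ) : ∀ x ∈ Zs L b i, L.d i (i + 1) x ∈ Zs L b (i + 1) := by
  intro x hx
  rcases lt_trichotomy (i + 1) b with h | h | h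
  · rw [Zs_of_lt L b h]; trivial
  · subst h; rw [Zs_self]; exact d_d_apply L _ _ _ x
  · rw [Zs_of_gt L b h, Submodule.mem_bot]
    rcases eq_or_lt_of_le (show b ≤ i by omega) with h' | h'
    · subst h'; rw [Zs_self] at hx; exact hx
    · rw [Zs_of_gt L b h', Submodule.mem_bot] at hx
      rw [hx, map_zero]

lemma d_mem_Bs (i : ℤ) : ∀ x ∈ Bs L a i, L.d i (i + 1) x ∈ Bs L a (i + 1) := by
  intro x hx
  rcases lt_trichotomy (i + 1) a with h | h | h
  · rw [Bs_of_lt L a h]; trivial
  · subst h
    rw [Bs_self, show i + 1 - 1 = i by ring]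
    exact ⟨x, rfl⟩
  · rw [Bs_of_gt L a h, Submodule.mem_bot]
    rcases eq_or_lt_of_le (show a ≤ i by omega) with h' | h'
    · subst h'
      rw [Bs_self] at hx
      obtain ⟨w, rfl⟩ := hx
      exact d_d_apply L _ _ _ w
    · rw [Bs_of_gt L a h', Submodule.mem_bot] at hx
      rw [hx, map_zero]

/-- The differential on cocycles. -/
noncomputable def upD (i : ℤ) : Zs L b i →ₗ[A] Zs L b (i + 1) :=
  ((L.d i (i + 1)).hom.comp (Zs L b i).subtype).codRestrict _ fun x => d_mem_Zs L b i x.1 x.2

/-- The subcomplex stopping at degree `b`. -/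
noncomputable def upper : CochainComplex (ModuleCat.{u} A) ℤ :=
  CochainComplex.of (fun i => ModuleCat.of A (Zs L b i)) (fun i => ModuleCat.ofHom (upD L b i))
    fun i => ModuleCat.hom_ext (LinearMap.ext fun x => Subtype.ext (d_d_apply L _ _ _ x.1))

lemma upper_d (i : ℤ) (x : Zs L b i) :
    ((upper L b).d i (i + 1) x : Zs L b (i + 1)).1 = L.d i (i + 1) x.1 := by
  unfold upper
  dsimp only [CochainComplex.of]
  erw [CochainComplex.of_d]
  rfl

/-- Its inclusion. -/
noncomputable def upperι : upper L b ⟶ L where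
  f i := ModuleCat.ofHom (Zs L b i).subtype
  comm' i j hij := by
    obtain rfl : i + 1 = j := hij
    exact ModuleCat.hom_ext (LinearMap.ext fun x => (upper_d L b i x).symm)

/-- The degree `i` of the truncation. -/
abbrev lowX (i : ℤ) : Type u := Zs L b i ⧸ (Bs L a i).comap (Zs L b i).subtype

/-- The differential of the truncation. -/
noncomputable def loD (i : ℤ) : lowX L a b i →ₗ[A] lowX L a b (i + 1) :=
  Submodule.mapQ _ _ (upD L b i) fun x hx => d_mem_Bs L a i x.1 hx

/-- The truncation to `[a, b]`. -/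
noncomputable def trunc : CochainComplex (ModuleCat.{u} A) ℤ :=
  CochainComplex.of (fun i => ModuleCat.of A (lowX L a b i))
    (fun i => ModuleCat.ofHom (loD L a b i))
    fun i => ModuleCat.hom_ext (LinearMap.ext fun q => by
      obtain ⟨x, rfl⟩ := Submodule.Quotient.mk_surjective _ q
      refine (congrArg Submodule.Quotient.mk (Subtype.ext (d_d_apply L _ _ _ x.1) :
        (⟨_, _⟩ : Zs L b (i + 1 + 1)) = 0)).trans ?_
      rfl)

lemma trunc_d (i : ℤ) (x : Zs L b i) :
    (trunc L a b).d i (i + 1) (Submodule.Quotient.mk x : lowX L a b i) =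
      (Submodule.Quotient.mk (⟨L.d i (i + 1) x.1, d_mem_Zs L b i x.1 x.2⟩ : Zs L b (i + 1)) :
        lowX L a b (i + 1)) := by
  unfold trunc
  dsimp only [CochainComplex.of]
  erw [CochainComplex.of_d]
  rfl

/-- The projection to the truncation. -/
noncomputable def truncπ : upper L b ⟶ trunc L a b where
  f i := ModuleCat.ofHom (Submodule.mkQ ((Bs L a i).comap (Zs L b i).subtype))
  comm' i j hij := by
    obtain rfl : i + 1 = j := hij
    exact ModuleCat.hom_ext (LinearMap.ext fun x => (trunc_d L a b i x).trans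
      (congrArg Submodule.Quotient.mk (Subtype.ext (upper_d L b i x).symm)))

variable {L}

/-- Vanishing of the cohomology, on cocycles. -/
lemma exists_of_subsingleton_Hk {j : ℤ} (h : Subsingleton (Hk L j)) (x : L.X j)
    (hx : L.d j (j + 1) x = 0) : ∃ w, L.d (j - 1) j w = x := by
  have h0 : (⟨cokerπ L (j - 1) j x, by
      rw [LinearMap.mem_ker, ← LinearMap.comp_apply, dBar_comp]; exact hx⟩ : Hk L j) = 0 :=
    Subsingleton.elim _ _
  exact (Submodule.Quotient.mk_eq_zero _).1 (congrArg Subtype.val h0)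

lemma quasiIso_upperι (hhigh : ∀ j, b < j → Subsingleton (Hk L j)) :
    QuasiIso (upperι L b) where
  quasiIsoAt j := by
    rw [quasiIsoAt_iff_isIso_homologyMap, ConcreteCategory.isIso_iff_bijective]
    obtain ⟨i, rfl⟩ : ∃ i, j = i + 1 := ⟨j - 1, by ring⟩
    refine ⟨(homologyMap_injective_iff _ (i := i) (by simp) (cochain_next (i + 1))).2 ?_,
      (homologyMap_surjective_iff _ (i := i) (by simp) (cochain_next (i + 1))).2 ?_⟩
    · rintro ⟨x, hxZ⟩ - ⟨y, hy⟩
      change L.d i (i + 1) y = x at hy
      rcases le_or_gt (i + 1) b with h | h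
      · refine ⟨⟨y, by rw [Zs_of_lt L b (show i < b by omega)]; trivial⟩, Subtype.ext ?_⟩
        exact (upper_d L b i _).trans hy
      · rw [Zs_of_gt L b h, Submodule.mem_bot] at hxZ
        subst hxZ
        exact ⟨0, map_zero _⟩
    · intro y hy
      rcases le_or_gt (i + 1) b with h | h
      · have hyZ : y ∈ Zs L b (i + 1) := by
          rcases eq_or_lt_of_le h with h | h
          · subst h; rw [Zs_self]; exact hy
          · rw [Zs_of_lt L b h]; trivial
        exact ⟨⟨y, hyZ⟩, 0, Subtype.ext ((upper_d L b (i + 1) _).trans hy),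
          (congrArg (y + ·) (map_zero (L.d i (i + 1)).hom)).trans (add_zero y)⟩
      · obtain ⟨w, hw⟩ := exists_of_subsingleton_Hk (hhigh (i + 1) h) y hy
        obtain ⟨w', hw'⟩ : ∃ w', L.d i (i + 1) w' = y := by
          revert w hw
          rw [show i + 1 - 1 = i by ring]
          exact fun w hw => ⟨w, hw⟩
        exact ⟨0, w', map_zero _,
          (congrArg (· + L.d i (i + 1) w') (map_zero ((upperι L b).f (i + 1)).hom)).trans
            ((zero_add _).trans hw')⟩

lemma exists_upper_of_Bs {i : ℤ} (z : L.X i) (hzZ : z ∈ Zs L b i) (hzB : z ∈ Bs L a i)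
    (hcyc : L.d i (i + 1) z = 0) (hlow : ∀ j, j < a → Subsingleton (Hk L j)) :
    ∃ w : Zs L b (i - 1), L.d (i - 1) i w.1 = z := by
  rcases le_or_gt i b with hib | hib
  · obtain ⟨w, hw⟩ : ∃ w, L.d (i - 1) i w = z := by
      rcases lt_trichotomy i a with h | rfl | h
      · exact exists_of_subsingleton_Hk (hlow i h) z hcyc
      · rw [Bs_self] at hzB; exact hzB
      · rw [Bs_of_gt L a h, Submodule.mem_bot] at hzB; exact ⟨0, by rw [map_zero, hzB]⟩
    exact ⟨⟨w, by rw [Zs_of_lt L b (show i - 1 < b by omega)]; trivial⟩, hw⟩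
  · rw [Zs_of_gt L b hib, Submodule.mem_bot] at hzZ
    exact ⟨0, by rw [hzZ]; exact map_zero _⟩

lemma quasiIso_truncπ (hlow : ∀ j, j < a → Subsingleton (Hk L j)) : QuasiIso (truncπ L a b) where
  quasiIsoAt j := by
    rw [quasiIsoAt_iff_isIso_homologyMap, ConcreteCategory.isIso_iff_bijective]
    obtain ⟨i, rfl⟩ : ∃ i, j = i + 1 := ⟨j - 1, by ring⟩
    refine ⟨(homologyMap_injective_iff _ (i := i) (by simp) (cochain_next (i + 1))).2 ?_,
      (homologyMap_surjective_iff _ (i := i) (by simp) (cochain_next (i + 1))).2 ?_⟩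
    · rintro x hx ⟨y, hy⟩
      obtain ⟨y, rfl⟩ := Submodule.Quotient.mk_surjective _ y
      have hB := (Submodule.Quotient.eq _).1 ((trunc_d L a b i y).symm.trans hy)
      have hz : L.d i (i + 1) y.1 - x.1 ∈ Bs L a (i + 1) := hB
      have hx0 : L.d (i + 1) (i + 1 + 1) x.1 = 0 :=
        (upper_d L b (i + 1) x).symm.trans (congrArg Subtype.val hx)
      obtain ⟨w, hw⟩ := exists_upper_of_Bs a b (L.d i (i + 1) y.1 - x.1)
        (sub_mem (d_mem_Zs L b i y.1 y.2) x.2) hz
        (by rw [map_sub, d_d_apply, hx0, sub_zero]) hlow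
      obtain ⟨w', hw'⟩ : ∃ w' : Zs L b i, L.d i (i + 1) w'.1 = L.d i (i + 1) y.1 - x.1 := by
        revert w hw
        rw [show i + 1 - 1 = i by ring]
        exact fun w hw => ⟨w, hw⟩
      refine ⟨y - w', Subtype.ext ((upper_d L b i _).trans ?_)⟩
      rw [Submodule.coe_sub, map_sub, hw', sub_sub_cancel]
    · intro q hq
      obtain ⟨y, rfl⟩ := Submodule.Quotient.mk_surjective _ q
      have hB : L.d (i + 1) (i + 1 + 1) y.1 ∈ Bs L a (i + 1 + 1) :=
        (Submodule.Quotient.mk_eq_zero ((Bs L a (i + 1 + 1)).comap (Zs L b (i + 1 + 1)).subtype)).1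
          ((trunc_d L a b (i + 1) y).symm.trans hq)
      obtain ⟨w, hw⟩ := exists_upper_of_Bs a b _ (d_mem_Zs L b (i + 1) y.1 y.2) hB
        (d_d_apply L _ _ _ _) hlow
      obtain ⟨w', hw', hwB⟩ : ∃ w' : Zs L b (i + 1),
          L.d (i + 1) (i + 1 + 1) w'.1 = L.d (i + 1) (i + 1 + 1) y.1 ∧ w'.1 ∈ Bs L a (i + 1) := by
        rcases lt_or_ge (i + 1) a with h | h
        · exact ⟨y, rfl, by rw [Bs_of_lt L a h]; trivial⟩
        · refine ⟨0, ?_, zero_mem _⟩
          rw [Bs_of_gt L a (show a < i + 1 + 1 by omega), Submodule.mem_bot] at hB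
          rw [hB]; exact map_zero _
      refine ⟨y - w', 0, Subtype.ext ((upper_d L b (i + 1) _).trans ?_), ?_⟩
      · rw [Submodule.coe_sub, map_sub, hw', sub_self]
        rfl
      · rw [map_zero, add_zero]
        exact (Submodule.Quotient.eq _).2 (show (y.1 - w'.1) - y.1 ∈ Bs L a (i + 1) by
          rw [sub_sub_cancel_left]; exact neg_mem hwB)

variable [∀ i, Module.Finite A (L.X i)] [∀ i, Module.Flat A (L.X i)]

/-- A complex with cohomology in `[a, b]` and flat cokernels has a projective model there. -/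
theorem exists_trunc [IsNoetherianRing A] (N : ℤ) (hN : ∀ i, N < i → IsZero (L.X i))
    (hlow : ∀ j, j < a → Subsingleton (Hk L j)) (hhigh : ∀ j, b < j → Subsingleton (Hk L j))
    (hQa : Module.Flat A (Qc L a)) :
    ∃ L' : CochainComplex (ModuleCat.{u} A) ℤ,
      (∀ i, Module.Finite A (L'.X i) ∧ Module.Projective A (L'.X i)) ∧
      (∀ i, i < a ∨ b < i → IsZero (L'.X i)) ∧
      ∀ (p : ℤ) (M : ModuleCat.{u} A), Nonempty (CohIII.T L' p M ≅ CohIII.T L p M) := by
  have hQ : ∀ i, b < i → Module.Flat A (Qc L i) := fun i hi =>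
    flat_Qc_of_flat_Hk L N hN (b + 1)
      (fun j hj => have := hhigh j (by omega); inferInstance) i (by omega)
  have hZ : ∀ i, Module.Flat A (Zs L b i) := fun i => by
    rcases lt_trichotomy i b with h | rfl | h
    · rw [Zs_of_lt L b h]; exact Module.Flat.of_linearEquiv Submodule.topEquiv
    · rw [Zs_self]
      have h1 := flat_range_dq L i (hQ (i + 1) (by omega))
      rw [range_dq] at h1
      exact flat_ker_of_flat_range _
    · rw [Zs_of_gt L b h]; infer_instance
  have hT : ∀ i, Module.Flat A (lowX L a b i) := fun i => by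
    rcases lt_trichotomy i a with h | rfl | h
    · have : Subsingleton (lowX L a b i) := Submodule.Quotient.subsingleton_iff.2 (by
        rw [Bs_of_lt L a h, Submodule.comap_top])
      infer_instance
    · let f : Zs L b i →ₗ[A] Qc L i := (cokerπ L (i - 1) i).comp (Zs L b i).subtype
      have hk : LinearMap.ker f = (Bs L i i).comap (Zs L b i).subtype := by
        rw [Bs_self, LinearMap.ker_comp, Submodule.ker_mkQ]
      have e : lowX L i b i ≃ₗ[A] LinearMap.range f :=
        (Submodule.quotEquivOfEq _ _ hk.symm).trans f.quotKerEquivRange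
      have : Module.Flat A (LinearMap.range f) := by
        have hf : LinearMap.range f = (Zs L b i).map (cokerπ L (i - 1) i) := by
          rw [LinearMap.range_comp, Submodule.range_subtype]
        rcases lt_trichotomy i b with h | rfl | h
        · rw [hf, Zs_of_lt L b h, Submodule.map_top, Submodule.range_mkQ]
          exact Module.Flat.of_linearEquiv Submodule.topEquiv
        · have e' : LinearMap.range f = LinearMap.ker (dq L i) := by
            rw [hf, Zs_self, ← dBar_comp L (i - 1) i (i + 1), LinearMap.ker_comp,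
              Submodule.map_comap_eq_of_surjective (Submodule.mkQ_surjective _)]
          rw [e']
          exact flat_Hk L i hQa (hQ (i + 1) (by omega))
        · rw [hf, Zs_of_gt L b h, Submodule.map_bot]; infer_instance
      exact Module.Flat.of_linearEquiv e
    · have hb : (Bs L a i).comap (Zs L b i).subtype = ⊥ := by
        rw [Bs_of_gt L a h, Submodule.comap_bot, Submodule.ker_subtype]
      have := hZ i
      exact Module.Flat.of_linearEquiv (M := Zs L b i) (Submodule.quotEquivOfEqBot _ hb)
  have hfinZ : ∀ i, Module.Finite A (Zs L b i) := fun i => inferInstance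
  have hflT : ∀ i, Module.Flat A ((trunc L a b).X i) := hT
  have hflU : ∀ i, Module.Flat A ((upper L b).X i) := hZ
  have hTb : ∀ i, b < i → IsZero ((trunc L a b).X i) := fun i hi =>
    @ModuleCat.isZero_of_subsingleton A _ _
      (show Subsingleton (lowX L a b i) from
        have : Subsingleton (Zs L b i) := by rw [Zs_of_gt L b hi]; infer_instance
        (Submodule.mkQ_surjective _).subsingleton)
  have hUb : ∀ i, b < i → IsZero ((upper L b).X i) := fun i hi =>
    @ModuleCat.isZero_of_subsingleton A _ _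
      (show Subsingleton (Zs L b i) by rw [Zs_of_gt L b hi]; infer_instance)
  have := quasiIso_upperι b hhigh
  have := quasiIso_truncπ a b hlow
  refine ⟨trunc L a b, fun i => ?_, fun i hi => ?_, fun p M => ?_⟩
  · have : Module.Finite A (lowX L a b i) := inferInstance
    have := hT i
    have : Module.FinitePresentation A (lowX L a b i) := Module.finitePresentation_of_finite A _
    exact ⟨(inferInstance : Module.Finite A (lowX L a b i)),
      (Module.Flat.projective_of_finitePresentation : Module.Projective A (lowX L a b i))⟩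
  · rcases hi with hi | hi
    · exact @ModuleCat.isZero_of_subsingleton A _ _
        (Submodule.Quotient.subsingleton_iff.2 (by rw [Bs_of_lt L a hi, Submodule.comap_top]))
    · exact hTb i hi
  · have h1 := quasiIso_tensor b N hUb hN (upperι L b) M
    have h2 := quasiIso_tensor b b hUb hTb (truncπ L a b) M
    exact ⟨(@asIso _ _ _ _ (homologyMap _ p)
        ((quasiIsoAt_iff_isIso_homologyMap _ p).1 (h2.quasiIsoAt p))).symm ≪≫
      @asIso _ _ _ _ (homologyMap _ p) ((quasiIsoAt_iff_isIso_homologyMap _ p).1 (h1.quasiIsoAt p))⟩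

end Groth.CohTwo.Amplitude
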