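import Groth.Agent.CohBase.BaseChangeModel
import Groth.Agent.CohBase.CxModel
import Groth.Agent.CohFin.Proper

/-!
`M' ↦ H^p(X', g^*F ⊗ M')` is the exchange functor of `F` on modules restricted to the base.
-/

universe u

open CategoryTheory Limits AlgebraicGeometry TopologicalSpace Opposite
open scoped TensorProduct
open Groth.QCohMod (resFun res_app)

namespace Groth.CohBase.SecModel

variable {A : Type u} [CommRing A] {X : Scheme.{u}} [X.Over (Spec (CommRingCat.of A))]
  {ι : Type u} {U : ι → X.Opens} {F : X.Modules} {M N : Type u} [AddCommGroup M] [Module A M]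
  [AddCommGroup N] [Module A N] {X' : Scheme.{u}} {g : X' ⟶ X} {G H : X'.Modules}
  [Finite ι] [G.IsQuasicoherent] [H.IsQuasicoherent] (hcov : ⨆ i, U i = ⊤)

/-- The comparison is natural for compatible maps. -/
lemma cycToHH_map (Ψ : SecModel A U F M g G) (Ψ' : SecModel A U F N g H) (φ : M →ₗ[A] N) (ψ : G ⟶ H)
    (ht : ∀ (W : X.Opens) z, ψ.app (g ⁻¹ᵁ W) (Ψ.Φ W z) = Ψ'.Φ W (φ.lTensor (secA A F W) z)) (p : ℕ)
    (z : LinearMap.ker (((cxA A U F).d (p : ℤ) ((p : ℤ) + 1)).hom.rTensor M))
    (z' : LinearMap.ker (((cxA A U F).d (p : ℤ) ((p : ℤ) + 1)).hom.rTensor N))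
    (h : z'.1 = φ.lTensor ((cxA A U F).X (p : ℤ)) z.1) :
    Sheaf.H.map ((toAbF X').map ψ) p (Ψ.cycToHH hcov p z) = Ψ'.cycToHH hcov p z' := by
  rw [cycToHH_apply, cycToHH_apply]
  refine (Res.clsTop_map (cechResMap (fun i => g ⁻¹ᵁ U i) (preimage_iSup_eq_top g hcov) ψ) p _ _ ?_).symm
  funext x
  change Ψ'.toTop p z'.1 x = ψ.app _ (Ψ.toTop p z.1 x)
  rw [h]
  change Ψ'.toTop p (φ.lTensor (cxC A U F p) z.1) x = _
  rw [toTop_apply, toTop_apply, ← LinearMap.comp_apply, LinearMap.rTensor_comp_lTensor,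
    ← LinearMap.lTensor_comp_rTensor, LinearMap.comp_apply]
  refine Eq.trans ?_ (res_app ψ _ _)
  exact congrArg (QCohMod.res _ _) (ht _ _).symm

end Groth.CohBase.SecModel

namespace Groth.CohTwo

open Groth.CohBase

variable {A A' : Type u} [CommRing A] [CommRing A'] [Algebra A A'] {X X' : Scheme.{u}}
  [X.Over (Spec (CommRingCat.of A))] [X'.Over (Spec (CommRingCat.of A'))] {g : X' ⟶ X}
  (hsq : IsBC (A := A) (A' := A') g) (F : X.Modules)

/-- Inverse image of sections, with scalars extended, linearly. -/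
noncomputable def bcSecLin (W : X.Opens) :
    A' ⊗[A] secA A F W →ₗ[A'] secA A' ((Scheme.Modules.pullback g).obj F) (g ⁻¹ᵁ W) where
  toFun z := (show secA A' _ (g ⁻¹ᵁ W) from bcSec hsq F W (TensorProduct.comm A A' _ z))
  map_add' z w := by rw [map_add]; exact map_add (bcSec hsq F W) _ _
  map_smul' b z := by
    change bcSec hsq F W (TensorProduct.comm A A' _ (b • z)) =
      toSec A' (g ⁻¹ᵁ W) b • bcSec hsq F W (TensorProduct.comm A A' _ z)
    induction z using TensorProduct.induction_on with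
    | zero => simp
    | tmul c s =>
      rw [TensorProduct.smul_tmul', TensorProduct.comm_tmul, TensorProduct.comm_tmul, bcSec_tmul,
        bcSec_tmul, smul_smul, smul_eq_mul, map_mul]
    | add p q hp hq => rw [smul_add, map_add, map_add, hp, hq, map_add, map_add, smul_add]

variable (M : ModuleCat.{u} A') [Module A M] [IsScalarTower A A' M]

/-- `Γ(F, W) ⊗_A M → Γ(g^*F ⊗ f'^*M~, g⁻¹W)`. -/
noncomputable def bcTensorSec (W : X.Opens) :
    secA A F W ⊗[A] M →+ Γ((CohIII.tensorAFunctor A' ((Scheme.Modules.pullback g).obj F)).obj M, g ⁻¹ᵁ W) :=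
  (tensorSec ((Scheme.Modules.pullback g).obj F) M (g ⁻¹ᵁ W)).comp
    ((TensorProduct.comm A' M (secA A' ((Scheme.Modules.pullback g).obj F) (g ⁻¹ᵁ W))).toLinearMap.toAddMonoidHom.comp
      (((bcSecLin hsq F W).lTensor M).toAddMonoidHom.comp
        (((TensorProduct.AlgebraTensorModule.cancelBaseChange A A' A' M (secA A F W)).symm.toAddEquiv.toAddMonoidHom).comp
          (TensorProduct.comm A (secA A F W) M).toAddMonoidHom)))

lemma bcTensorSec_tmul (W : X.Opens) (s : secA A F W) (m : M) :
    bcTensorSec hsq F M W (s ⊗ₜ m) = Groth.PicAux.tmulSec (tildeSec M (g ⁻¹ᵁ W) m)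
      (toSec A' (g ⁻¹ᵁ W) 1 • Groth.PicAux.pullSec g F (show Γ(F, W) from s)) := rfl

lemma bcTensorSec_bijective [F.IsQuasicoherent] {W : X.Opens} (hW : IsAffineOpen W) :
    Function.Bijective (bcTensorSec hsq F M W) := by
  have := isAffineHom_of_bc hsq
  have := QCohMod.isQCoh_pullback_obj g F
  have hb : Function.Bijective (bcSecLin hsq F W) :=
    (bcSec_bijective hsq F hW).comp (LinearEquiv.bijective _)
  exact (tensorSec_bijective ((Scheme.Modules.pullback g).obj F) M (hW.preimage g)).comp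
    ((TensorProduct.comm A' M (secA A' ((Scheme.Modules.pullback g).obj F) (g ⁻¹ᵁ W))).bijective.comp
      (((LinearEquiv.ofBijective (bcSecLin hsq F W) hb).lTensor M).bijective.comp
        ((TensorProduct.AlgebraTensorModule.cancelBaseChange A A' A' M (secA A F W)).symm.toAddEquiv.bijective.comp
          (TensorProduct.comm A (secA A F W) M).bijective)))

lemma bcTensorSec_res {V W : X.Opens} (h : V ≤ W) (z : secA A F W ⊗[A] M) :
    QCohMod.res _ (g.preimage_mono h) (bcTensorSec hsq F M W z) =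
      bcTensorSec hsq F M V ((secRes A F h).rTensor M z) := by
  induction z using TensorProduct.induction_on with
  | zero => simp
  | add p q hp hq => simp only [map_add, hp, hq]
  | tmul s m =>
    rw [bcTensorSec_tmul, LinearMap.rTensor_tmul, bcTensorSec_tmul, map_one, one_smul]
    refine (Groth.PicAux.res_tmulSec (g.preimage_mono h) _ _).trans ?_
    rw [map_one, one_smul]
    congr 1
    · exact res_tildeSec M (g.preimage_mono h) m
    · exact Groth.PicAux.res_pullSec g F h _

lemma bcTensorSec_map {N : ModuleCat.{u} A'} [Module A N] [IsScalarTower A A' N] (φ : M ⟶ N)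
    (W : X.Opens) (z : secA A F W ⊗[A] M) :
    ((CohIII.tensorAFunctor A' ((Scheme.Modules.pullback g).obj F)).map φ).app (g ⁻¹ᵁ W)
        (bcTensorSec hsq F M W z) =
      bcTensorSec hsq F N W ((φ.hom.restrictScalars A).lTensor (secA A F W) z) := by
  induction z using TensorProduct.induction_on with
  | zero => simp
  | add p q hp hq => simp only [map_add, hp, hq]
  | tmul s m =>
    refine Eq.trans ?_ (show tensorSec ((Scheme.Modules.pullback g).obj F) N (g ⁻¹ᵁ W)
      (((toSec A' (g ⁻¹ᵁ W) 1 • Groth.PicAux.pullSec g F (show Γ(F, W) from s) :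
        Γ((Scheme.Modules.pullback g).obj F, g ⁻¹ᵁ W)) :
          secA A' ((Scheme.Modules.pullback g).obj F) (g ⁻¹ᵁ W)) ⊗ₜ[A'] φ.hom m) = _ from rfl)
    exact tensorSec_map ((Scheme.Modules.pullback g).obj F) M φ (g ⁻¹ᵁ W) (_ ⊗ₜ[A'] m)

/-- The model. -/
noncomputable def bcTensorModel (G : GoodCover X) [F.IsQuasicoherent] :
    SecModel A G.U F M g ((CohIII.tensorAFunctor A' ((Scheme.Modules.pullback g).obj F)).obj M) where
  Φ W := bcTensorSec hsq F M W
  nat h z := bcTensorSec_res hsq F M h z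
  bij x := bcTensorSec_bijective hsq F M (G.affine x)

include hsq in
omit M in
/-- The exchange functor of the base change. -/
theorem nonempty_bcTensorIso (G : GoodCover X) [F.IsQuasicoherent] [X.IsSeparated] (p : ℕ) :
    Nonempty ((ModuleCat.restrictScalars.{u} (algebraMap A A') ⋙ CohIII.TFun (cxA A G.U F) (p : ℤ)) ⋙
        forget₂ (ModuleCat.{u} A) AddCommGrpCat.{u} ≅
      CohIII.tensorAFunctor A' ((Scheme.Modules.pullback g).obj F) ⋙ CohIII.HAb X' p) := by
  have := QCohMod.isQCoh_pullback_obj g F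
  let mA : ∀ N : ModuleCat.{u} A', Module A N := fun N => Module.compHom N (algebraMap A A')
  have tw : ∀ N : ModuleCat.{u} A', @IsScalarTower A A' N _ _ (mA N).toSMul := fun N =>
    letI := mA N; IsScalarTower.of_algebraMap_smul fun _ _ => rfl
  have key : ∀ N : ModuleCat.{u} A', ∃ e :
      (CohIII.TFun (cxA A G.U F) (p : ℤ)).obj ((ModuleCat.restrictScalars (algebraMap A A')).obj N) ≃+
        Coh.HH X' ((CohIII.tensorAFunctor A' ((Scheme.Modules.pullback g).obj F)).obj N) p,
      ∀ z, e (FlatCxBase.clsT (cxA A G.U F) (FlatCxBase.cochain_next (p : ℤ))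
          ((ModuleCat.restrictScalars (algebraMap A A')).obj N) z) =
        (letI := mA N; haveI := tw N; (bcTensorModel hsq F N G).cycToHH G.hcov p z) := fun N =>
    letI := mA N
    haveI := tw N
    (bcTensorModel hsq F N G).exists_hhEquiv G.hcov (bc_affine hsq G) (bc_affine_inf hsq G) p
  choose e he using key
  refine ⟨NatIso.ofComponents (fun N => AddEquiv.toAddCommGrpIso (e N)) fun {N N'} φ => ?_⟩
  refine AddCommGrpCat.ext fun a => ?_
  obtain ⟨z, rfl⟩ := FlatCxBase.clsT_surjective (cxA A G.U F) (FlatCxBase.cochain_next (p : ℤ))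
    ((ModuleCat.restrictScalars (algebraMap A A')).obj N) a
  change e N' ((CohIII.TFun (cxA A G.U F) (p : ℤ)).map
      ((ModuleCat.restrictScalars (algebraMap A A')).map φ) _) =
    Sheaf.H.map ((toAbF X').map
      ((CohIII.tensorAFunctor A' ((Scheme.Modules.pullback g).obj F)).map φ)) p (e N _)
  rw [FlatCxBase.TFun_map_clsT, he, he]
  let := mA N
  have := tw N
  let := mA N'
  have := tw N'
  exact (SecModel.cycToHH_map G.hcov (bcTensorModel hsq F N G) (bcTensorModel hsq F N' G)
    (φ.hom.restrictScalars A) ((CohIII.tensorAFunctor A' ((Scheme.Modules.pullback g).obj F)).map φ)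
    (fun W w => bcTensorSec_map hsq F N φ W w) p z _ rfl).symm

end Groth.CohTwo
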