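import Groth.Agent.RDerLib.LES
import Mathlib.CategoryTheory.Abelian.DiagramLemmas.KernelCokernelComp
import Mathlib.Algebra.Homology.HomologicalComplex

/-!
A left exact functor applied to a complex of injective objects whose cohomology has derived images
in a class of objects closed under kernels, cokernels and extensions.
-/

universe v u v' u'

open CategoryTheory CategoryTheory.Limits HomologicalComplex

namespace Groth.CohTwo.ComposeCoh

variable {D : Type u'} [Category.{v'} D] [Abelian D]

/-- A class of objects of an abelian category closed under kernels, cokernels and extensions. -/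
structure Closed (P : D → Prop) : Prop where
  iso : ∀ {X Y : D}, (X ≅ Y) → P X → P Y
  ker : ∀ {X Y : D} (f : X ⟶ Y), P X → P Y → P (kernel f)
  coker : ∀ {X Y : D} (f : X ⟶ Y), P X → P Y → P (cokernel f)
  ext : ∀ {S : ShortComplex D}, S.ShortExact → P S.X₁ → P S.X₃ → P S.X₂

variable {P : D → Prop} (hP : Closed P)
include hP

theorem five {A B C E G : D} (a : A ⟶ B) (b : B ⟶ C) (c : C ⟶ E) (d : E ⟶ G) {hab : a ≫ b = 0}
    {hbc : b ≫ c = 0} {hcd : c ≫ d = 0} (e₁ : (ShortComplex.mk a b hab).Exact)
    (e₂ : (ShortComplex.mk b c hbc).Exact) (e₃ : (ShortComplex.mk c d hcd).Exact)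
    (hA : P A) (hB : P B) (hE : P E) (hG : P G) : P C := by
  have hm : Mono (cokernel.desc a b hab) := e₁.mono_cokernelDesc
  have he : Epi (kernel.lift d c hcd) := e₃.epi_kernelLift
  have w : cokernel.desc a b hab ≫ kernel.lift d c hcd = 0 := by
    rw [← cancel_epi (cokernel.π a), ← cancel_mono (kernel.ι d)]
    simp [hbc]
  refine hP.ext (S := ShortComplex.mk _ _ w) { exact := ?_, mono_f := hm, epi_g := he }
    (hP.coker a hA hB) (hP.ker d hE hG)
  rw [ShortComplex.exact_iff_exact_up_to_refinements]
  intro T x hx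
  have hx' : x ≫ c = 0 := by
    have := congrArg (· ≫ kernel.ι d) hx
    simpa using this
  obtain ⟨T', π, hπ, y, hy⟩ := e₂.exact_up_to_refinements x hx'
  exact ⟨T', π, hπ, y ≫ cokernel.π a, by simpa using hy⟩

theorem coker_comp {X Y Z : D} (q : X ⟶ Y) (b : Y ⟶ Z) [Mono b] (hq : P (cokernel q))
    (hb : P (cokernel b)) : P (cokernel (q ≫ b)) := by
  have w : cokernel.map q (q ≫ b) (𝟙 X) b (by simp) ≫
      cokernel.map (q ≫ b) b q (𝟙 Z) (by simp) = 0 := by
    rw [← cancel_epi (cokernel.π q)]; simp
  refine hP.ext (S := ShortComplex.mk _ _ w)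
    { exact := ?_, mono_f := ?_, epi_g := ?_ } hq hb
  · rw [ShortComplex.exact_iff_exact_up_to_refinements]
    intro T x hx
    obtain ⟨T', π, hπ, z, hz⟩ := surjective_up_to_refinements_of_epi (cokernel.π (q ≫ b)) x
    have hz0 : z ≫ cokernel.π b = 0 := by
      have := congrArg (π ≫ ·) hx
      simp only [comp_zero, ← Category.assoc] at this
      rw [hz] at this
      simpa using this
    obtain ⟨T'', π', hπ', y, hy⟩ := (ShortComplex.exact_of_g_is_cokernel
      (ShortComplex.mk b _ (cokernel.condition b)) (cokernelIsCokernel b)).exact_up_to_refinements z hz0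
    refine ⟨T'', π' ≫ π, inferInstance, y ≫ cokernel.π q, ?_⟩
    simp only [Category.assoc, hz, cokernel.π_desc, ← Category.assoc π', hy]
  · change Mono (cokernel.map q (q ≫ b) (𝟙 X) b (by simp))
    rw [Preadditive.mono_iff_cancel_zero]
    intro T x hx
    obtain ⟨T', π, hπ, y, hy⟩ := surjective_up_to_refinements_of_epi (cokernel.π q) x
    have hy0 : (y ≫ b) ≫ cokernel.π (q ≫ b) = 0 := by
      have := congrArg (π ≫ ·) hx
      simp only [comp_zero, ← Category.assoc] at this
      rw [hy] at this
      simpa using this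
    obtain ⟨T'', π', hπ', z, hz⟩ := (ShortComplex.exact_of_g_is_cokernel
      (ShortComplex.mk (q ≫ b) _ (cokernel.condition _)) (cokernelIsCokernel _)).exact_up_to_refinements
      (y ≫ b) hy0
    have hz' : π' ≫ y = z ≫ q := by
      rw [← cancel_mono b]
      simpa using hz
    rw [← cancel_epi π, ← cancel_epi π', hy, ← Category.assoc π', hz', Category.assoc,
      cokernel.condition, comp_zero, comp_zero, comp_zero]
  · exact epi_of_epi_fac (f := cokernel.π (q ≫ b)) (h := cokernel.π b) (by simp)

end Groth.CohTwo.ComposeCoh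

namespace Groth.CohTwo.ComposeCoh

variable {C : Type u} [Category.{v} C] [Abelian C] [HasInjectiveResolutions C]
  {D : Type u'} [Category.{v'} D] [Abelian D] (F : C ⥤ D) [F.Additive] [PreservesFiniteLimits F]

/-- The cycles in degree `j` inside the term. -/
noncomputable abbrev cycSeq (K : CochainComplex C ℕ) (j : ℕ) : ShortComplex C :=
  ShortComplex.mk (K.iCycles j) (cokernel.π (K.iCycles j)) (cokernel.condition _)

theorem cycSeq_shortExact (K : CochainComplex C ℕ) (j : ℕ) : (cycSeq K j).ShortExact :=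
  { exact := ShortComplex.exact_of_g_is_cokernel _ (cokernelIsCokernel _)
    mono_f := inferInstanceAs (Mono (K.iCycles j))
    epi_g := inferInstanceAs (Epi (cokernel.π _)) }

theorem iCycles_toCycles (K : CochainComplex C ℕ) (j : ℕ) :
    K.iCycles j ≫ K.toCycles j (j + 1) = 0 := by
  rw [← cancel_mono (K.iCycles (j + 1))]
  simp

/-- The boundaries inside the cycles. -/
noncomputable abbrev bdSeq (K : CochainComplex C ℕ) (j : ℕ) : ShortComplex C :=
  ShortComplex.mk (cokernel.desc (K.iCycles j) (K.toCycles j (j + 1)) (iCycles_toCycles K j))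
    (K.homologyπ (j + 1)) (by rw [← cancel_epi (cokernel.π (K.iCycles j))]; simp)

theorem bdSeq_shortExact (K : CochainComplex C ℕ) (j : ℕ) : (bdSeq K j).ShortExact := by
  refine { exact := ?_, mono_f := ?_, epi_g := inferInstanceAs (Epi (K.homologyπ (j + 1))) }
  · rw [ShortComplex.exact_iff_exact_up_to_refinements]
    intro T x hx
    obtain ⟨T', π, hπ, y, hy⟩ := (ShortComplex.exact_of_g_is_cokernel
      (ShortComplex.mk (K.toCycles j (j + 1)) (K.homologyπ (j + 1)) (by simp))
      (K.homologyIsCokernel j (j + 1) (by simp))).exact_up_to_refinements x hx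
    exact ⟨T', π, hπ, y ≫ cokernel.π _, by simpa using hy⟩
  · have h : (ShortComplex.mk (K.iCycles j) (K.d j (j + 1)) (K.iCycles_d j (j + 1))).Exact :=
      ShortComplex.exact_of_f_is_kernel _ (K.cyclesIsKernel j (j + 1) (by simp))
    have := h.mono_cokernelDesc
    have e : (bdSeq K j).f ≫ K.iCycles (j + 1) = cokernel.desc (K.iCycles j) (K.d j (j + 1))
        (K.iCycles_d j (j + 1)) := by
      rw [← cancel_epi (cokernel.π (K.iCycles j))]
      simp
    exact mono_of_mono_fac e

variable {P : D → Prop} (hP : Closed P)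
include hP

/-- The derived images of the cycles, and their degree zero part. -/
theorem derived_cycles (L : RDer.DerivedLES F) (K : CochainComplex C ℕ) (hK : ∀ i, Injective (K.X i))
    (n : ℕ) (hH : ∀ j, j ≤ n → ∀ p, P ((F.rightDerived p).obj (K.homology j))) :
    ∀ j, j ≤ n → ∀ p, P ((F.rightDerived (p + 1)).obj (K.cycles j)) := by
  intro j
  induction j with
  | zero =>
    intro hj p
    exact hP.iso ((F.rightDerived (p + 1)).mapIso K.isoHomologyπ₀.symm) (hH 0 hj (p + 1))
  | succ j ih =>
    intro hj p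
    have hB : ∀ q, P ((F.rightDerived (q + 1)).obj (cokernel (K.iCycles j))) := fun q => by
      have h := cycSeq_shortExact K j
      have z₁ : IsZero ((F.rightDerived (q + 1)).obj (K.X j)) :=
        haveI := hK j
        F.isZero_rightDerived_obj_injective_succ q (K.X j)
      have z₂ : IsZero ((F.rightDerived (q + 1 + 1)).obj (K.X j)) :=
        haveI := hK j
        F.isZero_rightDerived_obj_injective_succ (q + 1) (K.X j)
      have hm : Mono (L.δ _ h (q + 1) (q + 1 + 1) rfl) :=
        (L.exact₃ _ h (q + 1) (q + 1 + 1) rfl).mono_g (z₁.eq_of_src _ _)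
      have he : Epi (L.δ _ h (q + 1) (q + 1 + 1) rfl) :=
        (L.exact₁ _ h (q + 1) (q + 1 + 1) rfl).epi_f (z₂.eq_of_tgt _ _)
      haveI := isIso_of_mono_of_epi (L.δ _ h (q + 1) (q + 1 + 1) rfl)
      exact hP.iso (asIso (L.δ _ h (q + 1) (q + 1 + 1) rfl)).symm (ih (by omega) (q + 1))
    have h := bdSeq_shortExact K j
    exact five hP _ _ _ _ (L.exact₁ _ h p (p + 1) rfl) (L.exact₂ _ h (p + 1))
      (L.exact₃ _ h (p + 1) (p + 2) rfl) (hH (j + 1) hj p) (hB p) (hH (j + 1) hj (p + 1)) (hB (p + 1))

theorem mem_homology_map (L : RDer.DerivedLES F) (K : CochainComplex C ℕ) (hK : ∀ i, Injective (K.X i))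
    (n : ℕ) (hH : ∀ j, j ≤ n → ∀ p, P ((F.rightDerived p).obj (K.homology j))) (i : ℕ) (hi : i ≤ n) :
    P (((F.mapHomologicalComplex (ComplexShape.up ℕ)).obj K).homology i) := by
  let K' : CochainComplex D ℕ := (F.mapHomologicalComplex (ComplexShape.up ℕ)).obj K
  let e := F.rightDerivedZeroIsoSelf
  have hcyc : ∀ k, IsLimit (KernelFork.ofι (f := K'.d k (k + 1)) (F.map (K.iCycles k))
      ((F.map_comp _ _).symm.trans ((congrArg F.map (K.iCycles_d k (k + 1))).trans (F.map_zero _ _)))) :=
    fun k => KernelFork.mapIsLimit _ (K.cyclesIsKernel k (k + 1) (by simp)) F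
  match i with
  | 0 =>
    refine hP.iso (Iso.trans ?_ K'.isoHomologyπ₀) (hH 0 hi 0)
    refine (F.rightDerived 0).mapIso K.isoHomologyπ₀.symm ≪≫ e.app (K.cycles 0) ≪≫ ?_
    exact IsLimit.conePointUniqueUpToIso (hcyc 0) (K'.cyclesIsKernel 0 1 (by simp))
  | j + 1 =>
    let c : F.obj (K.cycles (j + 1)) ≅ K'.cycles (j + 1) :=
      IsLimit.conePointUniqueUpToIso (hcyc (j + 1)) (K'.cyclesIsKernel (j + 1) (j + 2) (by simp))
    have hc : c.hom ≫ K'.iCycles (j + 1) = F.map (K.iCycles (j + 1)) :=
      IsLimit.conePointUniqueUpToIso_hom_comp (hcyc (j + 1))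
        (K'.cyclesIsKernel (j + 1) (j + 2) (by simp)) WalkingParallelPair.zero
    have hto : F.map (K.toCycles j (j + 1)) ≫ c.hom = K'.toCycles j (j + 1) := by
      rw [← cancel_mono (K'.iCycles (j + 1)), Category.assoc, hc]
      exact (F.map_comp _ _).symm.trans ((congrArg F.map (K.toCycles_i j (j + 1))).trans
        (K'.toCycles_i j (j + 1)).symm)
    refine hP.iso ((cokernel.mapIso ((F.rightDerived 0).map (K.toCycles j (j + 1))) (K'.toCycles j (j + 1))
      (e.app _) (e.app _ ≪≫ c) ?_) ≪≫ (cokernelIsCokernel _).coconePointUniqueUpToIso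
        (K'.homologyIsCokernel j (j + 1) (by simp))) ?_
    · refine (Category.assoc _ _ _).symm.trans ?_
      refine (congrArg (· ≫ c.hom) (e.hom.naturality (K.toCycles j (j + 1)))).trans ?_
      exact (Category.assoc _ _ _).trans (congrArg (e.hom.app _ ≫ ·) hto)
    have hfac : K.toCycles j (j + 1) = cokernel.π (K.iCycles j) ≫ (bdSeq K j).f :=
      (cokernel.π_desc _ _ _).symm
    rw [hfac, Functor.map_comp]
    haveI : Mono ((F.rightDerived 0).map (bdSeq K j).f) := by
      haveI := (bdSeq_shortExact K j).mono_f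
      haveI : PreservesFiniteLimits (F.rightDerived 0) := preservesFiniteLimits_of_natIso e.symm
      infer_instance
    refine coker_comp hP _ _ ?_ ?_
    · have h := cycSeq_shortExact K j
      have z : IsZero ((F.rightDerived 1).obj (K.X j)) :=
        haveI := hK j
        F.isZero_rightDerived_obj_injective_succ 0 (K.X j)
      have he : Epi (L.δ _ h 0 1 rfl) := (L.exact₁ _ h 0 1 rfl).epi_f (z.eq_of_tgt _ _)
      exact hP.iso ((cokernelIsCokernel _).coconePointUniqueUpToIso
        (L.exact₃ _ h 0 1 rfl).gIsCokernel).symm (derived_cycles F hP L K hK n hH j (by omega) 0)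
    · have h := bdSeq_shortExact K j
      have hd : P ((F.rightDerived 1).obj (cokernel (K.iCycles j))) := by
        have h' := cycSeq_shortExact K j
        have z₁ : IsZero ((F.rightDerived 1).obj (K.X j)) :=
          haveI := hK j
          F.isZero_rightDerived_obj_injective_succ 0 (K.X j)
        have z₂ : IsZero ((F.rightDerived 2).obj (K.X j)) :=
          haveI := hK j
          F.isZero_rightDerived_obj_injective_succ 1 (K.X j)
        have hm : Mono (L.δ _ h' 1 2 rfl) := (L.exact₃ _ h' 1 2 rfl).mono_g (z₁.eq_of_src _ _)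
        have he : Epi (L.δ _ h' 1 2 rfl) := (L.exact₁ _ h' 1 2 rfl).epi_f (z₂.eq_of_tgt _ _)
        haveI := isIso_of_mono_of_epi (L.δ _ h' 1 2 rfl)
        exact hP.iso (asIso (L.δ _ h' 1 2 rfl)).symm (derived_cycles F hP L K hK n hH j (by omega) 1)
      have w : cokernel.desc ((F.rightDerived 0).map (bdSeq K j).f) ((F.rightDerived 0).map (bdSeq K j).g)
          (by rw [← Functor.map_comp, (bdSeq K j).zero, Functor.map_zero]) ≫ L.δ _ h 0 1 rfl = 0 := by
        rw [← cancel_epi (cokernel.π _)]
        simp only [cokernel.π_desc_assoc, comp_zero]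
        exact L.comp_δ (bdSeq K j) h 0 1 rfl
      have hk : (ShortComplex.mk _ _ w).Exact := by
        rw [ShortComplex.exact_iff_exact_up_to_refinements]
        intro T x hx
        obtain ⟨T', π, hπ, y, hy⟩ := (L.exact₃ _ h 0 1 rfl).exact_up_to_refinements x hx
        exact ⟨T', π, hπ, y ≫ cokernel.π _, by simpa using hy⟩
      haveI := (L.exact₂ _ h 0).mono_cokernelDesc
      exact hP.iso ((kernelIsKernel _).conePointUniqueUpToIso hk.fIsKernel)
        (hP.ker _ (hH (j + 1) hi 0) hd)

end Groth.CohTwo.ComposeCoh
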