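import Mathlib.Algebra.Homology.DerivedCategory.TStructure
import Mathlib.Algebra.Homology.HomologySequence
import Mathlib.CategoryTheory.Abelian.Refinements
import Mathlib.CategoryTheory.Abelian.Injective.Basic
import Mathlib.Algebra.Homology.DerivedCategory.ExactFunctor

/-!
Complexes with cohomology in an exact full extension closed subcategory with enough relative
injectives are quasi-isomorphic to complexes of such injectives.
-/

universe w w' v v' u u'

open CategoryTheory CategoryTheory.Limits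

namespace Groth.CohTwo.EssResolution

variable {A' : Type u'} [Category.{v'} A'] [Abelian A'] {A : Type u} [Category.{v} A] [Abelian A]
  (ι : A' ⥤ A) [ι.Additive] [PreservesFiniteLimits ι] [PreservesFiniteColimits ι] [ι.Full]
  [ι.Faithful] (K : CochainComplex A ℤ)

/-- The data in one degree: an injective from `A'`, its quotient by the previous boundaries, and the
comparison with `K`. -/
structure State (n : ℤ) where
  Y : A'
  C : A'
  π : ι.obj Y ⟶ ι.obj C
  φ : K.X n ⟶ ι.obj Y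
  ψ : K.opcycles n ⟶ ι.obj C
  inj : Injective (ι.obj Y)
  epi : Epi π
  comm : K.pOpcycles n ≫ ψ = φ ≫ π
  mono : Mono (K.homologyι n ≫ ψ)

variable {ι K}

/-- The relation between consecutive degrees. -/
def Next {n n' : ℤ} (s : State ι K n) (t : State ι K n') : Prop :=
  ∃ δ : ι.obj s.C ⟶ ι.obj t.Y, s.ψ ≫ δ = K.fromOpcycles n n' ≫ t.φ ∧
    (∃ w : (K.homologyι n ≫ s.ψ) ≫ δ = 0, (ShortComplex.mk _ δ w).Exact) ∧
    ∃ w' : δ ≫ t.π = 0, (ShortComplex.mk δ t.π w').Exact

theorem exists_next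
    (hext : ∀ S : ShortComplex A, S.ShortExact → ι.essImage S.X₁ → ι.essImage S.X₃ → ι.essImage S.X₂)
    (hinj : ∀ X' : A', ∃ (Y' : A') (i : X' ⟶ Y'), Mono i ∧ Injective (ι.obj Y'))
    (hH : ∀ i, ι.essImage (K.homology i)) {n : ℤ} (s : State ι K n) (n' : ℤ) (hn : n + 1 = n') :
    ∃ t : State ι K n', Next s t := by
  have hrel : (ComplexShape.up ℤ).Rel n n' := hn
  have hprev : (ComplexShape.up ℤ).prev n' = n := ComplexShape.prev_eq' _ hrel
  let o := K.opcyclesToCycles n n'
  let e := cokernel.π (K.homologyι n)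
  let m := cokernel.desc (K.homologyι n) o (K.homologyι_opcyclesToCycles n n')
  have hem : e ≫ m = o := cokernel.π_desc _ _ _
  haveI : Mono m := (ShortComplex.exact_iff_mono_cokernel_desc
    (ShortComplex.mk (K.homologyι n) o (K.homologyι_opcyclesToCycles n n'))).1
      ((HomologicalComplex.HomologySequence.composableArrows₃_exact K n n' hrel).exact 0)
  let f := K.homologyι n ≫ s.ψ
  haveI : Mono f := s.mono
  let e' := cokernel.π f
  have hψ' : K.homologyι n ≫ s.ψ ≫ e' = 0 := by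
    rw [← Category.assoc]; exact cokernel.condition f
  let ψ' := cokernel.desc (K.homologyι n) (s.ψ ≫ e') hψ'
  have heψ : e ≫ ψ' = s.ψ ≫ e' := cokernel.π_desc _ _ _
  have hC' : ι.essImage (cokernel f) := by
    obtain ⟨h₀, ⟨eh⟩⟩ := hH n
    let f₀ : h₀ ⟶ s.C := ι.preimage (eh.hom ≫ f)
    refine ⟨cokernel f₀, ⟨PreservesCokernel.iso ι f₀ ≪≫ cokernel.mapIso _ _ eh (Iso.refl _) ?_⟩⟩
    simp [f₀]
  let inl := pushout.inl ψ' m
  let inr := pushout.inr ψ' m
  have hpo : ψ' ≫ inl = m ≫ inr := pushout.condition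
  have hgw : ψ' ≫ (0 : cokernel f ⟶ K.homology n') = m ≫ K.homologyπ n' := by
    rw [comp_zero, ← cancel_epi e, comp_zero, ← Category.assoc, hem]
    exact (K.opcyclesToCycles_homologyπ n n').symm
  let g : pushout ψ' m ⟶ K.homology n' := pushout.desc 0 (K.homologyπ n') hgw
  have hinlg : inl ≫ g = 0 := pushout.inl_desc _ _ _
  have hinrg : inr ≫ g = K.homologyπ n' := pushout.inr_desc _ _ _
  haveI : Epi g := epi_of_epi_fac hinrg
  haveI : Mono inl := inferInstanceAs (Mono (pushout.inl ψ' m))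
  have hS : (ShortComplex.mk inl g hinlg).Exact := by
    refine ShortComplex.exact_of_g_is_cokernel _ ?_
    have hk : ∀ {T : A} (t : pushout ψ' m ⟶ T), inl ≫ t = 0 →
        K.toCycles n n' ≫ inr ≫ t = 0 := fun t ht => by
      rw [← K.pOpcycles_opcyclesToCycles n n', Category.assoc]
      have : o ≫ inr ≫ t = 0 := by
        rw [← hem, Category.assoc, ← Category.assoc m inr t, ← hpo, Category.assoc, ht, comp_zero,
          comp_zero]
      rw [this, comp_zero]
    refine CokernelCofork.IsColimit.ofπ _ _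
      (fun t ht => (K.homologyIsCokernel n n' hprev).desc
        (CokernelCofork.ofπ (inr ≫ t) (hk t ht))) (fun t ht => ?_)
      (fun t ht u hu => ?_)
    · apply pushout.hom_ext
      · rw [reassoc_of% hinlg, zero_comp]; exact ht.symm
      · rw [reassoc_of% hinrg]
        exact (K.homologyIsCokernel n n' hprev).fac _ WalkingParallelPair.one
    · rw [← cancel_epi (K.homologyπ n')]
      refine Eq.trans ?_ ((K.homologyIsCokernel n n' hprev).fac
        (CokernelCofork.ofπ (inr ≫ t) (hk t ht)) WalkingParallelPair.one).symm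
      exact ((reassoc_of% hinrg) u).symm.trans (congrArg (inr ≫ ·) hu)
  have hM : ι.essImage (pushout ψ' m) :=
    hext (ShortComplex.mk inl g hinlg) (ShortComplex.ShortExact.mk' hS inferInstance inferInstance)
      hC' (hH n')
  obtain ⟨m₀, ⟨em⟩⟩ := hM
  obtain ⟨Y, i, hi, hY⟩ := hinj m₀
  haveI := hi
  haveI := hY
  let j := em.inv ≫ ι.map i
  haveI : Mono j := inferInstance
  let φ := Injective.factorThru (inr ≫ j) (K.iCycles n')
  have hφ : K.iCycles n' ≫ φ = inr ≫ j := Injective.comp_factorThru _ _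
  let δ : ι.obj s.C ⟶ ι.obj Y := e' ≫ inl ≫ j
  have hδ : s.ψ ≫ δ = K.fromOpcycles n n' ≫ φ := by
    rw [← K.opcyclesToCycles_iCycles n n', Category.assoc, hφ]
    change s.ψ ≫ e' ≫ inl ≫ j = o ≫ inr ≫ j
    rw [← reassoc_of% heψ, reassoc_of% hpo, reassoc_of% hem]
  have hw : f ≫ δ = 0 := by
    change f ≫ e' ≫ inl ≫ j = 0
    rw [← Category.assoc, cokernel.condition, zero_comp]
  have hex₁ : (ShortComplex.mk f δ hw).Exact := by
    rw [ShortComplex.exact_iff_exact_up_to_refinements]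
    intro T x hx
    refine (ShortComplex.exact_of_g_is_cokernel (ShortComplex.mk f e' (cokernel.condition f))
      (cokernelIsCokernel f)).exact_up_to_refinements x ?_
    rw [← cancel_mono (inl ≫ j), zero_comp, Category.assoc]
    exact hx
  let δ₀ : s.C ⟶ Y := ι.preimage δ
  have hδ₀ : ι.map δ₀ = δ := ι.map_preimage δ
  let π := ι.map (cokernel.π δ₀)
  have hw' : δ ≫ π = 0 := by
    rw [← hδ₀, ← ι.map_comp, cokernel.condition, ι.map_zero]
  have hex₂ : (ShortComplex.mk δ π hw').Exact := by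
    have h1 := ((ShortComplex.exact_of_g_is_cokernel
      (ShortComplex.mk δ₀ _ (cokernel.condition δ₀)) (cokernelIsCokernel δ₀)).map ι)
    simp only [← hδ₀]
    exact h1
  have hd : K.d n n' ≫ φ ≫ π = 0 := by
    rw [← K.p_fromOpcycles n n', Category.assoc, ← Category.assoc (K.fromOpcycles n n') φ π, ← hδ,
      Category.assoc, hw', comp_zero, comp_zero]
  let ψ₁ := K.descOpcycles (φ ≫ π) n hprev hd
  have hψ₁ : K.pOpcycles n' ≫ ψ₁ = φ ≫ π := K.p_descOpcycles _ _ _ _
  have hmono : Mono (K.homologyι n' ≫ ψ₁) := by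
    have hgh : g ≫ K.homologyι n' ≫ ψ₁ = j ≫ π := by
      apply pushout.hom_ext
      · rw [reassoc_of% hinlg, zero_comp, ← cancel_epi e', comp_zero]
        exact hw'.symm.trans (by simp [δ, inl])
      · rw [reassoc_of% hinrg, K.homology_π_ι_assoc, hψ₁, reassoc_of% hφ]
    refine Preadditive.mono_of_cancel_zero _ fun {T} x hx => ?_
    obtain ⟨T₁, p₁, hp₁, x', hx'⟩ := surjective_up_to_refinements_of_epi g x
    have h0 : (x' ≫ j) ≫ π = 0 := by
      rw [Category.assoc, ← hgh, ← reassoc_of% hx', hx, comp_zero]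
    obtain ⟨T₂, p₂, hp₂, z, hz⟩ := hex₂.exact_up_to_refinements (x' ≫ j) h0
    have h1 : p₂ ≫ x' = z ≫ e' ≫ inl := by
      rw [← cancel_mono j]
      simpa [δ, Category.assoc] using hz
    rw [← cancel_epi p₁, ← cancel_epi p₂, hx', ← Category.assoc, h1, Category.assoc, Category.assoc,
      hinlg, comp_zero, comp_zero, comp_zero, comp_zero]
  exact ⟨⟨Y, cokernel δ₀, π, φ, ψ₁, hY, inferInstance, hψ₁, hmono⟩, δ, hδ, ⟨hw, hex₁⟩, hw', hex₂⟩

variable (ι K)

/-- The trivial state in a degree without cohomology. -/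
noncomputable def triv (n : ℤ) (hz : IsZero (K.homology n)) (Z : A') (hZ : IsZero Z) : State ι K n where
  Y := Z
  C := Z
  π := 0
  φ := 0
  ψ := 0
  inj := (ι.map_isZero hZ).injective
  epi := ⟨fun g h _ => (ι.map_isZero hZ).eq_of_src g h⟩
  comm := by simp
  mono := ⟨fun g h _ => hz.eq_of_tgt g h⟩

omit [Abelian A'] in
/-- The criterion for being a quasi-isomorphism in one degree. -/
theorem quasiIsoAt_of_data {K J : CochainComplex A ℤ} (F : K ⟶ J) (m : ℤ) {C₀ C₁ : A}
    (p₀ : J.X m ⟶ C₀) (d₀ : C₀ ⟶ J.X (m + 1)) (hp₀ : Epi p₀) (hd₀ : J.d m (m + 1) = p₀ ≫ d₀)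
    (p₁ : J.X (m + 1) ⟶ C₁) (d₁ : C₁ ⟶ J.X (m + 1 + 1))
    (hd₁ : J.d (m + 1) (m + 1 + 1) = p₁ ≫ d₁)
    (w₂ : d₀ ≫ p₁ = 0) (ex₂ : (ShortComplex.mk d₀ p₁ w₂).Exact)
    (ψ : K.opcycles (m + 1) ⟶ C₁) (comm : K.pOpcycles (m + 1) ≫ ψ = F.f (m + 1) ≫ p₁)
    (mono : Mono (K.homologyι (m + 1) ≫ ψ))
    (w₁ : (K.homologyι (m + 1) ≫ ψ) ≫ d₁ = 0)
    (ex₁ : (ShortComplex.mk (K.homologyι (m + 1) ≫ ψ) d₁ w₁).Exact)
    [Epi p₁] : QuasiIsoAt F (m + 1) := by
  rw [quasiIsoAt_iff_isIso_homologyMap]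
  have hprev : (ComplexShape.up ℤ).prev (m + 1) = m :=
    ComplexShape.prev_eq' _ (show m + 1 = m + 1 from rfl)
  let c := J.descOpcycles p₁ m hprev (by rw [hd₀, Category.assoc, w₂, comp_zero])
  have hc : J.pOpcycles (m + 1) ≫ c = p₁ := J.p_descOpcycles _ _ _ _
  haveI : Mono c := by
    have hz : d₀ ≫ J.pOpcycles (m + 1) = 0 := by
      rw [← cancel_epi p₀, comp_zero, ← Category.assoc, ← hd₀]
      exact J.d_pOpcycles m (m + 1)
    let c' := ex₂.gIsCokernel.desc (CokernelCofork.ofπ (J.pOpcycles (m + 1)) hz)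
    have hc' : p₁ ≫ c' = J.pOpcycles (m + 1) :=
      ex₂.gIsCokernel.fac _ WalkingParallelPair.one
    have : c ≫ c' = 𝟙 _ := by
      rw [← cancel_epi (J.pOpcycles (m + 1)), reassoc_of% hc, hc', Category.comp_id]
    exact SplitMono.mono ⟨c', this⟩
  have hmap : HomologicalComplex.opcyclesMap F (m + 1) ≫ c = ψ := by
    rw [← cancel_epi (K.pOpcycles (m + 1)), HomologicalComplex.p_opcyclesMap_assoc, hc, comm]
  have hfac : HomologicalComplex.homologyMap F (m + 1) ≫ J.homologyι (m + 1) ≫ c =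
      K.homologyι (m + 1) ≫ ψ := by
    rw [HomologicalComplex.homologyι_naturality_assoc, hmap]
  haveI := mono
  have hzero : (J.homologyι (m + 1) ≫ c) ≫ d₁ = 0 := by
    have h : c ≫ d₁ = J.fromOpcycles (m + 1) (m + 1 + 1) := by
      rw [← cancel_epi (J.pOpcycles (m + 1)), reassoc_of% hc, J.p_fromOpcycles, hd₁]
    rw [Category.assoc, h, J.homologyι_comp_fromOpcycles]
  let l := ex₁.fIsKernel.lift (KernelFork.ofι (J.homologyι (m + 1) ≫ c) hzero)
  have hl : l ≫ K.homologyι (m + 1) ≫ ψ = J.homologyι (m + 1) ≫ c :=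
    ex₁.fIsKernel.fac _ WalkingParallelPair.zero
  refine ⟨l, ?_, ?_⟩
  · rw [← cancel_mono (K.homologyι (m + 1) ≫ ψ), Category.assoc, hl, hfac, Category.id_comp]
  · rw [← cancel_mono (J.homologyι (m + 1) ≫ c), Category.assoc, hfac, hl, Category.id_comp]

section Complex

variable (a : ℤ) [K.IsStrictlyGE a]
  (hext : ∀ S : ShortComplex A, S.ShortExact → ι.essImage S.X₁ → ι.essImage S.X₃ → ι.essImage S.X₂)
  (hinj : ∀ X' : A', ∃ (Y' : A') (i : X' ⟶ Y'), Mono i ∧ Injective (ι.obj Y'))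
  (hH : ∀ i, ι.essImage (K.homology i))

lemma isZero_homology_of_lt {n : ℤ} (h : n < a) : IsZero (K.homology n) := by
  refine IsZero.of_mono (K.homologyι n) ?_
  exact IsZero.of_epi (K.pOpcycles n) (K.isZero_of_isStrictlyGE a n h)

include hext hinj hH

open scoped ZeroObject

/-- The states in all degrees. -/
noncomputable def st (n : ℤ) : State ι K n :=
  if h : n < a then triv ι K n (isZero_homology_of_lt K a h) 0 (isZero_zero A')
  else (exists_next hext hinj hH (st (n - 1)) n (sub_add_cancel n 1)).choose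
  termination_by (n + 1 - a).toNat
  decreasing_by omega

theorem next_st (n : ℤ) : Next (st ι K a hext hinj hH n) (st ι K a hext hinj hH (n + 1)) := by
  conv => arg 2; rw [st]
  split_ifs with h
  · have hn : n < a := by omega
    rw [st, dif_pos hn]
    refine ⟨0, ?_, ⟨comp_zero, ShortComplex.exact_of_isZero_X₂ _ (ι.map_isZero (isZero_zero A'))⟩,
      zero_comp, ShortComplex.exact_of_isZero_X₂ _ (ι.map_isZero (isZero_zero A'))⟩
    simp [triv]
  · have key : ∀ m (hm : m + 1 = n + 1),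
        Next (st ι K a hext hinj hH m)
          (exists_next hext hinj hH (st ι K a hext hinj hH m) (n + 1) hm).choose :=
      fun m hm => (exists_next hext hinj hH _ (n + 1) hm).choose_spec
    have cast : ∀ m (hm : m + 1 = n + 1),
        Next (st ι K a hext hinj hH n)
          (exists_next hext hinj hH (st ι K a hext hinj hH m) (n + 1) hm).choose := by
      intro m hm
      obtain rfl : m = n := by omega
      exact key m hm
    exact cast (n + 1 - 1) (by omega)

/-- The complex of relative injectives, quasi-isomorphic to `K`. -/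
theorem exists_resolution : ∃ (I : CochainComplex A' ℤ)
    (f : K ⟶ (ι.mapHomologicalComplex (ComplexShape.up ℤ)).obj I),
    I.IsStrictlyGE a ∧ (∀ n : ℤ, Injective (ι.obj (I.X n))) ∧ QuasiIso f := by
  let s := st ι K a hext hinj hH
  have hN : ∀ n, Next (s n) (s (n + 1)) := next_st ι K a hext hinj hH
  choose δ hδ h₁ h₂ using hN
  choose w₁ ex₁ using h₁
  choose w₂ ex₂ using h₂
  let d : ∀ n, (s n).Y ⟶ (s (n + 1)).Y := fun n => ι.preimage ((s n).π ≫ δ n)
  have hdd : ∀ n, d n ≫ d (n + 1) = 0 := fun n => ι.map_injective (by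
    simp only [d, ι.map_comp, ι.map_preimage, ι.map_zero, Category.assoc]
    rw [reassoc_of% (w₂ n), zero_comp, comp_zero])
  let I : CochainComplex A' ℤ := CochainComplex.of (fun n => (s n).Y) d hdd
  let J := (ι.mapHomologicalComplex (ComplexShape.up ℤ)).obj I
  have hJd : ∀ n, J.d n (n + 1) = (s n).π ≫ δ n := fun n => by
    change ι.map (I.d n (n + 1)) = _
    dsimp only [I, CochainComplex.of]
    erw [CochainComplex.of_d]
    exact ι.map_preimage _
  have hcomm : ∀ i j, (ComplexShape.up ℤ).Rel i j →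
      ((fun n => (s n).φ) i : K.X i ⟶ J.X i) ≫ J.d i j = K.d i j ≫ (s j).φ := by
    intro i j hij
    obtain rfl : i + 1 = j := hij
    refine (congrArg ((s i).φ ≫ ·) (hJd i)).trans ?_
    have : (s i).φ ≫ (s i).π ≫ δ i = K.d i (i + 1) ≫ (s (i + 1)).φ := by
      rw [← Category.assoc, ← (s i).comm, Category.assoc, hδ, ← Category.assoc, K.p_fromOpcycles]
    exact this
  let F : K ⟶ J := { f := fun n => (s n).φ, comm' := hcomm }
  refine ⟨I, F, (CochainComplex.isStrictlyGE_iff _ _).2 (fun n hn => ?_), fun n => (s n).inj,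
    ⟨fun n => ?_⟩⟩
  · change IsZero (s n).Y
    simp only [s]
    rw [st, dif_pos hn]
    exact isZero_zero A'
  suffices h : ∀ m, QuasiIsoAt F (m + 1) by
    simpa using h (n - 1)
  intro m
  haveI : Epi (show J.X (m + 1) ⟶ _ from (s (m + 1)).π) := (s (m + 1)).epi
  exact quasiIsoAt_of_data F m (s m).π (δ m) (s m).epi (hJd m) (s (m + 1)).π (δ (m + 1))
    (hJd (m + 1)) (w₂ m) (ex₂ m) (s (m + 1)).ψ (s (m + 1)).comm (s (m + 1)).mono (w₁ (m + 1))
    (ex₁ (m + 1))

end Complex

/-- Derived category form. -/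
theorem exists_iso [HasDerivedCategory.{w'} A'] [HasDerivedCategory.{w} A]
    (hext : ∀ S : ShortComplex A, S.ShortExact → ι.essImage S.X₁ → ι.essImage S.X₃ → ι.essImage S.X₂)
    (hinj : ∀ X' : A', ∃ (Y' : A') (i : X' ⟶ Y'), Mono i ∧ Injective (ι.obj Y'))
    (Z : DerivedCategory A) (a : ℤ) [Z.IsGE a]
    (hZ : ∀ i : ℤ, ι.essImage ((DerivedCategory.homologyFunctor A i).obj Z)) :
    ∃ (I : CochainComplex A' ℤ), I.IsStrictlyGE a ∧ (∀ n : ℤ, Injective (ι.obj (I.X n))) ∧
      Nonempty (ι.mapDerivedCategory.obj (DerivedCategory.Q.obj I) ≅ Z) := by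
  obtain ⟨L, _, ⟨eZ⟩⟩ := DerivedCategory.exists_iso_Q_obj_of_isGE Z a
  have hH : ∀ i, ι.essImage (L.homology i) := fun i => by
    obtain ⟨h₀, ⟨eh⟩⟩ := hZ i
    exact ⟨h₀, ⟨eh ≪≫ (DerivedCategory.homologyFunctor A i).mapIso eZ ≪≫
      (DerivedCategory.homologyFunctorFactors A i).app L⟩⟩
  obtain ⟨I, f, hI, hinjI, hf⟩ := exists_resolution ι L a hext hinj hH
  exact ⟨I, hI, hinjI, ⟨ι.mapDerivedCategoryFactors.app I ≪≫
    (asIso (DerivedCategory.Q.map f)).symm ≪≫ eZ.symm⟩⟩

end Groth.CohTwo.EssResolution
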