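import Groth.Agent.CohTwo.ExchangeFibre

/-!
Exchange properties read off the finite free complex.
-/

universe u

open CategoryTheory Limits AlgebraicGeometry

namespace Groth.CohTwo.IsFibreModel

open Groth.CohBase CxRank

variable {A : Type u} [CommRing A] {X : Scheme.{u}} [X.Over (Spec (CommRingCat.of A))]
  {F : X.Modules} {L : CochainComplex (ModuleCat.{u} A) ℤ} (hL : IsFibreModel A X F L)

include hL

lemma epi_iff_TFun (p : ℕ) :
    (CohIII.tensorAFunctor A F ⋙ CohIII.HAb X p).PreservesEpimorphisms ↔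
      (CohIII.TFun L (p : ℤ)).PreservesEpimorphisms := by
  obtain ⟨e⟩ := hL.tensor p
  rw [← Functor.PreservesEpimorphisms.iso_iff e]
  exact ⟨fun _ => Functor.preservesEpimorphisms_of_preserves_of_reflects _
      (forget₂ (ModuleCat.{u} A) AddCommGrpCat.{u}), fun _ => inferInstance⟩

lemma mono_iff_TFun (p : ℕ) :
    (CohIII.tensorAFunctor A F ⋙ CohIII.HAb X p).PreservesMonomorphisms ↔
      (CohIII.TFun L (p : ℤ)).PreservesMonomorphisms := by
  obtain ⟨e⟩ := hL.tensor p
  rw [← Functor.PreservesMonomorphisms.iso_iff e]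
  exact ⟨fun _ => Functor.preservesMonomorphisms_of_preserves_of_reflects _
      (forget₂ (ModuleCat.{u} A) AddCommGrpCat.{u}), fun _ => inferInstance⟩

lemma epi_iff_flat (p : ℕ) :
    (CohIII.tensorAFunctor A F ⋙ CohIII.HAb X p).PreservesEpimorphisms ↔
      Module.Flat A (Qc L ((p : ℤ) + 1)) := by
  have := hL.flat
  rw [hL.epi_iff_TFun, CxExch.epi_iff_flat]
  have e : Qc L ((p : ℤ) + 1) ≃ₗ[A] FlatCxBase.Coker L (p : ℤ) ((p : ℤ) + 1) :=
    Submodule.quotEquivOfEq _ _ (by rw [show (p : ℤ) + 1 - 1 = p by ring])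
  exact Module.Flat.equiv_iff e.symm

lemma mono_iff_flat (p : ℕ) :
    (CohIII.tensorAFunctor A F ⋙ CohIII.HAb X p).PreservesMonomorphisms ↔
      Module.Flat A (Qc L (p : ℤ)) := by
  have := hL.flat
  rw [hL.mono_iff_TFun]
  have h := CxExch.mono_iff_flat L ((p : ℤ) - 1)
  rw [sub_add_cancel] at h
  exact h

lemma flat_Qc_zero : Module.Flat A (Qc L 0) := by
  have := hL.flat
  exact flat_Qc_succ_of_isZero L (-1) fun M => hL.isZero_neg (-1) (by omega) M

lemma flat_Qc_of_fiberRank [IsNoetherianRing A] [IsReduced A] (p : ℕ)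
    (hc : IsLocallyConstant (CohIII.fiberRank (X ↘ Spec (CommRingCat.of A)) F p)) :
    Module.Flat A (Qc L (p : ℤ)) ∧ Module.Flat A (Qc L ((p : ℤ) + 1)) := by
  have := hL.flat
  have := hL.finite
  refine flat_of_isLocallyConstant L _ ?_
  have e : (fun x : PrimeSpectrum A => Module.finrank x.asIdeal.ResidueField
      (LinearMap.ker ((dq L (p : ℤ)).baseChange x.asIdeal.ResidueField))) =
      CohIII.fiberRank (X ↘ Spec (CommRingCat.of A)) F p :=
    funext fun x => (hL.fiberRank_eq p x x.asIdeal.ResidueField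
      (Ideal.ker_algebraMap_residueField _)).symm
  rw [e]
  exact hc

end Groth.CohTwo.IsFibreModel
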