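import Groth.Agent.CohTwo.ExtShSections
import Groth.Agent.LocCohBase.DepthLocal
import Groth.Agent.LocCohZBase.AffineDepth
import Groth.Agent.QCohMod.Affine
import Groth.Agent.QCohMod.Stalk

/-!
Vanishing of Ext sheaves and depths of stalks.
-/

universe u

open CategoryTheory CategoryTheory.Limits AlgebraicGeometry Opposite

set_option backward.isDefEq.respectTransparency false
set_option linter.style.haveILetI false

namespace Groth.CohTwo.ExtShDepth

variable {X : Scheme.{u}}

/-- A quasi-coherent module vanishes iff its sections over all affine opens vanish. -/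
theorem isZero_iff_forall_subsingleton (E : X.Modules) [E.IsQuasicoherent] :
    IsZero E ↔ ∀ U : X.Opens, IsAffineOpen U → Subsingleton Γ(E, U) := by
  refine ⟨fun h U _ => ?_, fun h => ?_⟩
  · exact AddCommGrpCat.subsingleton_of_isZero
      (((SheafOfModules.toSheaf _ ⋙ sheafToPresheaf _ _).map_isZero h).obj (op U))
  · rw [QCohMod.isZero_iff_support_eq_empty]
    refine Set.eq_empty_of_forall_notMem fun x hx => ?_
    obtain ⟨U, hU, hxU, -⟩ :=
      X.isBasis_affineOpens.exists_subset_of_mem_open (Set.mem_univ x) isOpen_univ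
    obtain ⟨U, hU, rfl⟩ := hU
    have hp := (QCohMod.mem_support_iff E hU x hxU).1 hx
    haveI := h U hU
    rw [Module.support_eq_empty] at hp
    exact hp

variable [IsLocallyNoetherian X]

/-- Vanishing of Ext sheaves from the depths of the stalks on the support. -/
theorem isZero_extSh_of_depth (G F : X.Modules) (hG : Coh.IsCoh G) (hF : Coh.IsCoh F)
    [ModSite.HasSheafHom (O := X.sheaf) G] [HasInjectiveResolutions (ModSite.Mod X.sheaf)] (n : ℕ)
    (h : ∀ x ∈ CohB1.support G,
      (n : ℕ∞) ≤ LocCoh.depth (X.presheaf.stalk x) (F.presheaf.stalk x))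
    (i : ℕ) (hi : i < n) : IsZero (SheafExt.extObj G i F) := by
  haveI := (SheafExt.isCoh_extSh G F hG hF i).1
  haveI := hF.1
  haveI := hG.1
  refine (isZero_iff_forall_subsingleton _).2 fun U hU => ?_
  haveI : IsNoetherianRing Γ(X, U) := IsLocallyNoetherian.component_noetherian ⟨U, hU⟩
  haveI := QCohMod.finite_sections F hF.2 hU
  haveI := QCohMod.finite_sections G hG.2 hU
  obtain ⟨e⟩ := ExtShSec.nonempty_sections_extSh G F hG hU i
  refine @Equiv.subsingleton _ _ e.toEquiv ?_
  refine LocCohBase.ext_subsingleton_of_le_idealDepth (I := Module.annihilator Γ(X, U) Γ(G, U))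
    (ModuleCat.of Γ(X, U) Γ(F, U)) (ModuleCat.of Γ(X, U) Γ(G, U)) Ideal.le_radical ?_ hi
  refine LocCohBase.le_idealDepth_of_forall_depth _ n _ fun p hp hle => ?_
  obtain ⟨⟨x, hx⟩, hxp⟩ :=
    (Scheme.Hom.homeomorph hU.isoSpec.hom).surjective (⟨p, hp⟩ : PrimeSpectrum Γ(X, U))
  obtain rfl : (hU.primeIdealOf ⟨x, hx⟩).asIdeal = p := congrArg PrimeSpectrum.asIdeal hxp
  have hxG : x ∈ CohB1.support G := by
    rw [QCohMod.mem_support_iff G hU x hx, Module.support_eq_zeroLocus]
    exact hle
  exact (h x hxG).trans_eq (LocCohZBase.depth_stalk_eq F hU x hx)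

/-- Lower bound for depths of stalks on the support from vanishing of Ext sheaves. -/
theorem le_depth_of_isZero_extSh (G F : X.Modules) (hG : Coh.IsCoh G) (hF : Coh.IsCoh F)
    [ModSite.HasSheafHom (O := X.sheaf) G] [HasInjectiveResolutions (ModSite.Mod X.sheaf)] (n : ℕ)
    (h : ∀ i < n, IsZero (SheafExt.extObj G i F)) {x : X} (hx : x ∈ CohB1.support G) :
    (n : ℕ∞) ≤ LocCoh.depth (X.presheaf.stalk x) (F.presheaf.stalk x) := by
  haveI := hF.1
  haveI := hG.1
  obtain ⟨U, hU, hxU, -⟩ :=
    X.isBasis_affineOpens.exists_subset_of_mem_open (Set.mem_univ x) isOpen_univ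
  obtain ⟨U, hU, rfl⟩ := hU
  haveI : IsNoetherianRing Γ(X, U) := IsLocallyNoetherian.component_noetherian ⟨U, hU⟩
  haveI := QCohMod.finite_sections F hF.2 hU
  haveI := QCohMod.finite_sections G hG.2 hU
  rw [LocCohZBase.depth_stalk_eq F hU x hxU]
  refine le_trans ?_ (LocCohBase.idealDepth_le_depth_localized
    (Module.annihilator Γ(X, U) Γ(G, U)) _ ?_ _)
  · refine LocCohBase.le_idealDepth_of_ext (ModuleCat.of Γ(X, U) Γ(F, U))
      (ModuleCat.of Γ(X, U) Γ(G, U)) Module.support_eq_zeroLocus fun i hi => ?_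
    haveI := (SheafExt.isCoh_extSh G F hG hF i).1
    obtain ⟨e⟩ := ExtShSec.nonempty_sections_extSh G F hG hU i
    exact @Equiv.subsingleton _ _ e.symm.toEquiv
      ((isZero_iff_forall_subsingleton _).1 (h i hi) U hU)
  · have := (QCohMod.mem_support_iff G hU x hxU).1 hx
    rwa [Module.support_eq_zeroLocus] at this

end Groth.CohTwo.ExtShDepth
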