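import Groth.Agent.SheafExt.Coherent
import Groth.Agent.QCohMod.Category

/-!
Sections of Ext sheaves of coherent modules on affine opens.
-/

universe u

open CategoryTheory CategoryTheory.Limits AlgebraicGeometry Opposite

set_option backward.isDefEq.respectTransparency false
set_option linter.style.haveILetI false

namespace Groth.CohTwo.ExtShSec

variable {X : Scheme.{u}}

/-- Sections over an affine open as global sections of the restriction to its spectrum. -/
noncomputable def topLin {U : X.Opens} (hU : IsAffineOpen U) (M : X.Modules) :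
    (moduleSpecΓFunctor (R := Γ(X, U))).obj (M.restrict hU.fromSpec) ≃ₗ[Γ(X, U)] Γ(M, U) :=
  { QCohMod.topEquiv hU M with
    map_smul' := fun r y => by
      change QCohMod.topEquiv hU M (r • y) = r • QCohMod.topEquiv hU M y
      simp only [QCohMod.topEquiv]
      rw [QCohMod.secEquiv_smul hU M ⊤ _ le_rfl, QCohMod.resFun_self] }

/-- Transport of Ext along isomorphisms in both variables. -/
noncomputable def extCongr {R : Type u} [CommRing R] {M M' N N' : ModuleCat.{u} R}
    (eM : M ≅ M') (eN : N ≅ N') (i : ℕ) :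
    Abelian.Ext M N i ≃ₗ[R] Abelian.Ext M' N' i :=
  LinearEquiv.ofLinear
    ((Abelian.Ext.postcompOfLinear (Abelian.Ext.mk₀ eN.hom) R M' (add_zero i)).comp
      (Abelian.Ext.precompOfLinear (Abelian.Ext.mk₀ eM.inv) R N (zero_add i)))
    ((Abelian.Ext.postcompOfLinear (Abelian.Ext.mk₀ eN.inv) R M (add_zero i)).comp
      (Abelian.Ext.precompOfLinear (Abelian.Ext.mk₀ eM.hom) R N' (zero_add i)))
    (by ext α; simp)
    (by ext α; simp)

/-- Sections of an Ext sheaf over an affine open are the Ext module of sections. -/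
theorem nonempty_sections_extSh [IsLocallyNoetherian X] (F G : X.Modules) (hF : Coh.IsCoh F)
    [G.IsQuasicoherent] [ModSite.HasSheafHom (O := X.sheaf) F]
    [HasInjectiveResolutions (ModSite.Mod X.sheaf)] {U : X.Opens} (hU : IsAffineOpen U) (i : ℕ) :
    Nonempty (Γ(SheafExt.extObj F i G, U) ≃ₗ[Γ(X, U)]
      Abelian.Ext (ModuleCat.of Γ(X, U) Γ(F, U)) (ModuleCat.of Γ(X, U) Γ(G, U)) i) := by
  obtain ⟨e⟩ := SheafExt.nonempty_extSh_restrict_fromSpec F G hF hU i
  exact ⟨(topLin hU _).symm ≪≫ₗ
    ((moduleSpecΓFunctor.mapIso e) ≪≫ (tilde.isoTop _).symm).toLinearEquiv ≪≫ₗ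
    extCongr (topLin hU F).toModuleIso (topLin hU G).toModuleIso i⟩

end Groth.CohTwo.ExtShSec
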