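import Groth.Agent.LocCohZBase.ExtDerived
import Mathlib.Algebra.Category.ModuleCat.Ext.Finite
import Mathlib.CategoryTheory.Linear.Yoneda
import Mathlib.Algebra.Category.ModuleCat.EnoughInjectives
import Mathlib.CategoryTheory.Abelian.Injective.Resolution
import Mathlib.RingTheory.Filtration

/-!
Derived functors of `Γ_a Hom(M, -)` on finite modules over a Noetherian ring.
-/

universe u

open CategoryTheory CategoryTheory.Limits Opposite

set_option backward.isDefEq.respectTransparency false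
set_option linter.style.haveILetI false

namespace Groth.CohTwo.GammaExt

variable {R : Type u} [CommRing R] (a : Ideal R)

/-- The elements killed by a power of an ideal. -/
def tors (P : Type u) [AddCommGroup P] [Module R P] : Submodule R P where
  carrier := {x | ∃ n : ℕ, ∀ r ∈ a ^ n, r • x = 0}
  add_mem' {x y} hx hy := by
    obtain ⟨n, hn⟩ := hx
    obtain ⟨m, hm⟩ := hy
    exact ⟨max n m, fun r hr => by
      rw [smul_add, hn r (Ideal.pow_le_pow_right (le_max_left n m) hr),
        hm r (Ideal.pow_le_pow_right (le_max_right n m) hr), add_zero]⟩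
  zero_mem' := ⟨0, fun r _ => smul_zero r⟩
  smul_mem' c x hx := by
    obtain ⟨n, hn⟩ := hx
    exact ⟨n, fun r hr => by rw [smul_comm, hn r hr, smul_zero]⟩

theorem mem_tors {P : Type u} [AddCommGroup P] [Module R P] {x : P} :
    x ∈ tors a P ↔ ∃ n : ℕ, ∀ r ∈ a ^ n, r • x = 0 := Iff.rfl

/-- A finite submodule of torsion elements is killed by one power of the ideal. -/
theorem exists_pow_of_fg {P : Type u} [AddCommGroup P] [Module R P] {S : Submodule R P} (hS : S.FG)
    (h : S ≤ tors a P) : ∃ n : ℕ, ∀ r ∈ a ^ n, ∀ x ∈ S, r • x = 0 := by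
  classical
  obtain ⟨s, rfl⟩ := hS
  have hs : ∀ x ∈ s, ∃ n : ℕ, ∀ r ∈ a ^ n, r • x = 0 := fun x hx => h (Submodule.subset_span hx)
  choose! n hn using hs
  refine ⟨s.sup n, fun r hr x hx => ?_⟩
  induction hx using Submodule.span_induction with
  | mem y hy => exact hn y hy r (Ideal.pow_le_pow_right (Finset.le_sup hy) hr)
  | zero => exact smul_zero _
  | add y z _ _ hy hz => rw [smul_add, hy, hz, add_zero]
  | smul c y _ hy => rw [smul_comm, hy, smul_zero]

/-- The quotient by a power of the ideal. -/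
noncomputable abbrev quotPow (M : ModuleCat.{u} R) (k : ℕ) : ModuleCat.{u} R :=
  ModuleCat.of R (M ⧸ (a ^ k • (⊤ : Submodule R M)))

/-- The quotient by the torsion. -/
noncomputable abbrev quotTors (M : ModuleCat.{u} R) : ModuleCat.{u} R :=
  ModuleCat.of R (M ⧸ tors a M)

variable {N : ModuleCat.{u} R} (J : InjectiveResolution N)

/-- A vanishing class is a coboundary. -/
theorem exists_of_extMk_eq_zero {Q : ModuleCat.{u} R} {i : ℕ} (f : Q ⟶ J.cocomplex.X i)
    (hf : f ≫ J.cocomplex.d i (i + 1) = 0) (h0 : J.extMk f (i + 1) rfl hf = 0) :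
    ∃ h : Q ⟶ J.cocomplex.X ((ComplexShape.up ℕ).prev i),
      h ≫ J.cocomplex.d ((ComplexShape.up ℕ).prev i) i = f := by
  cases i with
  | zero => exact ⟨0, by rw [(SiteCohomology.extMk_zero_eq_zero_iff J f hf).1 h0, zero_comp]⟩
  | succ p =>
    rw [CochainComplex.prev_nat_succ]
    exact (J.extMk_eq_zero_iff f _ rfl hf p rfl).1 h0

theorem extMk_smul {Q : ModuleCat.{u} R} {i : ℕ} (r : R) (f : Q ⟶ J.cocomplex.X i)
    (hf : f ≫ J.cocomplex.d i (i + 1) = 0) :
    J.extMk (r • f) (i + 1) rfl (by rw [Linear.smul_comp, hf, smul_zero]) =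
      r • J.extMk f (i + 1) rfl hf := by
  have e : r • J.extMk f (i + 1) rfl hf =
      (Abelian.Ext.mk₀ (r • 𝟙 Q)).comp (J.extMk f (i + 1) rfl hf) (zero_add i) := by
    rw [Abelian.Ext.mk₀_smul, Abelian.Ext.smul_comp, Abelian.Ext.mk₀_id_comp]
  rw [e, InjectiveResolution.mk₀_comp_extMk]
  refine LocCohZBase.ExtDerived.extMk_congr J (i + 1) rfl ?_ _ _
  rw [Linear.smul_comp, Category.id_comp]

variable {J} {T : CochainComplex (ModuleCat.{u} R) ℕ} (ι : T ⟶ J.cocomplex)

/-- `Hom(M, T)`. -/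
noncomputable abbrev homT (M : ModuleCat.{u} R) (T : CochainComplex (ModuleCat.{u} R) ℕ) :
    CochainComplex (ModuleCat.{u} R) ℕ :=
  (((linearCoyoneda R (ModuleCat.{u} R)).obj (op M)).mapHomologicalComplex _).obj T

variable (hinj : ∀ j, Function.Injective (ι.f j).hom)
  (hrange : ∀ j, LinearMap.range (ι.f j).hom = tors a (J.cocomplex.X j))

include hinj in
theorem cancel_ι {Q : ModuleCat.{u} R} {j : ℕ} {f g : Q ⟶ T.X j} (h : f ≫ ι.f j = g ≫ ι.f j) :
    f = g :=
  ModuleCat.hom_ext (LinearMap.ext fun x => hinj j (congrArg (fun φ : Q ⟶ _ => φ.hom x) h))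

include hinj hrange in
/-- Maps killed by a power of the ideal land in the torsion complex. -/
theorem exists_lift {Q : ModuleCat.{u} R} {j : ℕ} (f : Q ⟶ J.cocomplex.X j)
    (hf : ∀ x, f.hom x ∈ tors a (J.cocomplex.X j)) :
    ∃ g : Q ⟶ T.X j, g ≫ ι.f j = f := by
  let e := LinearEquiv.ofInjective (ι.f j).hom (hinj j)
  refine ⟨ModuleCat.ofHom (e.symm.toLinearMap ∘ₗ
    LinearMap.codRestrict (LinearMap.range (ι.f j).hom) f.hom fun x => by
      rw [hrange j]; exact hf x), ModuleCat.hom_ext (LinearMap.ext fun x => ?_)⟩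
  exact congrArg Subtype.val (e.apply_symm_apply _)

include hinj hrange in
theorem smul_eq_zero_of_pow {j : ℕ} (k : ℕ) {Q : ModuleCat.{u} R} (g : Q ⟶ T.X j)
    (h : ∀ r ∈ a ^ k, ∀ x, r • (g ≫ ι.f j).hom x = 0) (x : Q)
    (hx : x ∈ a ^ k • (⊤ : Submodule R Q)) : g.hom x = 0 := by
  refine Submodule.smul_induction_on hx (fun r hr y _ => ?_) fun y z hy hz => ?_
  · refine hinj j ?_
    rw [map_smul, map_smul, map_zero]
    exact h r hr y
  · rw [map_add, hy, hz, add_zero]

variable (M : ModuleCat.{u} R) [Module.Finite R M] [IsNoetherianRing R]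

include hinj hrange in
/-- `Hom(M, T)` is exact where all the `Ext(M / a^k M, N)` vanish. -/
theorem exists_of_cocycle (i : ℕ) (h : ∀ k, Subsingleton (Abelian.Ext (quotPow a M k) N i))
    (f : M ⟶ T.X i) (hf : f ≫ T.d i (i + 1) = 0) :
    ∃ g : M ⟶ T.X ((ComplexShape.up ℕ).prev i), g ≫ T.d ((ComplexShape.up ℕ).prev i) i = f := by
  obtain ⟨k, hk⟩ := exists_pow_of_fg a (S := LinearMap.range (f ≫ ι.f i).hom)
    ((IsNoetherian.noetherian (⊤ : Submodule R M)).map (f ≫ ι.f i).hom |> fun e => by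
      rwa [LinearMap.range_eq_map]) (by
      rintro _ ⟨x, rfl⟩
      rw [← hrange i]
      exact ⟨f.hom x, rfl⟩)
  let π : M ⟶ quotPow a M k := ModuleCat.ofHom (Submodule.mkQ _)
  let f' : quotPow a M k ⟶ T.X i := ModuleCat.ofHom (Submodule.liftQ _ f.hom fun x hx =>
    LinearMap.mem_ker.2 (smul_eq_zero_of_pow a ι hinj hrange k f
      (fun r hr y => hk r hr _ ⟨y, rfl⟩) x hx))
  have hπ : π ≫ f' = f := ModuleCat.hom_ext (Submodule.liftQ_mkQ _ _ _)
  haveI : Epi π := (ModuleCat.epi_iff_surjective _).2 (Submodule.mkQ_surjective _)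
  have hf' : f' ≫ T.d i (i + 1) = 0 := by
    rw [← cancel_epi π, ← Category.assoc, hπ, hf, comp_zero]
  have hc : (f' ≫ ι.f i) ≫ J.cocomplex.d i (i + 1) = 0 := by
    rw [Category.assoc, ι.comm, ← Category.assoc, hf', zero_comp]
  obtain ⟨g, hg⟩ := exists_of_extMk_eq_zero J (f' ≫ ι.f i) hc (@Subsingleton.elim _ (h k) _ _)
  obtain ⟨g', hg'⟩ := exists_lift a ι hinj hrange g fun x => ⟨k, fun r hr => by
    rw [← map_smul]
    obtain ⟨y, rfl⟩ := Submodule.mkQ_surjective _ x
    rw [← map_smul, Submodule.mkQ_apply, (Submodule.Quotient.mk_eq_zero _).2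
      (Submodule.smul_mem_smul hr Submodule.mem_top), map_zero]⟩
  refine ⟨π ≫ g', ?_⟩
  rw [Category.assoc, ← hπ]
  congr 1
  refine cancel_ι ι hinj ?_
  rw [Category.assoc, ← ι.comm, ← Category.assoc, hg', hg]

include hinj hrange in
/-- Exactness of `Hom(M, T)`. -/
theorem exactAt (i : ℕ) (h : ∀ k, Subsingleton (Abelian.Ext (quotPow a M k) N i)) :
    (homT M T).ExactAt i := by
  rw [HomologicalComplex.exactAt_iff' _ _ i (i + 1) rfl (CochainComplex.next ℕ i),
    ShortComplex.moduleCat_exact_iff]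
  exact fun f hf => exists_of_cocycle a ι hinj hrange M i h f hf

include hinj hrange in
/-- Finiteness of the homology of `Hom(M, T)`. -/
theorem finite_homology [Module.Finite R N] (i : ℕ)
    (h : ∀ k, Subsingleton (Abelian.Ext (quotPow a (quotTors a M) k) N i)) :
    Module.Finite R ((homT M T).homology i) := by
  let D := homT M T
  let S := D.sc' ((ComplexShape.up ℕ).prev i) i (i + 1)
  suffices Module.Finite R S.homology from
    Module.Finite.equiv (D.isoSc' _ i (i + 1) rfl (CochainComplex.next ℕ i) |>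
      ShortComplex.homologyMapIso).symm.toLinearEquiv
  suffices Module.Finite R S.moduleCatLeftHomologyData.H from
    Module.Finite.equiv S.moduleCatHomologyIso.symm.toLinearEquiv
  let K : Submodule R M := tors a M
  let q : ModuleCat.of R K ⟶ M := ModuleCat.ofHom K.subtype
  have hcyc : ∀ z : LinearMap.ker S.g.hom,
      (q ≫ (show M ⟶ T.X i from z.1) ≫ ι.f i) ≫ J.cocomplex.d i (i + 1) = 0 := fun z => by
    have hz : (show M ⟶ T.X i from z.1) ≫ T.d i (i + 1) = 0 := z.2
    simp only [Category.assoc, ι.comm]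
    rw [← Category.assoc (show M ⟶ T.X i from z.1), hz, zero_comp, comp_zero]
  let ψ : LinearMap.ker S.g.hom →ₗ[R] Abelian.Ext (ModuleCat.of R K) N i :=
    { toFun := fun z => J.extMk (q ≫ (show M ⟶ T.X i from z.1) ≫ ι.f i) (i + 1) rfl (hcyc z)
      map_add' := fun z w => by
        rw [InjectiveResolution.add_extMk]
        refine LocCohZBase.ExtDerived.extMk_congr J (i + 1) rfl ?_ _ _
        rw [← Preadditive.comp_add, ← Preadditive.add_comp]
        rfl
      map_smul' := fun r z => by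
        rw [RingHom.id_apply, ← extMk_smul J r _ (hcyc z)]
        refine LocCohZBase.ExtDerived.extMk_congr J (i + 1) rfl ?_ _ _
        rw [← Linear.comp_smul, ← Linear.smul_comp]
        rfl }
  have hker : LinearMap.ker ψ ≤ LinearMap.range S.moduleCatToCycles := by
    intro z hz
    let f : M ⟶ T.X i := z.1
    have hf : f ≫ T.d i (i + 1) = 0 := z.2
    obtain ⟨g, hg⟩ := exists_of_extMk_eq_zero J _ (hcyc z) (LinearMap.mem_ker.1 hz)
    obtain ⟨l, hl⟩ := exists_pow_of_fg a (S := K) (IsNoetherian.noetherian _) le_rfl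
    obtain ⟨k₀, hk₀⟩ := Ideal.exists_pow_inf_eq_pow_smul a K
    have hinf : a ^ (k₀ + l) • (⊤ : Submodule R M) ⊓ K = ⊥ := by
      rw [hk₀ _ (Nat.le_add_right _ _), Nat.add_sub_cancel_left, eq_bot_iff]
      refine Submodule.smul_le.2 fun r hr x hx => ?_
      rw [Submodule.mem_bot]
      exact hl r hr x hx.2
    let π : M ⟶ quotPow a M (k₀ + l) := ModuleCat.ofHom (Submodule.mkQ _)
    haveI : Mono (q ≫ π) := (ModuleCat.mono_iff_injective _).2
      ((injective_iff_map_eq_zero _).2 fun x hx => by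
        have : x.1 ∈ a ^ (k₀ + l) • (⊤ : Submodule R M) ⊓ K :=
          ⟨(Submodule.Quotient.mk_eq_zero _).1 hx, x.2⟩
        rw [hinf, Submodule.mem_bot] at this
        exact Subtype.ext this)
    haveI := J.injective ((ComplexShape.up ℕ).prev i)
    let g₁ := Injective.factorThru g (q ≫ π)
    have hg₁ : q ≫ π ≫ g₁ = g := by
      rw [← Category.assoc]; exact Injective.comp_factorThru g (q ≫ π)
    obtain ⟨g₂, hg₂⟩ := exists_lift a ι hinj hrange (π ≫ g₁) fun x => ⟨k₀ + l, fun r hr => by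
      rw [← map_smul]
      change g₁.hom (Submodule.mkQ _ (r • x)) = 0
      rw [Submodule.mkQ_apply, (Submodule.Quotient.mk_eq_zero _).2
        (Submodule.smul_mem_smul hr Submodule.mem_top), map_zero]⟩
    let f₁ : M ⟶ T.X i := f - g₂ ≫ T.d _ i
    have hq : q ≫ f₁ = 0 := by
      refine cancel_ι ι hinj ?_
      rw [zero_comp, Preadditive.comp_sub, Preadditive.sub_comp, sub_eq_zero]
      simp only [Category.assoc]
      rw [← ι.comm, ← Category.assoc g₂, hg₂, ← hg, ← hg₁]
      simp only [Category.assoc]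
    let p : M ⟶ quotTors a M := ModuleCat.ofHom (Submodule.mkQ _)
    let f₂ : quotTors a M ⟶ T.X i := ModuleCat.ofHom (Submodule.liftQ _ f₁.hom fun x hx =>
      LinearMap.mem_ker.2 (congrArg (fun φ : ModuleCat.of R K ⟶ T.X i => φ.hom ⟨x, hx⟩) hq))
    have hp : p ≫ f₂ = f₁ := ModuleCat.hom_ext (Submodule.liftQ_mkQ _ _ _)
    haveI : Epi p := (ModuleCat.epi_iff_surjective _).2 (Submodule.mkQ_surjective _)
    have hf₂ : f₂ ≫ T.d i (i + 1) = 0 := by
      rw [← cancel_epi p, ← Category.assoc, hp, Preadditive.sub_comp, hf, Category.assoc,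
        T.d_comp_d, comp_zero, sub_zero, comp_zero]
    obtain ⟨g₃, hg₃⟩ := exists_of_cocycle a ι hinj hrange (quotTors a M) i h f₂ hf₂
    refine ⟨g₂ + p ≫ g₃, Subtype.ext ?_⟩
    change (g₂ + p ≫ g₃) ≫ T.d _ i = f
    rw [Preadditive.add_comp, Category.assoc, hg₃, hp, add_sub_cancel]
  haveI : Module.Finite R (LinearMap.ker S.g.hom ⧸ LinearMap.ker ψ) :=
    Module.Finite.equiv ψ.quotKerEquivRange.symm
  exact Module.Finite.of_surjective (Submodule.factor hker)
    (Submodule.factor_surjective hker)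

end Groth.CohTwo.GammaExt
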