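import Groth.Agent.CohTwo.GammaQCoh
import Groth.Agent.CohTwo.InjectiveQCoh
import Groth.Agent.CohTwo.GammaExtAlg
import Groth.Agent.LocCohZBase.GammaHom
import Groth.Agent.SheafExt.Coherent
import Groth.Agent.SheafExt.TildeHom

/-!
Ext sheaves with supports of tilde modules on a Noetherian affine scheme.
-/

universe u

open CategoryTheory CategoryTheory.Limits AlgebraicGeometry TopologicalSpace Opposite

set_option backward.isDefEq.respectTransparency false
set_option linter.style.haveILetI false

namespace Groth.CohTwo.ExtZ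

open Groth.CohTwo.GammaSh (gam gι opensIdeal)

variable {X : Scheme.{u}}

/-- The Ext sheaf with supports as an object of `X.Modules`. -/
noncomputable abbrev extZObj (U : X.Opens) (F : X.Modules) [ModSite.HasSheafHom (O := X.sheaf) F]
    [HasInjectiveResolutions (ModSite.Mod X.sheaf)] (i : ℕ) (G : X.Modules) : X.Modules :=
  (ModSite.extZSh (O := X.sheaf) U F i).obj G

section Affine

variable {R : CommRingCat.{u}}

open Groth.SheafExt.Affine

theorem psi_naturality_right (M : ModuleCat.{u} R)
    [ModSite.HasSheafHom (O := (Spec R).sheaf) (tilde M)] {N N' : ModuleCat.{u} R} (g : N ⟶ N') :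
    psi N M ≫ (sH (tilde M)).map (tilde.map g) =
      tilde.map (((linearCoyoneda R (ModuleCat.{u} R)).obj (op M)).map g) ≫ psi N' M := by
  rw [psi, psi]
  refine ((tilde.adjunction (R := R)).homEquiv_naturality_right_symm _ _).symm.trans ?_
  refine Eq.trans ?_ ((tilde.adjunction (R := R)).homEquiv_naturality_left_symm _ _)
  congr 1
  refine ModuleCat.hom_ext (LinearMap.ext fun φ => ?_)
  refine congrArg (fun x => Scheme.Modules.Hom.app x ⊤ (PicAux.oneSec (Spec R) ⊤))
    (?_ : toUnitHom N M φ ≫ (sH (tilde M)).map (tilde.map g) = toUnitHom N' M (φ ≫ g))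
  rw [toUnitHom, toUnitHom, ← Adjunction.homEquiv_naturality_right, Category.assoc]
  congr 2
  exact ((tilde.functor R).map_comp φ g).symm

/-- The ideal of the closed complement. -/
noncomputable abbrev suppIdeal (U : (Spec R).Opens) : Ideal R :=
  Ideal.comap (Scheme.ΓSpecIso R).inv.hom (opensIdeal U ⊤)

theorem mem_suppIdeal_pow_iff (U : (Spec R).Opens) (n : ℕ) (P : (Spec R).Modules)
    (x : Γ(P, ⊤)) :
    (∀ r ∈ opensIdeal U ⊤ ^ n, r • x = 0) ↔
      ∀ r ∈ suppIdeal U ^ n, (Scheme.ΓSpecIso R).inv r • x = 0 := by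
  have hs : Function.Surjective (Scheme.ΓSpecIso R).inv.hom :=
    (Scheme.ΓSpecIso R).symm.commRingCatIsoToRingEquiv.surjective
  have he : opensIdeal U ⊤ ^ n = (suppIdeal U ^ n).map (Scheme.ΓSpecIso R).inv.hom := by
    rw [Ideal.map_pow, Ideal.map_comap_of_surjective _ hs]
  rw [he]
  refine ⟨fun h r hr => h _ (Ideal.mem_map_of_mem _ hr), fun h r hr => ?_⟩
  obtain ⟨r', hr', rfl⟩ := (Ideal.mem_map_iff_of_surjective _ hs).1 hr
  exact h r' hr'

variable [IsNoetherianRing R]

/-- The torsion part of a module as sections with supports. -/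
noncomputable abbrev torF (U : (Spec R).Opens) : ModuleCat.{u} R ⥤ ModuleCat.{u} R :=
  tilde.functor R ⋙ gam U ⋙ moduleSpecΓFunctor

/-- Its inclusion. -/
noncomputable def torFι (U : (Spec R).Opens) : torF U ⟶ 𝟭 (ModuleCat.{u} R) where
  app P := moduleSpecΓFunctor.map (gι U (tilde P)) ≫ (tilde.toTildeΓNatIso.app P).inv
  naturality P P' g := by
    change moduleSpecΓFunctor.map ((gam U).map (tilde.map g)) ≫ _ = (_ ≫ _) ≫ g
    rw [← Category.assoc, ← Functor.map_comp]
    rw [show (gam U).map (tilde.map g) ≫ gι U (tilde P') = gι U (tilde P) ≫ tilde.map g from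
      (ModSite.sectOnι (Spec R).sheaf U).naturality (tilde.map g)]
    rw [Functor.map_comp, Category.assoc, Category.assoc]
    congr 1
    exact tilde.toTildeΓNatIso.inv.naturality g

theorem torFι_injective (U : (Spec R).Opens) (P : ModuleCat.{u} R) :
    Function.Injective ((torFι U).app P).hom := by
  haveI := GammaSh.mono_gι U (tilde P)
  intro x y h
  refine app_injective (gι U (tilde P)) ⊤ ?_
  exact (tilde.toTildeΓNatIso.app P).symm.toLinearEquiv.injective h

theorem range_torFι (U : (Spec R).Opens) (P : ModuleCat.{u} R) :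
    LinearMap.range ((torFι U).app P).hom = GammaExt.tors (suppIdeal U) P := by
  let e : moduleSpecΓFunctor.obj (tilde P) ≃ₗ[R] P :=
    (tilde.toTildeΓNatIso.app P).symm.toLinearEquiv
  have he : ∀ s : moduleSpecΓFunctor.obj (tilde P),
      res (tilde P) (inf_le_left : ⊤ ⊓ U ≤ ⊤) s = 0 ↔ e s ∈ GammaExt.tors (suppIdeal U) P := by
    intro s
    refine (GammaSh.res_eq_zero_iff_mem_tors U (tilde P) (isAffineOpen_top (Spec R)) s).trans ?_
    refine exists_congr fun n => (mem_suppIdeal_pow_iff U n (tilde P) s).trans ?_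
    refine forall₂_congr fun r _ => ?_
    change (r • s = 0) ↔ _
    rw [← map_smul, LinearEquiv.map_eq_zero_iff]
  apply le_antisymm
  · rintro _ ⟨x, rfl⟩
    exact (he _).1 (GammaSh.res_gι U (tilde P) ⊤ x)
  · intro m hm
    obtain ⟨x, hx⟩ := GammaSh.mem_range_gι U (tilde P) (W := ⊤) (s := e.symm m)
      ((he _).2 (by rwa [e.apply_symm_apply]))
    exact ⟨x, (congrArg e hx).trans (e.apply_symm_apply m)⟩

/-- Ext sheaves with supports of tilde modules are tilde of the homology of the torsion part of
`Hom` into an injective resolution. -/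
theorem exists_model (U : (Spec R).Opens) (M N : ModuleCat.{u} R) [hM : Module.Finite R M]
    [ModSite.HasSheafHom (O := (Spec R).sheaf) (tilde M)]
    [HasInjectiveResolutions (ModSite.Mod (Spec R).sheaf)] (i : ℕ) :
    ∃ (J : InjectiveResolution N) (T : CochainComplex (ModuleCat.{u} R) ℕ) (ι : T ⟶ J.cocomplex),
      (∀ j, Function.Injective (ι.f j).hom) ∧
      (∀ j, LinearMap.range (ι.f j).hom = GammaExt.tors (suppIdeal U) (J.cocomplex.X j)) ∧
      Nonempty (extZObj U (tilde M) i (tilde N) ≅
        tilde ((GammaExt.homT M T).homology i)) := by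
  haveI := PropsBasic2.preservesFiniteLimits_tilde R
  haveI := PropsBasic2.preservesFiniteColimits_tilde R
  haveI : HasInjectiveResolutions (Spec R).Modules :=
    ‹HasInjectiveResolutions (ModSite.Mod (Spec R).sheaf)›
  haveI : (gam U).Additive := ModSite.sectOn_additive (Spec R).sheaf U
  haveI : (moduleSpecΓFunctor (R := R)).Additive :=
    (tilde.adjunction (R := R)).right_adjoint_additive
  have hinj : ∀ I : ModuleCat.{u} R, Injective I → Injective (tilde I) := fun I hI =>
    haveI := hI
    haveI : Module.Injective R I := Module.injective_module_of_injective_object R I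
    InjQCoh.injective_tilde I
  haveI : (tilde.functor R).PreservesInjectiveObjects := ⟨fun {I} hI => hinj I hI⟩
  let Jt : InjectiveResolution (tilde N) := LocCohZBase.DerivedComp.res (tilde.functor R) N
  let T : CochainComplex (ModuleCat.{u} R) ℕ :=
    (moduleSpecΓFunctor.mapHomologicalComplex _).obj
      (((gam U).mapHomologicalComplex _).obj
        (((tilde.functor R).mapHomologicalComplex _).obj (injectiveResolution N).cocomplex))
  let ι : T ⟶ (injectiveResolution N).cocomplex :=
    { f := fun j => (torFι U).app ((injectiveResolution N).cocomplex.X j)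
      comm' := fun a b _ => ((torFι U).naturality ((injectiveResolution N).cocomplex.d a b)).symm }
  refine ⟨injectiveResolution N, T, ι, fun j => torFι_injective U _, fun j => range_torFι U _, ?_⟩
  let K : CochainComplex (Spec R).Modules ℕ := ((gam U).mapHomologicalComplex _).obj
        (((tilde.functor R).mapHomologicalComplex _).obj (injectiveResolution N).cocomplex)
  haveI : ∀ j, (K.X j).IsQuasicoherent := fun j => GammaSh.isQCoh_gam U (tilde _)
  let c₁ : ((tilde.functor R).mapHomologicalComplex _).obj T ≅ K :=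
    HomologicalComplex.Hom.isoOfComponents (fun j => asIso (K.X j).fromTildeΓ)
      (fun a b _ => ((Scheme.Modules.fromTildeΓNatTrans (R := R)).naturality (K.d a b)).symm)
  haveI : (sH (tilde M)).Additive := (adjH (tilde M)).right_adjoint_additive
  haveI : ∀ j, IsIso (psi (T.X j) M) := fun j => isIso_psi (T.X j) M
  let c₂ : ((tilde.functor R).mapHomologicalComplex _).obj (GammaExt.homT M T) ≅
      ((sH (tilde M)).mapHomologicalComplex _).obj
        (((tilde.functor R).mapHomologicalComplex _).obj T) :=
    HomologicalComplex.Hom.isoOfComponents (fun j => asIso (psi (T.X j) M))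
      (fun a b _ => psi_naturality_right M (T.d a b))
  let A : (Spec R).Modules ⥤ (Spec R).Modules := sH (tilde M) ⋙ gam U
  let B : (Spec R).Modules ⥤ (Spec R).Modules := gam U ⋙ sH (tilde M)
  haveI : A.Additive := inferInstance
  haveI : B.Additive := inferInstance
  let h : A ≅ B := (LocCohZBase.gammaHomIso (O := (Spec R).sheaf) U (tilde M)).symm
  exact ⟨(SitesTopoi.ModH.rightDerivedIso h i).app (tilde N) ≪≫ Jt.isoRightDerivedObj B i ≪≫
    (HomologicalComplex.homologyFunctor _ _ i).mapIso
      (LocCohZBase.DerivedComp.cxIso (gam U) (sH (tilde M)) Jt.cocomplex ≪≫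
        ((sH (tilde M)).mapHomologicalComplex _).mapIso c₁.symm ≪≫ c₂.symm) ≪≫
    ((GammaExt.homT M T).sc i).mapHomologyIso (tilde.functor R)⟩

end Affine

end Groth.CohTwo.ExtZ
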