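import Groth.Agent.CohTwo.ExtZChart
import Groth.Agent.CohTwo.RegularExtVanish
import Groth.Agent.CohTwo.ExtShSections
import Groth.Agent.LocCohZBase.AffineDepth

/-!
Coherence and vanishing of Ext sheaves with supports.
-/

universe u

open CategoryTheory CategoryTheory.Limits AlgebraicGeometry TopologicalSpace Opposite

set_option backward.isDefEq.respectTransparency false
set_option linter.style.haveILetI false

namespace Groth.CohTwo.ExtZ

open Groth.CohTwo.GammaSh (gam gι opensIdeal)

section Algebra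

variable {R : Type u} [CommRing R] {a : Ideal R} {M : ModuleCat.{u} R}

theorem support_quotPow [Module.Finite R M] {k : ℕ} {p : PrimeSpectrum R}
    (hp : p ∈ Module.support R (GammaExt.quotPow a M k)) :
    p ∈ Module.support R M ∧ a ≤ p.asIdeal := by
  refine ⟨Module.support_subset_of_surjective _ (Submodule.mkQ_surjective _) hp, ?_⟩
  have h : a ^ k ≤ p.asIdeal := by
    intro r hr
    refine Module.mem_support_iff_of_finite.1 hp (Module.mem_annihilator.2 fun x => ?_)
    obtain ⟨y, rfl⟩ := Submodule.mkQ_surjective _ x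
    rw [← map_smul, Submodule.mkQ_apply, Submodule.Quotient.mk_eq_zero]
    exact Submodule.smul_mem_smul hr Submodule.mem_top
  exact Ideal.IsPrime.le_of_pow_le h

theorem exists_of_support_quotTors [IsNoetherianRing R] [Module.Finite R M] {p : PrimeSpectrum R}
    (hp : p ∈ Module.support R (GammaExt.quotTors a M)) :
    ∃ q : PrimeSpectrum R, q ≤ p ∧ q ∈ Module.support R M ∧ ¬ a ≤ q.asIdeal := by
  obtain ⟨q, hq, hqp⟩ :=
    Ideal.exists_minimalPrimes_le (Module.mem_support_iff_of_finite.1 hp)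
  have hass := Module.associatedPrimes.minimalPrimes_annihilator_subset_associatedPrimes R _ hq
  haveI := hass.isPrime
  refine ⟨⟨q, hass.isPrime⟩, hqp, ?_, fun hle => ?_⟩
  · exact Module.support_subset_of_surjective _ (Submodule.mkQ_surjective (GammaExt.tors a M))
      (Module.mem_support_iff_of_finite.2 hq.1.2)
  obtain ⟨-, m, hm⟩ := isAssociatedPrime_iff.1 hass
  obtain ⟨y, rfl⟩ := Submodule.mkQ_surjective _ m
  have hy : ∀ r ∈ a, r • y ∈ GammaExt.tors a M := fun r hr => by
    have h1 := hle hr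
    change r ∈ q at h1
    rw [hm, Submodule.mem_colon_singleton, Submodule.mem_bot, ← map_smul,
      Submodule.mkQ_apply, Submodule.Quotient.mk_eq_zero] at h1
    exact h1
  obtain ⟨l, hl⟩ := GammaExt.exists_pow_of_fg a (S := GammaExt.tors a M)
    (IsNoetherian.noetherian _) le_rfl
  have hy' : y ∈ GammaExt.tors a M := ⟨l + 1, fun r hr => by
    rw [pow_succ] at hr
    refine Submodule.mul_induction_on hr (fun s hs t ht => ?_) fun s t hs ht => ?_
    · rw [mul_smul]; exact hl s hs _ (hy t ht)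
    · rw [add_smul, hs, ht, add_zero]⟩
  refine hass.isPrime.ne_top ?_
  rw [hm, Submodule.mkQ_apply, (Submodule.Quotient.mk_eq_zero _).2 hy']
  exact Ideal.eq_top_iff_one _ |>.2 (Submodule.mem_colon_singleton.2 (smul_zero _))

end Algebra

theorem suppIdeal_le_iff {R : CommRingCat.{u}} (W : (Spec R).Opens) (p : PrimeSpectrum R) :
    suppIdeal W ≤ p.asIdeal ↔ (show ↥(Spec R) from p) ∉ W := by
  have key : ∀ r : R, r ∈ suppIdeal W ↔ PrimeSpectrum.basicOpen r ≤ W := fun r => by
    rw [← basicOpen_eq_of_affine r]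
    rfl
  constructor
  · intro h hpW
    obtain ⟨-, ⟨r, rfl⟩, hpr, hrW⟩ :=
      PrimeSpectrum.isTopologicalBasis_basic_opens.exists_subset_of_mem_open hpW W.2
    exact hpr (h ((key r).2 hrW))
  · intro hp r hr
    by_contra hrp
    exact hp ((key r).1 hr hrp)

variable {X : Scheme.{u}}

theorem fromSpec_mem {V : X.Opens} (hV : IsAffineOpen V) (p : PrimeSpectrum Γ(X, V)) :
    hV.fromSpec p ∈ V := by
  have : hV.fromSpec p ∈ Set.range hV.fromSpec := ⟨p, rfl⟩
  rwa [hV.range_fromSpec] at this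

theorem primeIdealOf_fromSpec {V : X.Opens} (hV : IsAffineOpen V) (p : PrimeSpectrum Γ(X, V)) :
    hV.primeIdealOf ⟨hV.fromSpec p, fromSpec_mem hV p⟩ = p :=
  hV.fromSpec.isOpenEmbedding.injective (hV.fromSpec_primeIdealOf _)

theorem mem_support_chart (F : X.Modules) [F.IsQuasicoherent] {V : X.Opens} (hV : IsAffineOpen V)
    (p : PrimeSpectrum Γ(X, V))
    (hp : p ∈ Module.support Γ(X, V) (moduleSpecΓFunctor.obj (F.restrict hV.fromSpec))) :
    hV.fromSpec p ∈ CohB1.support F := by
  rw [QCohMod.mem_support_iff F hV _ (fromSpec_mem hV p), primeIdealOf_fromSpec,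
    ← (ExtShSec.topLin hV F).support_eq]
  exact hp

/-- Coherence from the vanishing of Ext groups of modules supported on the boundary. -/
theorem isCoh_extZSh_of_ext [IsLocallyNoetherian X] (U : X.Opens) (F G : X.Modules)
    (hF : Coh.IsCoh F) (hG : Coh.IsCoh G) [ModSite.HasSheafHom (O := X.sheaf) F]
    [HasInjectiveResolutions (ModSite.Mod X.sheaf)] (i : ℕ)
    (h : ∀ (V : X.Opens) (hV : IsAffineOpen V) (L : Type u) [AddCommGroup L] [Module Γ(X, V) L]
      [Module.Finite Γ(X, V) L],
      (∀ p ∈ Module.support Γ(X, V) L, hV.fromSpec p ∈ closure (CohB1.support F ∩ (U : Set X)) ∧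
        hV.fromSpec p ∉ (U : Set X)) →
      Subsingleton (Abelian.Ext (ModuleCat.of Γ(X, V) L) (ModuleCat.of Γ(X, V) Γ(G, V)) i)) :
    Coh.IsCoh (extZObj U F i G) := by
  haveI := hG.1
  refine isCoh_extZSh_of_finite U F G hF i fun V hV J T ι h₁ h₂ => ?_
  haveI : IsNoetherianRing Γ(X, V) := IsLocallyNoetherian.component_noetherian ⟨V, hV⟩
  haveI := hF.1
  haveI := SheafExt.finite_Γ_of_isCoh (SheafExt.isCoh_restrictFunctor hV.fromSpec hF)
  haveI := SheafExt.finite_Γ_of_isCoh (SheafExt.isCoh_restrictFunctor hV.fromSpec hG)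
  refine GammaExt.finite_homology _ ι h₁ h₂ _ i fun k => ?_
  have hsub := h V hV (GammaExt.quotPow (suppIdeal (hV.fromSpec ⁻¹ᵁ U))
    (GammaExt.quotTors (suppIdeal (hV.fromSpec ⁻¹ᵁ U))
      (moduleSpecΓFunctor.obj (F.restrict hV.fromSpec))) k) fun p hp => by
    obtain ⟨hpM, hpa⟩ := support_quotPow hp
    obtain ⟨q, hqp, hqM, hqa⟩ := exists_of_support_quotTors hpM
    refine ⟨?_, (suppIdeal_le_iff _ p).1 hpa⟩
    have hspec : (show ↥(Spec Γ(X, V)) from q) ⤳ (show ↥(Spec Γ(X, V)) from p) :=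
      (PrimeSpectrum.le_iff_specializes q p).1 hqp
    refine (hspec.map hV.fromSpec.continuous).mem_closed isClosed_closure
      (subset_closure ⟨mem_support_chart F hV q hqM, ?_⟩)
    by_contra hqU
    exact hqa ((suppIdeal_le_iff _ q).2 hqU)
  exact (ExtShSec.extCongr (Iso.refl _) (ExtShSec.topLin hV G).toModuleIso i).toEquiv.subsingleton

/-- Vanishing from the vanishing of Ext groups of modules supported on the closed set. -/
theorem isZero_extZSh_of_ext [IsLocallyNoetherian X] (U : X.Opens) (F G : X.Modules)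
    (hF : Coh.IsCoh F) [G.IsQuasicoherent] [ModSite.HasSheafHom (O := X.sheaf) F]
    [HasInjectiveResolutions (ModSite.Mod X.sheaf)] (i : ℕ)
    (h : ∀ (V : X.Opens) (hV : IsAffineOpen V) (L : Type u) [AddCommGroup L] [Module Γ(X, V) L]
      [Module.Finite Γ(X, V) L],
      (∀ p ∈ Module.support Γ(X, V) L, hV.fromSpec p ∈ CohB1.support F ∧
        hV.fromSpec p ∉ (U : Set X)) →
      Subsingleton (Abelian.Ext (ModuleCat.of Γ(X, V) L) (ModuleCat.of Γ(X, V) Γ(G, V)) i)) :
    IsZero (extZObj U F i G) := by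
  refine isZero_extZSh_of_exactAt U F G hF i fun V hV J T ι h₁ h₂ => ?_
  haveI : IsNoetherianRing Γ(X, V) := IsLocallyNoetherian.component_noetherian ⟨V, hV⟩
  haveI := hF.1
  haveI := SheafExt.finite_Γ_of_isCoh (SheafExt.isCoh_restrictFunctor hV.fromSpec hF)
  refine GammaExt.exactAt _ ι h₁ h₂ _ i fun k => ?_
  have hsub := h V hV (GammaExt.quotPow (suppIdeal (hV.fromSpec ⁻¹ᵁ U))
    (moduleSpecΓFunctor.obj (F.restrict hV.fromSpec)) k) fun p hp => by
    obtain ⟨hpM, hpa⟩ := support_quotPow hp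
    exact ⟨mem_support_chart F hV p hpM, (suppIdeal_le_iff _ p).1 hpa⟩
  exact (ExtShSec.extCongr (Iso.refl _) (ExtShSec.topLin hV G).toModuleIso i).toEquiv.subsingleton

/-- Ext vanishing below the depths of the stalks. -/
theorem subsingleton_ext_of_depth [IsLocallyNoetherian X] (G : X.Modules) (hG : Coh.IsCoh G)
    {V : X.Opens} (hV : IsAffineOpen V) (L : Type u) [AddCommGroup L] [Module Γ(X, V) L]
    [Module.Finite Γ(X, V) L] {n i : ℕ} (hi : i < n)
    (h : ∀ p ∈ Module.support Γ(X, V) L, (n : ℕ∞) ≤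
      LocCoh.depth (X.presheaf.stalk (hV.fromSpec p)) (G.presheaf.stalk (hV.fromSpec p))) :
    Subsingleton (Abelian.Ext (ModuleCat.of Γ(X, V) L) (ModuleCat.of Γ(X, V) Γ(G, V)) i) := by
  haveI : IsNoetherianRing Γ(X, V) := IsLocallyNoetherian.component_noetherian ⟨V, hV⟩
  haveI := hG.1
  haveI := QCohMod.finite_sections G hG.2 hV
  refine LocCohBase.ext_subsingleton_of_le_idealDepth (I := Module.annihilator Γ(X, V) L)
    (ModuleCat.of Γ(X, V) Γ(G, V)) (ModuleCat.of Γ(X, V) L) Ideal.le_radical ?_ hi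
  refine LocCohBase.le_idealDepth_of_forall_depth _ n _ fun p hp hle => ?_
  have h1 := h ⟨p, hp⟩ (Module.mem_support_iff_of_finite.2 hle)
  rw [LocCohZBase.depth_stalk_eq G hV _ (fromSpec_mem hV ⟨p, hp⟩), primeIdealOf_fromSpec] at h1
  exact h1

/-- The local ring at a point of an affine open as a localisation of the sections. -/
theorem localization_of_stalk {V : X.Opens} (hV : IsAffineOpen V) (p : PrimeSpectrum Γ(X, V)) :
    (ringKrullDim (X.presheaf.stalk (hV.fromSpec p)) = p.asIdeal.height) ∧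
      (IsRegularLocalRing (X.presheaf.stalk (hV.fromSpec p)) →
        IsRegularLocalRing (Localization.AtPrime p.asIdeal)) := by
  let _ := TopCat.Presheaf.algebra_section_stalk X.presheaf ⟨hV.fromSpec p, fromSpec_mem hV p⟩
  have hloc := hV.isLocalization_stalk ⟨hV.fromSpec p, fromSpec_mem hV p⟩
  rw [primeIdealOf_fromSpec] at hloc
  let e := IsLocalization.algEquiv p.asIdeal.primeCompl (X.presheaf.stalk (hV.fromSpec p))
    (Localization.AtPrime p.asIdeal)
  refine ⟨IsLocalization.AtPrime.ringKrullDim_eq_height p.asIdeal _, fun h => ?_⟩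
  haveI := h
  exact IsRegularLocalRing.of_ringEquiv e.toRingEquiv

end Groth.CohTwo.ExtZ
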