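import Groth.Agent.CohTwo.ThickVanish
import Groth.Agent.Flatmor4.FpqcSubterminal
import Groth.Agent.Flatmor4.FreeFibre
import Mathlib.AlgebraicGeometry.PullbackCarrier
import Mathlib.RingTheory.Flat.FaithfullyFlat.Algebra

/-!
# A morphism of flat modules vanishing along a section is zero over a point whose fibre detects it
-/

set_option autoImplicit false
set_option linter.style.haveILetI false

universe u

open CategoryTheory CategoryTheory.Limits AlgebraicGeometry TensorProduct IsLocalRing
open Groth.KTheory.LocFree Groth.GrFree Groth.QCohMod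

namespace Groth.FibreVanish

variable {Y T : Scheme.{u}}

theorem stalkₗ_pullback_map (g : T ⟶ Y) {E G : Y.Modules} (u : E ⟶ G) (y : T)
    (v : E.presheaf.stalk (g y)) :
    stalkₗ ((Scheme.Modules.pullback g).map u) y (pullGerm g E y v) =
      pullGerm g G y (stalkₗ u (g y) v) :=
  Flatmor4.stalk_map_pullGerm g u y v

/-- A vanishing pullback kills the elements `1 ⊗ u`. -/
theorem one_tmul_eq_zero (g : T ⟶ Y) {E G : Y.Modules} (u : E ⟶ G)
    (h : (Scheme.Modules.pullback g).map u = 0) (y : T) (v : E.presheaf.stalk (g y)) :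
    letI := stalkAlg g y
    (1 : T.presheaf.stalk y) ⊗ₜ[Y.presheaf.stalk (g y)] stalkₗ u (g y) v = 0 := by
  letI := stalkAlg g y
  apply (pullStalkEquiv g G y).injective
  rw [map_zero]
  show pullStalkHom g G y _ = 0
  rw [pullStalkHom_tmul, one_smul, ← stalkₗ_pullback_map, h, stalkₗ_zero, LinearMap.zero_apply]

/-- A morphism out of a pullback is zero if it kills the pulled back germs. -/
theorem hom_eq_zero_pullGerm (g : T ⟶ Y) {E : Y.Modules} {N : T.Modules}
    (f : (Scheme.Modules.pullback g).obj E ⟶ N)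
    (h : ∀ y v, stalkₗ f y (pullGerm g E y v) = 0) : f = 0 := by
  refine ThickVanish.hom_eq_zero _ fun y t => ?_
  letI := stalkAlg g y
  obtain ⟨z, rfl⟩ := (pullStalkEquiv g E y).surjective t
  show stalkₗ f y (pullStalkHom g E y z) = 0
  induction z using TensorProduct.induction_on with
  | zero => rw [map_zero, map_zero]
  | add a b ha hb => rw [map_add, map_add, ha, hb, add_zero]
  | tmul b v => rw [pullStalkHom_tmul, map_smul, h, smul_zero]

theorem appTop_eq_zero_of_stalk {Z : Scheme.{u}} (c : Γ(Z, ⊤))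
    (h : ∀ z : Z, Z.presheaf.germ ⊤ z trivial c = 0) : c = 0 :=
  TopCat.Presheaf.section_ext Z.sheaf ⊤ _ _ fun z hz => (h z).trans (map_zero _).symm

theorem pullback_comp_map_zero_iff {Z W : Scheme.{u}} (a : W ⟶ Z) (g : Z ⟶ Y) {E G : Y.Modules}
    (u : E ⟶ G) :
    (Scheme.Modules.pullback (a ≫ g)).map u = 0 ↔
      (Scheme.Modules.pullback a).map ((Scheme.Modules.pullback g).map u) = 0 := by
  have hn := (Scheme.Modules.pullbackComp a g).hom.naturality u
  dsimp only [Functor.comp_map] at hn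
  constructor
  · intro h
    rw [h, comp_zero] at hn
    exact Preadditive.IsIso.comp_right_eq_zero _ _ |>.mp hn
  · intro h
    rw [h, zero_comp] at hn
    exact Preadditive.IsIso.comp_left_eq_zero _ _ |>.mp hn.symm

/-- Non units in the local ring of the spectrum of a field are zero. -/
theorem spec_stalk_eq_zero {k : Type u} [Field k] (w : (Spec (CommRingCat.of k) : Scheme.{u}))
    (x : (Spec (CommRingCat.of k)).presheaf.stalk w) (hx : ¬ IsUnit x) : x = 0 := by
  have hU := isAffineOpen_top (Spec (CommRingCat.of k))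
  letI : Algebra Γ(Spec (CommRingCat.of k), ⊤) ((Spec (CommRingCat.of k)).presheaf.stalk w) :=
    TopCat.Presheaf.algebra_section_stalk _ (⟨w, trivial⟩ : (⊤ : (Spec (CommRingCat.of k)).Opens))
  haveI := hU.isLocalization_stalk ⟨w, trivial⟩
  have hF : IsField Γ(Spec (CommRingCat.of k), ⊤) :=
    MulEquiv.isField (Field.toIsField k)
      (Scheme.ΓSpecIso (CommRingCat.of k)).commRingCatIsoToRingEquiv.toMulEquiv
  obtain ⟨⟨a, d⟩, hd⟩ := IsLocalization.surj (hU.primeIdealOf ⟨w, trivial⟩).asIdeal.primeCompl x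
  have hu := IsLocalization.map_units ((Spec (CommRingCat.of k)).presheaf.stalk w) d
  by_cases ha : a = 0
  · rw [show (a, d).1 = a from rfl, ha, map_zero] at hd
    exact (hu.mul_left_eq_zero).mp hd
  · exfalso
    obtain ⟨a', ha'⟩ := hF.mul_inv_cancel ha
    have : IsUnit (x * algebraMap Γ(Spec (CommRingCat.of k), ⊤) _ (d : Γ(Spec (CommRingCat.of k), ⊤))) := by
      rw [hd]; exact (IsUnit.of_mul_eq_one _ ha').map _
    exact hx (isUnit_of_mul_isUnit_left this)

/-- A tensor with `1` in a quotient of the ring vanishes only on multiples of the ideal. -/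
theorem mem_smul_of_one_tmul {R B M : Type u} [CommRing R] [CommRing B] [Algebra R B]
    [AddCommGroup M] [Module R M] {I : Ideal R} (hsurj : Function.Surjective (algebraMap R B))
    (hker : RingHom.ker (algebraMap R B) ≤ I) (v : M) (h : (1 : B) ⊗ₜ[R] v = 0) :
    v ∈ I • (⊤ : Submodule R M) := by
  let K := RingHom.ker (algebraMap R B)
  let e : (R ⧸ K) ≃ₐ[R] B := Ideal.quotientKerAlgEquivOfSurjective (f := Algebra.ofId R B) hsurj
  have h2 : (1 : R ⧸ K) ⊗ₜ[R] v = 0 := by
    apply (TensorProduct.congr e.toLinearEquiv (LinearEquiv.refl R M)).injective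
    rw [map_zero, TensorProduct.congr_tmul, LinearEquiv.refl_apply,
      show e.toLinearEquiv 1 = 1 from map_one e]
    exact h
  have h3 := congrArg (TensorProduct.quotTensorEquivQuotSMul M K) h2
  rw [map_zero, show (1 : R ⧸ K) = Ideal.Quotient.mk K 1 from rfl,
    TensorProduct.quotTensorEquivQuotSMul_mk_tmul, one_smul, Submodule.Quotient.mk_eq_zero] at h3
  exact Submodule.smul_mono hker le_rfl h3

variable {k : Type u} [Field k] (q : Y ⟶ T) (σ : T ⟶ Y) (hσ : σ ≫ q = 𝟙 T) [IsAffine T]

/-- The structure map on global functions. -/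
noncomputable abbrev str : Γ(T, ⊤) →+* Γ(Y, ⊤) := q.appTop.hom

theorem θy_eq (y : Y) (c : Γ(T, ⊤)) :
    ThickVanish.θy (str q) y c = q.stalkMap y (T.presheaf.germ ⊤ (q y) trivial c) :=
  (Scheme.Hom.germ_stalkMap_apply q ⊤ y trivial c).symm

theorem appTop_comp_apply (c : Γ(T, ⊤)) (h : σ ≫ q = 𝟙 T) : σ.appTop (q.appTop c) = c := by
  rw [← ConcreteCategory.comp_apply, ← Scheme.Hom.comp_appTop, h]
  simp

variable [IsNoetherianRing Γ(T, ⊤)] [IsLocallyNoetherian Y] {E G : Y.Modules} (φ : E ⟶ G)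
  {Z : Scheme.{u}} {ι : Z ⟶ Y} {p : Z ⟶ Spec (CommRingCat.of k)} {t : Spec (CommRingCat.of k) ⟶ T}
  {σZ : Spec (CommRingCat.of k) ⟶ Z}

/-- The kernel to the local ring of the fibre is generated by the maximal ideal of the base. -/
theorem ker_stalkMap_le (H : IsPullback ι p q t) (z : Z) (c : T) (hc : q (ι z) = c) :
    RingHom.ker (ι.stalkMap z).hom ≤
      ((isAffineOpen_top T).primeIdealOf ⟨c, trivial⟩).asIdeal.map
        (ThickVanish.θy (str q) (ι z)) := by
  subst hc
  have hT := isAffineOpen_top T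
  intro r hr
  obtain ⟨F, F', iF, iF', _, _, π₁, π₂, g, -, hk, -, hgf, hgl, hcomm⟩ :=
    Flatmor4.exists_fibre_square H z
  have hginj : Function.Injective g := by
    algebraize [g]
    haveI : IsLocalHom (algebraMap F F') := hgl
    haveI : Module.FaithfullyFlat F F' := Module.FaithfullyFlat.of_flat_of_isLocalHom
    exact FaithfulSMul.algebraMap_injective F F'
  have hr' : π₁ r = 0 := hginj (by
    rw [hcomm, show ι.stalkMap z r = 0 from hr, map_zero, map_zero])
  have hr2 : r ∈ RingHom.ker π₁ := hr'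
  rw [hk] at hr2
  letI : Algebra Γ(T, ⊤) (T.presheaf.stalk (q (ι z))) :=
    TopCat.Presheaf.algebra_section_stalk T.presheaf (⟨q (ι z), trivial⟩ : (⊤ : T.Opens))
  haveI : IsLocalization.AtPrime (T.presheaf.stalk (q (ι z)))
      (hT.primeIdealOf ⟨q (ι z), trivial⟩).asIdeal := hT.isLocalization_stalk ⟨_, trivial⟩
  rw [← IsLocalization.AtPrime.map_eq_maximalIdeal (hT.primeIdealOf ⟨q (ι z), trivial⟩).asIdeal
    (T.presheaf.stalk (q (ι z))), Ideal.map_map] at hr2
  have hcomp : (q.stalkMap (ι z)).hom.comp (algebraMap Γ(T, ⊤) (T.presheaf.stalk (q (ι z)))) =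
      ThickVanish.θy (str q) (ι z) := RingHom.ext fun c => (θy_eq q (ι z) c).symm
  rwa [hcomp] at hr2

/-- Sections killed at `s` die on the fibre. -/
theorem appTop_appTop_eq_zero (H : IsPullback ι p q t) (pt : (Spec (CommRingCat.of k) : Scheme.{u}))
    (c : Γ(T, ⊤)) (hc : c ∈ ((isAffineOpen_top T).primeIdealOf ⟨t pt, trivial⟩).asIdeal) :
    ι.appTop (q.appTop c) = 0 := by
  rw [← ConcreteCategory.comp_apply, ← Scheme.Hom.comp_appTop, H.w, Scheme.Hom.comp_appTop,
    ConcreteCategory.comp_apply]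
  refine (congrArg (fun z => p.appTop z) (appTop_eq_zero_of_stalk _ fun w => ?_)).trans (map_zero _)
  obtain rfl := Subsingleton.elim w pt
  refine spec_stalk_eq_zero w _ fun hu => ?_
  rw [show (Spec (CommRingCat.of k)).presheaf.germ ⊤ w trivial (t.appTop c) =
    (t.stalkMap w).hom (T.presheaf.germ ⊤ (t w) trivial c) from
      (Scheme.Hom.germ_stalkMap_apply t ⊤ w trivial c).symm] at hu
  have hu' := IsUnit.of_map (t.stalkMap w).hom _ hu
  rw [← Scheme.mem_basicOpen T c (t w) trivial,
    Groth.QCohMod.mem_basicOpen_iff_notMem_primeIdealOf (isAffineOpen_top T) c (t w) trivial] at hu'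
  exact hu' hc

/-- A morphism with values in the maximal ideal at the point pulls back to zero. -/
theorem pullback_point_eq_zero {k : Type u} [Field k] (g : Spec (CommRingCat.of k) ⟶ Y)
    {E Q : Y.Modules} (ψ : E ⟶ Q) (pt : (Spec (CommRingCat.of k) : Scheme.{u}))
    (h : ∀ u, stalkₗ ψ (g pt) u ∈ maximalIdeal (Y.presheaf.stalk (g pt)) •
      (⊤ : Submodule (Y.presheaf.stalk (g pt)) (Q.presheaf.stalk (g pt)))) :
    (Scheme.Modules.pullback g).map ψ = 0 := by
  refine hom_eq_zero_pullGerm g _ fun w v => ?_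
  obtain rfl := Subsingleton.elim w pt
  rw [stalkₗ_pullback_map]
  refine Submodule.smul_induction_on (h v) (fun c hc z _ => ?_) (fun a b ha hb => ?_)
  · rw [pullGerm_smul, spec_stalk_eq_zero w (g.stalkMap w c) (fun hu =>
      (IsLocalRing.mem_maximalIdeal _).mp hc (IsUnit.of_map (g.stalkMap w).hom c hu)), zero_smul]
  · rw [map_add, ha, hb, add_zero]

include hσ in
/-- If `G` is flat over the affine base and free at the point of the section over `s`, every morphism
on the fibre which vanishes at that point is zero, and `φ` vanishes along the section, then `φ` is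
zero at the points over `s`. -/
theorem stalk_eq_zero (hG : Coh.IsCoh G) (hfl : FlatMod.IsFlatOver q G)
    (hφ : (Scheme.Modules.pullback σ).map φ = 0)
    (H : IsPullback ι p q t) [IsClosedImmersion t] (hσZ : σZ ≫ ι = t ≫ σ)
    (pt : (Spec (CommRingCat.of k) : Scheme.{u}))
    (hfree : Module.Free (Y.presheaf.stalk (σ (t pt))) (G.presheaf.stalk (σ (t pt))))
    (hfib : ∀ χ : (Scheme.Modules.pullback ι).obj E ⟶ (Scheme.Modules.pullback ι).obj G,
      (Scheme.Modules.pullback σZ).map χ = 0 → χ = 0)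
    (y : Y) (hy : q y = t pt) (u : E.presheaf.stalk y) : stalkₗ φ y u = 0 := by
  haveI : IsClosedImmersion ι := MorphismProperty.of_isPullback H.flip inferInstance
  have hT := isAffineOpen_top T
  let s : T := t pt
  let m : Ideal Γ(T, ⊤) := (hT.primeIdealOf ⟨s, trivial⟩).asIdeal
  have hs_closed : IsClosed ({s} : Set T) := by
    have e : Set.range t.base = {s} := by
      ext z
      refine ⟨?_, fun h => ⟨pt, h.symm⟩⟩
      rintro ⟨w, rfl⟩
      rw [Subsingleton.elim w pt]
      rfl
    rw [← e]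
    exact t.isClosedEmbedding.isClosed_range
  have hm : m.IsMaximal := hT.primeIdealOf_isMaximal_of_isClosed _ hs_closed
  let θ := str q
  -- the local algebra at a point of the base
  have hflat : ∀ y, letI := Module.compHom (G.presheaf.stalk y) (ThickVanish.θy θ y)
      Module.Flat Γ(T, ⊤) (G.presheaf.stalk y) := fun y => by
    letI := Module.compHom (G.presheaf.stalk y) (ThickVanish.θy θ y)
    letI : Algebra Γ(T, ⊤) (T.presheaf.stalk (q y)) :=
      TopCat.Presheaf.algebra_section_stalk T.presheaf (⟨q y, trivial⟩ : (⊤ : T.Opens))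
    haveI : IsLocalization.AtPrime (T.presheaf.stalk (q y)) (hT.primeIdealOf ⟨q y, trivial⟩).asIdeal :=
      hT.isLocalization_stalk ⟨q y, trivial⟩
    letI := Module.compHom (G.presheaf.stalk y) (q.stalkMap y).hom
    haveI : Module.Flat (T.presheaf.stalk (q y)) (G.presheaf.stalk y) := hfl y
    haveI : Module.Flat Γ(T, ⊤) (T.presheaf.stalk (q y)) :=
      IsLocalization.flat _ (hT.primeIdealOf ⟨q y, trivial⟩).asIdeal.primeCompl
    haveI : IsScalarTower Γ(T, ⊤) (T.presheaf.stalk (q y)) (G.presheaf.stalk y) :=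
      IsScalarTower.of_algebraMap_smul fun c v =>
        congrArg (· • v) (θy_eq q y c).symm
    exact Module.Flat.trans Γ(T, ⊤) (T.presheaf.stalk (q y)) (G.presheaf.stalk y)
  let x₀ : Y := σ s
  letI : Algebra Γ(T, ⊤) (T.presheaf.stalk s) :=
    TopCat.Presheaf.algebra_section_stalk T.presheaf (⟨s, trivial⟩ : (⊤ : T.Opens))
  haveI : IsLocalization.AtPrime (T.presheaf.stalk s) m := hT.isLocalization_stalk ⟨s, trivial⟩
  let ev : Y.presheaf.stalk x₀ →+* T.presheaf.stalk s := (σ.stalkMap s).hom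
  have hevθ : ev.comp (ThickVanish.θy θ x₀) = algebraMap Γ(T, ⊤) (T.presheaf.stalk s) := by
    ext c
    change σ.stalkMap s (Y.presheaf.germ ⊤ x₀ trivial (q.appTop c)) = T.presheaf.germ ⊤ s trivial c
    rw [Scheme.Hom.germ_stalkMap_apply σ ⊤ s trivial]
    exact congrArg (T.presheaf.germ ⊤ s trivial) (appTop_comp_apply q σ c hσ)
  have hR : ∀ (a : Ideal Γ(T, ⊤)) (n : ℕ), m ^ n ≤ a → ∀ ε : Γ(T, ⊤),
      ev (ThickVanish.θy θ x₀ ε) ∈ a.map (ev.comp (ThickVanish.θy θ x₀)) → ε ∈ a := by
    intro a n hn ε hε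
    rw [← RingHom.comp_apply, hevθ] at hε
    obtain ⟨w, hw, hwε⟩ := (IsLocalization.algebraMap_mem_map_algebraMap_iff m.primeCompl
      (T.presheaf.stalk s) a ε).mp hε
    by_contra hεa
    have hne : a ⊔ Ideal.span {w} = ⊤ := by
      by_contra hne
      obtain ⟨M', hM', hle⟩ := Ideal.exists_le_maximal _ hne
      have hmM : m ≤ M' := hM'.isPrime.le_of_pow_le (hn.trans (le_sup_left.trans hle))
      exact hw ((hm.eq_of_le hM'.ne_top hmM).ge
        (hle (Ideal.mem_sup_right (Ideal.mem_span_singleton_self w))))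
    obtain ⟨p', hp', d, hd, hpd⟩ := Submodule.mem_sup.mp (hne ▸ Submodule.mem_top (x := (1 : Γ(T, ⊤))))
    obtain ⟨c, rfl⟩ := Ideal.mem_span_singleton'.mp hd
    refine hεa ?_
    have h := a.add_mem (a.mul_mem_right ε hp') (a.mul_mem_left c hwε)
    rwa [← mul_assoc, ← add_mul, hpd, one_mul] at h
  haveI := hfree
  let b := Module.Free.chooseBasis (Y.presheaf.stalk x₀) (G.presheaf.stalk x₀)
  have hev : ∀ (u : E.presheaf.stalk x₀) i, ev (b.repr (stalkₗ φ x₀ u) i) = 0 := fun u i => by
    letI := stalkAlg σ s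
    have h := congrArg (fun z => (b.baseChange (T.presheaf.stalk s)).repr z i)
      (one_tmul_eq_zero σ φ hφ s u)
    have hb := Module.Basis.baseChange_repr_tmul (T.presheaf.stalk s) b 1 (stalkₗ φ x₀ u) i
    have h' : (b.repr (stalkₗ φ x₀ u) i) • (1 : T.presheaf.stalk s) = 0 := hb.symm.trans (h.trans (by simp))
    rw [Algebra.smul_def, mul_one] at h'
    exact h'
  -- morphisms to `G/mG` vanishing at the point of the section vanish
  have hkill : ∀ c ∈ m, ι.appTop (q.appTop c) = 0 := appTop_appTop_eq_zero q H pt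
  let Q := ThickVanish.modA θ G m
  let π : G ⟶ Q := ThickVanish.modAπ θ G m
  have hmul : (Scheme.Modules.pullback ι).map (ThickVanish.mulMap θ G (ThickVanish.gens m)) = 0 := by
    refine hom_eq_zero_pullGerm ι _ fun z v => ?_
    rw [stalkₗ_pullback_map]
    have e := LinearMap.congr_fun ((congrArg (fun f => stalkₗ f (ι z))
      (PnCoh.sigmaProj_total (fun _ : Fin (ThickVanish.rk m) => G))).trans (stalkₗ_id _ (ι z))) v
    rw [stalkₗ_sum, LinearMap.sum_apply, LinearMap.id_apply] at e
    rw [← e, map_sum, map_sum]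
    refine Finset.sum_eq_zero fun i _ => ?_
    rw [stalkₗ_comp, LinearMap.comp_apply, ← LinearMap.comp_apply, ← stalkₗ_comp, ThickVanish.mulMap,
      Sigma.ι_desc, ThickVanish.stalkₗ_scalar, pullGerm_smul]
    rw [Scheme.Hom.germ_stalkMap_apply ι ⊤ z trivial]
    erw [hkill _ (ThickVanish.gens_mem m i), map_zero, zero_smul]
  haveI : IsIso ((Scheme.Modules.pullback ι).map π) := by
    haveI : (Scheme.Modules.pullback ι).IsLeftAdjoint :=
      (Scheme.Modules.pullbackPushforwardAdjunction ι).isLeftAdjoint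
    have e := PreservesCokernel.π_iso_hom (Scheme.Modules.pullback ι)
      (ThickVanish.mulMap θ G (ThickVanish.gens m))
    haveI : IsIso (cokernel.π ((Scheme.Modules.pullback ι).map
        (ThickVanish.mulMap θ G (ThickVanish.gens m)))) := by
      have h0 : ∀ {A B : Z.Modules} (f : A ⟶ B), f = 0 → IsIso (cokernel.π f) := by
        rintro A B _ rfl
        infer_instance
      exact h0 _ hmul
    exact IsIso.of_isIso_fac_right e
  have hrange : ∀ y : Y, q y = s → ∃ z : Z, ι z = y := fun y hy => by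
    obtain ⟨z, hz, -⟩ := Scheme.Pullback.exists_preimage_pullback (f := q) (g := t) y pt hy
    exact ⟨H.isoPullback.inv z, by
      rw [← Scheme.Hom.comp_apply, H.isoPullback_inv_fst]; exact hz⟩
  have HH : ∀ ψ : E ⟶ Q, (∀ u, stalkₗ ψ x₀ u ∈ maximalIdeal (Y.presheaf.stalk x₀) •
      (⊤ : Submodule (Y.presheaf.stalk x₀) (Q.presheaf.stalk x₀))) → ψ = 0 := by
    intro ψ hψ
    -- at the point
    have hpt : (Scheme.Modules.pullback (t ≫ σ)).map ψ = 0 := pullback_point_eq_zero (t ≫ σ) ψ pt hψ
    -- on the fibre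
    have hfibre : (Scheme.Modules.pullback ι).map ψ = 0 := by
      have h := hfib ((Scheme.Modules.pullback ι).map ψ ≫ inv ((Scheme.Modules.pullback ι).map π)) (by
        rw [Functor.map_comp, (pullback_comp_map_zero_iff σZ ι ψ).mp (by rw [hσZ]; exact hpt),
          zero_comp])
      exact (Preadditive.IsIso.comp_right_eq_zero _ _).mp h
    refine ThickVanish.hom_eq_zero ψ fun y u => ?_
    obtain ⟨v, hv⟩ := ThickVanish.modAπ_surjective θ G m y (stalkₗ ψ y u)
    rw [← hv]
    refine (ThickVanish.stalkₗ_modAπ_eq_zero_iff θ G m y v).mpr ?_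
    by_cases hys : q y = s
    · obtain ⟨z, rfl⟩ := hrange y hys
      letI := stalkAlg ι z
      have h1 := one_tmul_eq_zero ι ψ hfibre z u
      rw [← hv] at h1
      have h3 := mem_smul_of_one_tmul (R := Y.presheaf.stalk (ι z)) (B := Z.presheaf.stalk z)
        (ι.stalkMap_surjective z) (ker_stalkMap_le q H z s hys) _ h1
      have h4 : stalkₗ π (ι z) v ∈ Submodule.map (stalkₗ π (ι z))
          (m.map (ThickVanish.θy θ (ι z)) • (⊤ : Submodule (Y.presheaf.stalk (ι z)) (G.presheaf.stalk (ι z)))) := by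
        rw [Submodule.map_smul'', Submodule.map_top,
          LinearMap.range_eq_top.mpr (ThickVanish.modAπ_surjective θ G m (ι z))]
        exact h3
      obtain ⟨v', hv', e'⟩ := h4
      have h5 := (ThickVanish.stalkₗ_modAπ_eq_zero_iff θ G m (ι z) v').mpr hv'
      rw [e'] at h5
      exact (ThickVanish.stalkₗ_modAπ_eq_zero_iff θ G m (ι z) v).mp h5
    · obtain ⟨c, hcm, hc⟩ : ∃ c ∈ m, c ∉ (hT.primeIdealOf ⟨q y, trivial⟩).asIdeal := by
        by_contra hcon
        push Not at hcon
        have he := hm.eq_of_le (hT.primeIdealOf ⟨q y, trivial⟩).isPrime.ne_top hcon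
        have h1 := hT.fromSpec_primeIdealOf ⟨q y, trivial⟩
        rw [← PrimeSpectrum.ext he, hT.fromSpec_primeIdealOf ⟨s, trivial⟩] at h1
        exact hys h1.symm
      have hu : IsUnit (ThickVanish.θy θ y c) := by
        rw [θy_eq]
        refine IsUnit.map _ ?_
        rwa [← Scheme.mem_basicOpen T c (q y) trivial,
          Groth.QCohMod.mem_basicOpen_iff_notMem_primeIdealOf hT c (q y) trivial]
      rw [Ideal.eq_top_of_isUnit_mem _ (Ideal.mem_map_of_mem _ hcm) hu, Submodule.top_smul]
      trivial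
  have hk := ThickVanish.mem_smul_of_fibre θ φ ev b m hm hflat hR hev HH
  refine ThickVanish.stalk_eq_zero_of_forall_pow θ φ hG m y ?_ (fun n v => hk n y v) u
  refine ne_top_of_le_ne_top (maximalIdeal.isMaximal (Y.presheaf.stalk y)).ne_top
    (Ideal.map_le_iff_le_comap.mpr fun c hc => ?_)
  rw [Ideal.mem_comap, IsLocalRing.mem_maximalIdeal, mem_nonunits_iff, θy_eq]
  intro hu
  have hu' : IsUnit (T.presheaf.germ ⊤ (q y) trivial c) := IsUnit.of_map (q.stalkMap y).hom _ hu
  rw [← Scheme.mem_basicOpen T c (q y) trivial,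
    Groth.QCohMod.mem_basicOpen_iff_notMem_primeIdealOf hT c (q y) trivial] at hu'
  refine hu' ?_
  simpa only [m, s, hy] using hc

end Groth.FibreVanish
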