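import Groth.Agent.CohTwo.CohInduction

/-!
Finite coproducts of modules: stalks, coherence, monomorphisms, extensions.
-/

universe u

open CategoryTheory CategoryTheory.Limits AlgebraicGeometry TopologicalSpace Opposite

namespace Groth.CohTwo

open Groth.QCohMod hiding res res_res res_smul

variable {X : Scheme.{u}}

/-- `∐_r M`. -/
noncomputable abbrev powMod (M : X.Modules) (r : ℕ) : X.Modules := ∐ fun _ : Fin r => M

/-- The projection of `∐_r M` to a summand. -/
noncomputable def powProj (M : X.Modules) {r : ℕ} (i : Fin r) : powMod M r ⟶ M :=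
  Sigma.desc fun j => if j = i then 𝟙 M else 0

lemma ι_powProj (M : X.Modules) {r : ℕ} (j i : Fin r) :
    Sigma.ι (fun _ : Fin r => M) j ≫ powProj M i = if j = i then 𝟙 M else 0 :=
  Sigma.ι_desc _ _

lemma powProj_total (M : X.Modules) (r : ℕ) :
    ∑ i, powProj M i ≫ Sigma.ι (fun _ : Fin r => M) i = 𝟙 (powMod M r) := by
  refine Sigma.hom_ext _ _ fun j => ?_
  rw [Preadditive.comp_sum, Category.comp_id, Finset.sum_eq_single j]
  · rw [← Category.assoc, ι_powProj, if_pos rfl, Category.id_comp]
  · intro i _ hi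
    rw [← Category.assoc, ι_powProj, if_neg (Ne.symm hi), zero_comp]
  · simp

lemma stalkLin_sum {M N : X.Modules} {κ : Type*} (s : Finset κ) (φ : κ → (M ⟶ N)) (x : X)
    (m : ↑(M.presheaf.stalk x)) : stalkLin (∑ i ∈ s, φ i) x m = ∑ i ∈ s, stalkLin (φ i) x m := by
  obtain ⟨U, hU, a, rfl⟩ := stalk_exists_germ M x m
  rw [stalkLin_germ, app_sum, map_sum]
  simp only [stalkLin_germ]

/-- The stalk of `∐_r M`. -/
noncomputable def powStalk (M : X.Modules) (r : ℕ) (x : X) :
    ↑((powMod M r).presheaf.stalk x) ≃ₗ[X.presheaf.stalk x] (Fin r → ↑(M.presheaf.stalk x)) where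
  toFun t i := stalkLin (powProj M i) x t
  map_add' a b := by ext i; simp
  map_smul' c a := by ext i; simp
  invFun f := ∑ i, stalkLin (Sigma.ι (fun _ : Fin r => M) i) x (f i)
  left_inv t := by
    have := stalkLin_sum Finset.univ (fun i => powProj M i ≫ Sigma.ι (fun _ : Fin r => M) i) x t
    rw [powProj_total, stalkLin_id] at this
    simp only [stalkLin_comp] at this
    exact this.symm
  right_inv f := by
    ext i
    dsimp only
    rw [map_sum, Finset.sum_eq_single i]
    · rw [← stalkLin_comp, ι_powProj, if_pos rfl, stalkLin_id]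
    · intro j _ hj
      rw [← stalkLin_comp, ι_powProj, if_neg hj, stalkLin_zero]
    · simp

lemma support_powMod_subset (M : X.Modules) (r : ℕ) :
    CohB1.support (powMod M r) ⊆ CohB1.support M := fun x hx h =>
  hx (haveI : Subsingleton ↑(M.presheaf.stalk x) := h
    (powStalk M r x).toEquiv.subsingleton)

lemma isQCoh_powMod (M : X.Modules) [M.IsQuasicoherent] (r : ℕ) :
    (powMod M r).IsQuasicoherent := by
  haveI : ∀ j, ((Discrete.functor fun _ : Fin r => M).obj j).IsQuasicoherent := fun j => by
    dsimp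
    infer_instance
  exact isQCoh_of_isColimit (Discrete.functor fun _ : Fin r => M) _ (colimit.isColimit _)

lemma isCoh_powMod {M : X.Modules} (hM : Coh.IsCoh M) (r : ℕ) : Coh.IsCoh (powMod M r) := by
  haveI := hM.1
  haveI := isQCoh_powMod M r
  refine (isCoh_iff _).2 ⟨inferInstance, fun U hU => ?_⟩
  haveI := finite_sections M hM.2 hU
  let L : (Fin r → Γ(M, U)) →ₗ[Γ(X, U)] Γ(powMod M r, U) :=
    ∑ i, (appₗ (Sigma.ι (fun _ : Fin r => M) i) U).comp (LinearMap.proj i)
  refine Module.Finite.of_surjective L fun a => ⟨fun i => (powProj M i).app U a, ?_⟩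
  simp only [L, LinearMap.coe_sum, Finset.sum_apply, LinearMap.comp_apply, LinearMap.proj_apply,
    appₗ_apply]
  refine Eq.trans ?_ (congrArg (fun φ => Scheme.Modules.Hom.app φ U a) (powProj_total M r))
  rw [app_sum]
  rfl

/-- The diagonal map `∐_r f`. -/
noncomputable def powMap {M N : X.Modules} (f : M ⟶ N) (r : ℕ) : powMod M r ⟶ powMod N r :=
  Sigma.desc fun i => f ≫ Sigma.ι (fun _ : Fin r => N) i

lemma powMap_proj {M N : X.Modules} (f : M ⟶ N) {r : ℕ} (i : Fin r) :
    powMap f r ≫ powProj N i = powProj M i ≫ f := by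
  refine Sigma.hom_ext _ _ fun j => ?_
  rw [powMap, Sigma.ι_desc_assoc, Category.assoc, ι_powProj, ← Category.assoc, ι_powProj]
  split_ifs <;> simp

lemma stalkLin_powMap {M N : X.Modules} (f : M ⟶ N) (r : ℕ) (x : X)
    (t : ↑((powMod M r).presheaf.stalk x)) :
    powStalk N r x (stalkLin (powMap f r) x t) = fun i => stalkLin f x (powStalk M r x t i) := by
  funext i
  change stalkLin (powProj N i) x (stalkLin (powMap f r) x t) =
    stalkLin f x (stalkLin (powProj M i) x t)
  rw [← stalkLin_comp, ← stalkLin_comp, powMap_proj]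

lemma bijective_powMap {M N : X.Modules} (f : M ⟶ N) (r : ℕ) (x : X)
    (h : Function.Bijective (stalkLin f x)) : Function.Bijective (stalkLin (powMap f r) x) := by
  have e : (powStalk N r x) ∘ (stalkLin (powMap f r) x) =
      (fun (v : Fin r → ↑(M.presheaf.stalk x)) i => stalkLin f x (v i)) ∘ (powStalk M r x) :=
    funext fun t => stalkLin_powMap f r x t
  refine (Function.Bijective.of_comp_iff' (powStalk N r x).bijective _).1 ?_
  rw [e]
  exact (Function.Bijective.piMap fun _ => h).comp (powStalk M r x).bijective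

instance mono_powMap {M N : X.Modules} (f : M ⟶ N) [Mono f] (r : ℕ) : Mono (powMap f r) := by
  refine ⟨fun g h e => ?_⟩
  have hp : ∀ i, g ≫ powProj M i = h ≫ powProj M i := fun i => by
    rw [← cancel_mono f, Category.assoc, Category.assoc, ← powMap_proj, ← Category.assoc, e,
      Category.assoc]
  rw [← Category.comp_id g, ← Category.comp_id h, ← powProj_total, Preadditive.comp_sum,
    Preadditive.comp_sum]
  exact Finset.sum_congr rfl fun i _ => by rw [← Category.assoc, hp, Category.assoc]

/-- A property stable under extensions passes to finite powers. -/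
theorem powMod_induction (P : X.Modules → Prop) (h0 : ∀ M : X.Modules, IsZero M → P M)
    (hext : ∀ S : ShortComplex X.Modules, S.ShortExact → Coh.IsCoh S.X₁ → Coh.IsCoh S.X₂ →
      Coh.IsCoh S.X₃ → P S.X₁ → P S.X₃ → P S.X₂)
    {M : X.Modules} (hM : Coh.IsCoh M) (hP : P M) (r : ℕ) : P (powMod M r) := by
  induction r with
  | zero =>
    refine h0 _ ((IsZero.iff_id_eq_zero _).2 (Sigma.hom_ext _ _ fun i => i.elim0))
  | succ r ih =>
    let a : M ⟶ powMod M (r + 1) := Sigma.ι (fun _ : Fin (r + 1) => M) 0
    let b : powMod M (r + 1) ⟶ powMod M r :=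
      Sigma.desc fun i => Fin.cases 0 (fun j => Sigma.ι (fun _ : Fin r => M) j) i
    have hab : a ≫ b = 0 := Sigma.ι_desc _ _
    refine hext (ShortComplex.mk a b hab) (ShortComplex.Splitting.shortExact
      { r := powProj M 0
        s := Sigma.desc fun j : Fin r => Sigma.ι (fun _ : Fin (r + 1) => M) j.succ
        f_r := by simp [a, ι_powProj]
        s_g := Sigma.hom_ext _ _ fun j => by simp [b]
        id := Sigma.hom_ext _ _ fun i => ?_ }) hM (isCoh_powMod hM (r + 1)) (isCoh_powMod hM r) hP ih
    dsimp only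
    rw [Preadditive.comp_add, ← Category.assoc, ← Category.assoc, ι_powProj, Sigma.ι_desc,
      Category.comp_id]
    induction i using Fin.cases with
    | zero => simp [a]
    | succ j => simp [Fin.succ_ne_zero]

end Groth.CohTwo
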