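import Groth.Agent.QCohMod.Coherent

/-!
The image of a morphism out of a finite free module, on sections.
-/

universe u

open CategoryTheory CategoryTheory.Limits AlgebraicGeometry TopologicalSpace Opposite

namespace Groth.CohTwo

open Groth.QCohMod

variable {X : Scheme.{u}}

/-- The image of `freeHom M m` on sections is spanned by the restrictions of the `m i`. -/
theorem range_freeHom (M : X.Modules) {ι : Type u} [Fintype ι] (m : ι → Γ(M, (⊤ : X.Opens)))
    (U : X.Opens) :
    LinearMap.range (appₗ (freeHom M m) U) =
      Submodule.span Γ(X, U) (Set.range fun i => Groth.QCohMod.res M (le_top : U ≤ ⊤) (m i)) := by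
  classical
  apply le_antisymm
  · rintro _ ⟨a, rfl⟩
    let p : ι → ((∐ fun _ : ι => Coh.structureModule X) ⟶ Coh.structureModule X) := fun i =>
      Sigma.desc fun j => if j = i then 𝟙 _ else 0
    have hp : ∑ i, p i ≫ Sigma.ι (fun _ : ι => Coh.structureModule X) i = 𝟙 _ := by
      refine Sigma.hom_ext _ _ fun j => ?_
      rw [Preadditive.comp_sum, Category.comp_id, Finset.sum_eq_single j]
      · simp [p]
      · intro i _ hi
        simp [p, Ne.symm hi]
      · simp
    have ha : a = ∑ i, (p i ≫ Sigma.ι (fun _ : ι => Coh.structureModule X) i).app U a := by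
      rw [← app_sum, hp]
      rfl
    rw [ha, map_sum]
    refine Submodule.sum_mem _ fun i _ => ?_
    change (freeHom M m).app U ((Sigma.ι (fun _ : ι => Coh.structureModule X) i).app U
      ((p i).app U a)) ∈ _
    rw [← ConcreteCategory.comp_apply, ← Scheme.Modules.Hom.comp_app, ι_freeHom, secHom_app]
    exact Submodule.smul_mem _ _ (Submodule.subset_span ⟨i, rfl⟩)
  · refine Submodule.span_le.2 ?_
    rintro _ ⟨i, rfl⟩
    refine ⟨(Sigma.ι (fun _ : ι => Coh.structureModule X) i).app U (oneSec U), ?_⟩
    change (freeHom M m).app U _ = _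
    rw [← ConcreteCategory.comp_apply, ← Scheme.Modules.Hom.comp_app, ι_freeHom, secHom_app_one]

end Groth.CohTwo
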