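import Groth.Agent.VarietyBC.FFSections
import Groth.Agent.Chow.AmpleTwist
import Groth.Agent.PropsBasic2.StalkFlat

/-!
# Generation by sections near a fibre of a proper map
-/

set_option autoImplicit false
set_option backward.isDefEq.respectTransparency.types false
universe u

open CategoryTheory Limits AlgebraicGeometry Opposite TopologicalSpace
open scoped TensorProduct

namespace Groth.CohTwo.GGNhd

open Groth.QCohMod (sectionsAlg stalkAlg germ pullGerm pullGerm_germ pullStalkHom pullStalkHom_tmul pullStalkEquiv)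
open Groth.PicAux (pullSec)
open Groth.CohBase.FlatBC (secMod psec psec_apply)
open Groth.VarietyBC.FFSections (pullTop mem_span_pullSec)

/-- Generation at one point descends along a flat base change of affine bases. -/
theorem span_at {X S X' S' : Scheme.{u}} {f : X ⟶ S} {g : S' ⟶ S} {g' : X' ⟶ X} {f' : X' ⟶ S'}
    (sq : IsPullback g' f' f g) [IsAffine S] [IsAffine S'] [QuasiCompact f]
    [QuasiSeparated f] [Flat g] (M : X.Modules) [M.IsQuasicoherent] (y : X')
    (h : Submodule.span (X'.presheaf.stalk y)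
      (Set.range fun t : Γ((Scheme.Modules.pullback g').obj M, (⊤ : X'.Opens)) =>
        germ ((Scheme.Modules.pullback g').obj M) y (Set.mem_univ _ : y ∈ (⊤ : X'.Opens)) t) = ⊤) :
    Submodule.span (X.presheaf.stalk (g' y))
      (Set.range fun t : Γ(M, (⊤ : X.Opens)) =>
        germ M (g' y) (Set.mem_univ _ : g' y ∈ (⊤ : X.Opens)) t) = ⊤ := by
  have : Flat g' := MorphismProperty.of_isPullback (P := @Flat) sq.flip ‹_›
  let := stalkAlg g' y
  have := Groth.Flatmor4.faithfullyFlat_stalk g' y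
  set P := Submodule.span (X.presheaf.stalk (g' y))
    (Set.range fun t : Γ(M, (⊤ : X.Opens)) =>
      germ M (g' y) (Set.mem_univ _ : g' y ∈ (⊤ : X.Opens)) t)
  suffices hP : Function.Surjective (P.subtype.lTensor (X'.presheaf.stalk y)) by
    rw [eq_top_iff]
    rintro v -
    obtain ⟨w, rfl⟩ := (Module.FaithfullyFlat.lTensor_surjective_iff_surjective
      (X.presheaf.stalk (g' y)) (X'.presheaf.stalk y) _).1 hP v
    exact w.2
  let Q := LinearMap.range ((pullStalkEquiv g' M y).toLinearMap ∘ₗ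
    P.subtype.baseChange (X'.presheaf.stalk y))
  suffices hQ : Q = ⊤ by
    intro z
    obtain ⟨w, hw⟩ := LinearMap.range_eq_top.1 hQ (pullStalkEquiv g' M y z)
    exact ⟨w, (pullStalkEquiv g' M y).injective hw⟩
  rw [eq_top_iff, ← h, Submodule.span_le]
  rintro _ ⟨t, rfl⟩
  have ht := mem_span_pullSec sq M t
  induction ht using Submodule.span_induction with
  | mem t ht =>
    obtain ⟨m, rfl⟩ := ht
    refine ⟨(1 : X'.presheaf.stalk y) ⊗ₜ
      (⟨_, Submodule.subset_span ⟨m, rfl⟩⟩ : P), ?_⟩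
    change pullStalkHom g' M y ((1 : X'.presheaf.stalk y) ⊗ₜ _) = _
    rw [pullStalkHom_tmul, one_smul]
    exact pullGerm_germ g' M y _ m
  | zero =>
    change germ _ y _ 0 ∈ Q
    rw [map_zero]; exact Submodule.zero_mem _
  | add a b _ _ ha hb =>
    change germ _ y _ (a + b) ∈ Q
    rw [map_add]; exact Submodule.add_mem _ ha hb
  | smul r a _ ha =>
    change germ _ y _ (r • a) ∈ Q
    rw [Groth.QCohMod.germ_smul]
    exact Submodule.smul_mem _ _ ha


open Groth.PropsBasic.Ample (gloc gloc_pullSec gloc_map)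

/-- A module isomorphic to a globally generated one is globally generated. -/
theorem gg_of_iso {X : Scheme.{u}} {F G : X.Modules} (e : F ≅ G) (h : Curv2.IsGloballyGenerated F) :
    Curv2.IsGloballyGenerated G := by
  obtain ⟨ι, p, hp⟩ := h
  exact ⟨ι, p ≫ e.hom, epi_comp _ _⟩

/-- Sections generating at the points of a flat base change. -/
theorem exists_mem_gloc_of_pullback {X S X' S' : Scheme.{u}} {f : X ⟶ S} {g : S' ⟶ S} {g' : X' ⟶ X}
    {f' : X' ⟶ S'} (sq : IsPullback g' f' f g) [IsAffine S] [IsAffine S'] [QuasiCompact f]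
    [QuasiSeparated f] [Flat g] (M : X.Modules) (hM : PicF.IsInvertible M)
    (h : Curv2.IsGloballyGenerated ((Scheme.Modules.pullback g').obj M)) (x' : X') :
    ∃ t : Γ(M, (⊤ : X.Opens)), g' x' ∈ gloc t := by
  haveI : M.IsQuasicoherent := Groth.PicAux.isQCoh_of_isInvertible hM
  obtain ⟨U', e', hxU', he'⟩ := (Groth.PicAux.isInvertible_iff_exists_gen M).1 hM (g' x')
  obtain ⟨t, -, ht⟩ := Groth.Ega2Proj.exists_mem_gloc_of_mem_span he' hxU' Set.univ (c := 1)
    (by rw [Scheme.basicOpen_of_isUnit _ isUnit_one]; exact hxU')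
    (by
      rw [Set.image_univ]
      exact (span_at sq M x' (Groth.VarietyBC.GGen.spansStalks h x')).ge trivial)
  exact ⟨t, ht⟩

/-- Sections whose loci cover generate an inverse image. -/
theorem gg_pullback_of_gloc {X₀ Z : Scheme.{u}} {M : X₀.Modules} (hM : PicF.IsInvertible M) (k : Z ⟶ X₀)
    (hcov : ∀ z, ∃ t : Γ(M, (⊤ : X₀.Opens)), k z ∈ gloc t) :
    Curv2.IsGloballyGenerated ((Scheme.Modules.pullback k).obj M) := by
  refine Groth.Chow.isGloballyGenerated_of_cover (ι := Γ(M, (⊤ : X₀.Opens))) (fun t => pullSec k M t) ?_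
  refine eq_top_iff.2 fun z _ => ?_
  obtain ⟨t, ht⟩ := hcov z
  refine Opens.mem_iSup.2 ⟨t, ?_⟩
  rw [gloc_pullSec k hM t]
  exact ht

/-- Transport along an equality of maps. -/
theorem gg_pullback_congr {X X₀ Z : Scheme.{u}} (j : X₀ ⟶ X) (k : Z ⟶ X₀) (l : Z ⟶ X) (hk : k ≫ j = l)
    (L : X.Modules) (h : Curv2.IsGloballyGenerated ((Scheme.Modules.pullback l).obj L)) :
    Curv2.IsGloballyGenerated ((Scheme.Modules.pullback k).obj ((Scheme.Modules.pullback j).obj L)) := by
  subst hk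
  exact gg_of_iso ((Scheme.Modules.pullbackComp k j).app L).symm h

/-- Transport to a restriction. -/
theorem gg_restrict_of_pullback {X X₀ : Scheme.{u}} (j : X₀ ⟶ X) (L : X.Modules) (V : X.Opens)
    (k : V.toScheme ⟶ X₀) (hk : k ≫ j = V.ι)
    (h : Curv2.IsGloballyGenerated ((Scheme.Modules.pullback k).obj ((Scheme.Modules.pullback j).obj L))) :
    Curv2.IsGloballyGenerated (L.restrict V.ι) :=
  gg_of_iso ((Scheme.Modules.pullbackComp k j).app L ≪≫ (Scheme.Modules.pullbackCongr hk).app L ≪≫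
    ((Scheme.Modules.restrictFunctorIsoPullback V.ι).app L).symm) h

/-- Global generation over a neighbourhood. -/
theorem exists_nhd {X Y : Scheme.{u}} (f : X ⟶ Y) [IsProper f]
    (L : X.Modules) (hL : PicF.IsInvertible L) (y : Y)
    (h : Curv2.IsGloballyGenerated
      ((Scheme.Modules.pullback (pullback.fst f (Y.fromSpecStalk y))).obj L)) :
    ∃ V : Y.Opens, y ∈ V ∧ Curv2.IsGloballyGenerated (L.restrict (f ⁻¹ᵁ V).ι) := by
  obtain ⟨U, hU, hyU, -⟩ := exists_isAffineOpen_mem_and_subset (x := y) (U := (⊤ : Y.Opens)) trivial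
  haveI : IsAffine U := hU
  let f₀ : (f ⁻¹ᵁ U : X.Opens).toScheme ⟶ U.toScheme := f ∣_ U
  let j : (f ⁻¹ᵁ U : X.Opens).toScheme ⟶ X := (f ⁻¹ᵁ U).ι
  let g₀ : Spec (Y.presheaf.stalk y) ⟶ U.toScheme :=
    IsOpenImmersion.lift U.ι (Y.fromSpecStalk y) (by
      rw [Scheme.Opens.range_ι, Scheme.range_fromSpecStalk]
      exact fun z hz => (Specializes.mem_open hz U.2 hyU))
  have hg₀ : g₀ ≫ U.ι = Y.fromSpecStalk y := IsOpenImmersion.lift_fac _ _ _
  haveI : Flat g₀ := MorphismProperty.of_postcomp (W := @Flat) (W' := @IsOpenImmersion) g₀ U.ι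
    inferInstance (by rw [hg₀]; exact Groth.PropsBasic2.flat_fromSpecStalk y)
  let q := pullback.fst f (Y.fromSpecStalk y)
  let q₀ : pullback f (Y.fromSpecStalk y) ⟶ (f ⁻¹ᵁ U : X.Opens).toScheme :=
    (isPullback_morphismRestrict f U).lift (pullback.snd f (Y.fromSpecStalk y) ≫ g₀) q
      (by rw [Category.assoc, hg₀]; exact pullback.condition.symm)
  have hq₀ : q₀ ≫ j = q := (isPullback_morphismRestrict f U).lift_snd _ _ _
  have sq : IsPullback q₀ (pullback.snd f (Y.fromSpecStalk y)) f₀ g₀ := by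
    refine IsPullback.of_right (h₁₂ := j) (v₁₃ := f) (h₂₂ := U.ι) ?_
      ((isPullback_morphismRestrict f U).lift_fst _ _ _) (isPullback_morphismRestrict f U).flip
    rw [hq₀, hg₀]
    exact IsPullback.of_hasPullback f (Y.fromSpecStalk y)
  have hM : PicF.IsInvertible ((Scheme.Modules.pullback j).obj L) :=
    Groth.PicAux.isInvertible_pullback j hL
  have hMg : Curv2.IsGloballyGenerated
      ((Scheme.Modules.pullback q₀).obj ((Scheme.Modules.pullback j).obj L)) :=
    gg_pullback_congr j q₀ q hq₀ L h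
  let W₀ : (f ⁻¹ᵁ U : X.Opens).toScheme.Opens :=
    ⨆ t : Γ((Scheme.Modules.pullback j).obj L, (⊤ : (f ⁻¹ᵁ U : X.Opens).toScheme.Opens)), gloc t
  let W : X.Opens := j ''ᵁ W₀
  have hfib : ∀ x : X, f x = y → x ∈ W := by
    intro x hx
    obtain ⟨c, hc⟩ : ∃ c, Y.fromSpecStalk y c = f x :=
      ⟨_, (Scheme.fromSpecStalk_closedPoint (X := Y) (x := y)).trans hx.symm⟩
    obtain ⟨x', hx'1, -⟩ := Scheme.Pullback.exists_preimage_pullback x c hc.symm
    obtain ⟨t, ht⟩ := exists_mem_gloc_of_pullback sq _ hM hMg x'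
    refine ⟨q₀ x', Opens.mem_iSup.2 ⟨t, ht⟩, ?_⟩
    rw [← hx'1]
    exact congr(($hq₀) x')
  let V : Y.Opens := U ⊓ ⟨(f '' (W : Set X)ᶜ)ᶜ,
    (f.isClosedMap _ W.2.isClosed_compl).isOpen_compl⟩
  refine ⟨V, ⟨hyU, fun ⟨x, hx, hxy⟩ => hx (hfib x hxy)⟩, ?_⟩
  let k : (f ⁻¹ᵁ V : X.Opens).toScheme ⟶ (f ⁻¹ᵁ U : X.Opens).toScheme :=
    X.homOfLE (f.preimage_mono inf_le_left)
  have hk : k ≫ j = (f ⁻¹ᵁ V).ι := Scheme.homOfLE_ι _ _
  refine gg_restrict_of_pullback j L _ k hk (gg_pullback_of_gloc hM k fun z => ?_)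
  have hzV : f ((f ⁻¹ᵁ V).ι z) ∈ V := z.2
  have hzW : (f ⁻¹ᵁ V).ι z ∈ W := by
    by_contra hc
    exact hzV.2 ⟨_, hc, rfl⟩
  obtain ⟨w, hw, hwz⟩ := hzW
  have hwk : w = k z := j.isOpenEmbedding.injective (hwz.trans congr(($hk.symm) z))
  exact Opens.mem_iSup.1 (hwk ▸ hw)

end Groth.CohTwo.GGNhd
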