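import Groth.Agent.CohTwo.SectOnRestrict
import Groth.Agent.QCohMod.QCQS
import Groth.Agent.QCohMod.Local
import Groth.Agent.QCohMod.Affine
import Groth.Agent.CohTwo.GammaExtAlg
import Mathlib.AlgebraicGeometry.Noetherian

/-!
Sections with supports of quasi-coherent modules.
-/

universe u

open CategoryTheory CategoryTheory.Limits AlgebraicGeometry TopologicalSpace Opposite

set_option backward.isDefEq.respectTransparency false
set_option linter.style.haveILetI false

namespace Groth.CohTwo.GammaSh

open Groth.QCohMod (resFun)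

variable {X : Scheme.{u}} [IsLocallyNoetherian X] (U : X.Opens)

theorem isCompact_inf {V : X.Opens} (hV : IsAffineOpen V) : IsCompact ((V ⊓ U : X.Opens) : Set X) := by
  haveI : IsNoetherianRing Γ(X, V) := IsLocallyNoetherian.component_noetherian ⟨V, hV⟩
  have h : ((V ⊓ U : X.Opens) : Set X) = hV.fromSpec '' (hV.fromSpec ⁻¹' (U : Set X)) := by
    rw [Set.image_preimage_eq_inter_range, hV.range_fromSpec, Set.inter_comm]
    rfl
  rw [h]
  exact (TopologicalSpace.NoetherianSpace.isCompact _).image hV.fromSpec.continuous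

/-- Sections with supports of a quasi-coherent module are quasi-coherent. -/
theorem isQCoh_gam (H : X.Modules) [H.IsQuasicoherent] : ((gam U).obj H).IsQuasicoherent := by
  haveI := mono_gι U H
  refine QCohMod.isQCoh_of_forall_affine _ (fun V hV f s => ?_) (fun V hV f t ht => ?_)
  · obtain ⟨n, t, ht⟩ := QCohMod.exists_pow_smul_eq_res H hV f ((gι U H).app (X.basicOpen f) s)
    let f' : Γ(X, V ⊓ U) := resFun X (inf_le_left : V ⊓ U ≤ V) f
    have hb : X.basicOpen f' ≤ X.basicOpen f ⊓ U := by
      rw [show X.basicOpen f' = V ⊓ U ⊓ X.basicOpen f from X.basicOpen_res f _]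
      exact le_inf inf_le_right (inf_le_left.trans inf_le_right)
    obtain ⟨l, hl⟩ := QCohMod.exists_pow_smul_eq_zero_of_isCompact H (isCompact_inf U hV) f'
      (res H (inf_le_left : V ⊓ U ≤ V) t) (by
        change res H (X.basicOpen_le f') (res H inf_le_left t) = 0
        rw [res_res, ← res_res H (hb.trans inf_le_left) (X.basicOpen_le f) t]
        refine (congrArg (res H (hb.trans inf_le_left)) ht).trans ?_
        rw [res_smul, ← res_res H hb inf_le_left]
        rw [res_gι, map_zero, smul_zero])
    obtain ⟨t', ht'⟩ := mem_range_gι U H (W := V) (s := f ^ l • t) (by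
      rw [res_smul]
      refine Eq.trans ?_ hl
      congr 1
      exact map_pow _ _ _)
    refine ⟨l + n, t', app_injective (gι U H) _ ?_⟩
    refine (app_res (gι U H) (X.basicOpen_le f) t').trans ?_
    rw [ht', res_smul, (gι U H).app_smul, pow_add, mul_smul]
    refine congrArg₂ (fun a b => a • b) (map_pow _ _ _) ht
  · obtain ⟨n, hn⟩ := QCohMod.exists_pow_smul_eq_zero H hV f ((gι U H).app V t)
      ((app_res (gι U H) _ t).symm.trans ((congrArg _ ht).trans (map_zero _)))
    exact ⟨n, app_injective (gι U H) V (((gι U H).app_smul _ _).trans (hn.trans (map_zero _).symm))⟩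

omit [IsLocallyNoetherian X] in
/-- The functions on `V` whose basic open lies in `U`. -/
def opensIdeal (V : X.Opens) : Ideal Γ(X, V) where
  carrier := {f | X.basicOpen f ≤ U}
  add_mem' {f g} hf hg := fun x hx => by
    have hxV : x ∈ V := X.basicOpen_le _ hx
    have hu := (Scheme.mem_basicOpen X (f + g) x hxV).1 hx
    rw [map_add] at hu
    rcases IsLocalRing.isUnit_or_isUnit_of_isUnit_add hu with h | h
    · exact hf ((Scheme.mem_basicOpen X f x hxV).2 h)
    · exact hg ((Scheme.mem_basicOpen X g x hxV).2 h)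
  zero_mem' := by
    change X.basicOpen (0 : Γ(X, V)) ≤ U
    rw [Scheme.basicOpen_zero]
    exact bot_le
  smul_mem' c f hf := by
    change X.basicOpen (c * f) ≤ U
    rw [Scheme.basicOpen_mul]
    exact inf_le_right.trans hf

omit [IsLocallyNoetherian X] in
theorem mem_iff_not_le {V : X.Opens} (hV : IsAffineOpen V) {x : X} (hx : x ∈ V) :
    x ∈ U ↔ ¬ opensIdeal U V ≤ (hV.primeIdealOf ⟨x, hx⟩).asIdeal := by
  rw [SetLike.not_le_iff_exists]
  constructor
  · intro hxU
    obtain ⟨f, hxf, hfU⟩ := QCohMod.exists_basicOpen_mem hV hx hxU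
    exact ⟨f, hfU, (QCohMod.mem_basicOpen_iff_notMem_primeIdealOf hV f x hx).1 hxf⟩
  · rintro ⟨f, hf, hfp⟩
    exact hf ((QCohMod.mem_basicOpen_iff_notMem_primeIdealOf hV f x hx).2 hfp)

/-- The sections with supports over an affine open are the torsion sections. -/
theorem res_eq_zero_iff_mem_tors (H : X.Modules) [H.IsQuasicoherent] {V : X.Opens}
    (hV : IsAffineOpen V) (t : Γ(H, V)) :
    res H (inf_le_left : V ⊓ U ≤ V) t = 0 ↔ t ∈ GammaExt.tors (opensIdeal U V) Γ(H, V) := by
  haveI : IsNoetherianRing Γ(X, V) := IsLocallyNoetherian.component_noetherian ⟨V, hV⟩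
  constructor
  · intro h
    let J : Ideal Γ(X, V) := LinearMap.ker (LinearMap.toSpanSingleton Γ(X, V) Γ(H, V) t)
    have hJ : opensIdeal U V ≤ J.radical := by
      intro f hf
      obtain ⟨n, hn⟩ := QCohMod.exists_pow_smul_eq_zero H hV f t (by
        have hle : X.basicOpen f ≤ V ⊓ U := le_inf (X.basicOpen_le f) hf
        change res H (X.basicOpen_le f) t = 0
        rw [← res_res H hle inf_le_left t, h, map_zero])
      exact ⟨n, hn⟩
    obtain ⟨n, hn⟩ := Ideal.exists_pow_le_of_le_radical_of_fg hJ (IsNoetherian.noetherian _)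
    exact ⟨n, fun r hr => hn hr⟩
  · rintro ⟨n, hn⟩
    refine eq_of_local H _ _ fun x hx => ?_
    obtain ⟨f, hxf, hfW⟩ := QCohMod.exists_basicOpen_mem hV hx.1 hx
    have hf : f ∈ opensIdeal U V := hfW.trans inf_le_right
    refine ⟨X.basicOpen f, hfW, hxf, ?_⟩
    rw [map_zero, res_res]
    have h0 := congrArg (res H (X.basicOpen_le f)) (hn (f ^ n) (Ideal.pow_mem_pow hf n))
    rw [map_zero, res_smul] at h0
    refine (IsUnit.smul_eq_zero ?_).1 h0
    change IsUnit ((X.presheaf.map (homOfLE (X.basicOpen_le f)).op) (f ^ n))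
    rw [map_pow]
    exact (RingedSpace.isUnit_res_basicOpen _ f).pow n

end Groth.CohTwo.GammaSh
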