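import Mathlib.Dynamics.Newton
import Mathlib.RingTheory.Etale.Field
import Mathlib.RingTheory.Etale.Basic
import Mathlib.RingTheory.TensorProduct.Maps
import Mathlib.LinearAlgebra.TensorProduct.RightExactness

/-!
Simple roots along surjections with nilpotent kernel, and separable equations in étale algebras.
-/

universe u

open Polynomial
open scoped TensorProduct

namespace Groth.CohTwo.RootLift

variable {A : Type u} [CommRing A]

lemma existsUnique_root_lift {T S : Type u} [CommRing T] [CommRing S] [Algebra A T] [Algebra A S]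
    (π : T →ₐ[A] S) (hπ : Function.Surjective π) (hnil : ∀ a, π a = 0 → IsNilpotent a)
    {z : S} {F : A[X]} (h0 : aeval z F = 0) (h1 : IsUnit (aeval z F.derivative)) :
    ∃! w : T, π w = z ∧ aeval w F = 0 := by
  obtain ⟨x, rfl⟩ := hπ z
  rw [aeval_algHom_apply] at h0 h1
  have hx1 : IsUnit (aeval x F.derivative) := by
    obtain ⟨b, hb⟩ := hπ ↑h1.unit⁻¹
    have hn : IsNilpotent (aeval x F.derivative * b - 1) := hnil _ (by
      rw [map_sub, map_mul, map_one, hb, IsUnit.mul_val_inv, sub_self])
    have := hn.isUnit_add_one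
    rw [sub_add_cancel] at this
    exact isUnit_of_mul_isUnit_left this
  obtain ⟨r, ⟨hr, hr0⟩, huniq⟩ :=
    existsUnique_nilpotent_sub_and_aeval_eq_zero (P := F) (hnil _ h0) hx1
  have hz0 : aeval (π x) F = 0 := by rw [aeval_algHom_apply]; exact h0
  have hz1 : IsUnit (aeval (π x) F.derivative) := by rw [aeval_algHom_apply]; exact hx1.map π
  have hrx : π r = π x :=
    (existsUnique_nilpotent_sub_and_aeval_eq_zero (P := F) (x := π x) ⟨1, by simp [hz0]⟩ hz1).unique
      ⟨by rw [← map_sub]; exact hr.map π, by rw [aeval_algHom_apply, hr0, map_zero]⟩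
      ⟨by rw [sub_self]; exact IsNilpotent.zero, hz0⟩
  exact ⟨r, ⟨hrx, hr0⟩, fun w ⟨hw, hw0⟩ => huniq w ⟨hnil _ (by rw [map_sub, hw, sub_self]), hw0⟩⟩

/-- In an étale algebra over a field every element is a simple root of a polynomial. -/
lemma exists_simple_root {k R : Type u} [Field k] [CommRing R] [Algebra k R] [Algebra.Etale k R]
    (x : R) : ∃ f : k[X], aeval x f = 0 ∧ IsUnit (aeval x f.derivative) := by
  classical
  obtain ⟨I, hI, K, _, _, e, hsep⟩ :=
    (Algebra.FormallyEtale.iff_exists_algEquiv_prod k R).1 inferInstance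
  have := Fintype.ofFinite I
  let s : Finset k[X] := Finset.univ.image fun i => minpoly k (e x i)
  have hs : ∀ p ∈ s, ∃ i, minpoly k (e x i) = p := fun p hp => by simpa [s] using hp
  have hint : ∀ i, IsIntegral k (e x i) := fun i => (Algebra.IsSeparable.isSeparable k (e x i)).isIntegral
  have hf : (∏ p ∈ s, p).Separable := by
    refine separable_prod' (fun p hp q hq hpq => ?_) fun p hp => ?_
    · obtain ⟨i, rfl⟩ := hs p hp
      obtain ⟨j, rfl⟩ := hs q hq
      refine (minpoly.irreducible (hint i)).coprime_iff_not_dvd.2 fun h => hpq ?_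
      exact eq_of_monic_of_associated (minpoly.monic (hint i)) (minpoly.monic (hint j))
        ((minpoly.irreducible (hint i)).associated_of_dvd (minpoly.irreducible (hint j)) h)
    · obtain ⟨i, rfl⟩ := hs p hp
      exact Algebra.IsSeparable.isSeparable k (e x i)
  have h0 : aeval x (∏ p ∈ s, p) = 0 := by
    refine e.injective (funext fun i => ?_)
    rw [map_zero, Pi.zero_apply, ← aeval_algHom_apply, aeval_pi_apply₂, map_prod]
    exact Finset.prod_eq_zero (Finset.mem_image_of_mem _ (Finset.mem_univ i)) (minpoly.aeval _ _)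
  refine ⟨∏ p ∈ s, p, h0, ?_⟩
  obtain ⟨a, b, hab⟩ := hf
  have h := congrArg (aeval x) hab
  rw [map_add, map_mul, map_mul, h0, mul_zero, zero_add, map_one] at h
  exact IsUnit.of_mul_eq_one_right _ h

lemma isNilpotent_of_map_eq_zero {B T S : Type u} [CommRing B] [CommRing T] [CommRing S]
    [Algebra A B] [Algebra A T] [Algebra A S] (π : T →ₐ[A] S) (hπ : Function.Surjective π)
    (hnil : ∀ a, π a = 0 → IsNilpotent a) (z : B ⊗[A] T)
    (hz : Algebra.TensorProduct.map (AlgHom.id A B) π z = 0) : IsNilpotent z := by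
  have hz' : π.toLinearMap.lTensor B z = 0 := hz
  obtain ⟨y, rfl⟩ :=
    (lTensor_exact B (LinearMap.exact_subtype_ker_map π.toLinearMap) hπ z).1 hz'
  clear hz hz'
  induction y using TensorProduct.induction_on with
  | zero => rw [map_zero]; exact IsNilpotent.zero
  | add a b ha hb => rw [map_add]; exact (Commute.all _ _).isNilpotent_add ha hb
  | tmul b c =>
    obtain ⟨n, hn⟩ := hnil (c : T) c.2
    refine ⟨n, ?_⟩
    rw [LinearMap.lTensor_tmul, Algebra.TensorProduct.tmul_pow, Submodule.subtype_apply, hn,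
      TensorProduct.tmul_zero]

end Groth.CohTwo.RootLift
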