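import Groth.Agent.CohBase.BaseChangeModel
import Groth.Agent.QCohMod.Coherent
import Groth.Agent.CohTwo.RootLift

/-!
Lifting global functions that are simple roots, in the tensored Čech complex.
-/

universe u

open CategoryTheory Limits AlgebraicGeometry TopologicalSpace Opposite
open scoped TensorProduct
open Groth.QCohMod (resFun resFun_resFun resFun_self)
open Polynomial (aeval derivative)

namespace Groth.CohTwo

open Groth.CohBase

section Sections

variable (A : Type u) [CommRing A] {X : Scheme.{u}} [X.Over (Spec (CommRingCat.of A))]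

/-- Functions on an open as an algebra over the base ring. -/
noncomputable local instance secAlgebra (W : X.Opens) : Algebra A Γ(X, W) := (toSec A W).toAlgebra

/-- Restriction of functions. -/
noncomputable def resAlg {V W : X.Opens} (h : V ≤ W) : Γ(X, W) →ₐ[A] Γ(X, V) :=
  { resFun X h with commutes' := fun a => resFun_toSec A h a }

/-- Sections of the structure module are functions. -/
noncomputable def secUnit (W : X.Opens) :
    secA A (Coh.structureModule X) W ≃ₗ[A] Γ(X, W) where
  toFun s := (show Γ(X, W) from s)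
  invFun s := (show secA A (Coh.structureModule X) W from s)
  map_add' _ _ := rfl
  map_smul' _ _ := rfl
  left_inv _ := rfl
  right_inv _ := rfl

lemma secUnit_res {V W : X.Opens} (h : V ≤ W) :
    (secUnit A V).toLinearMap.comp (secRes A (Coh.structureModule X) h) =
      (resAlg A h).toLinearMap.comp (secUnit A W).toLinearMap :=
  LinearMap.ext fun _ => rfl

variable {A}

lemma secUnit_res_rTensor {V W : X.Opens} (h : V ≤ W) (M : Type u) [AddCommGroup M] [Module A M]
    (z : secA A (Coh.structureModule X) W ⊗[A] M) :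
    (secUnit A V).toLinearMap.rTensor M ((secRes A (Coh.structureModule X) h).rTensor M z) =
      (resAlg A h).toLinearMap.rTensor M ((secUnit A W).toLinearMap.rTensor M z) := by
  rw [← LinearMap.rTensor_comp_apply, secUnit_res, LinearMap.rTensor_comp_apply]

variable {A' : Type u} [CommRing A'] [Algebra A A'] {X' : Scheme.{u}}
  [X'.Over (Spec (CommRingCat.of A'))]

/-- Functions upstairs as an algebra over the base ring downstairs. -/
noncomputable abbrev secAlgebra' (A : Type u) [CommRing A] (A' : Type u) [CommRing A']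
    [Algebra A A'] {X' : Scheme.{u}} [X'.Over (Spec (CommRingCat.of A'))] (V : X'.Opens) :
    Algebra A Γ(X', V) :=
  ((toSec A' V).comp (algebraMap A A')).toAlgebra

variable {g : X' ⟶ X} (hsq : IsBC (A := A) (A' := A') g)

/-- Inverse image of functions, with scalars extended. -/
noncomputable def bcFun (W : X.Opens) : Γ(X, W) ⊗[A] A' →+* Γ(X', g ⁻¹ᵁ W) :=
  letI := secAlgebra' A A' (g ⁻¹ᵁ W)
  (Algebra.TensorProduct.lift
    ({ (g.app W).hom with commutes' := fun a => app_toSec hsq W a } : Γ(X, W) →ₐ[A] Γ(X', g ⁻¹ᵁ W))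
    ({ toSec A' (g ⁻¹ᵁ W) with commutes' := fun _ => rfl } : A' →ₐ[A] Γ(X', g ⁻¹ᵁ W))
    fun _ _ => Commute.all _ _).toRingHom

lemma bcFun_tmul (W : X.Opens) (r : Γ(X, W)) (b : A') :
    bcFun hsq W (r ⊗ₜ b) = g.app W r * toSec A' (g ⁻¹ᵁ W) b := rfl

lemma bcFun_algebraMap (W : X.Opens) (a : A) :
    bcFun hsq W (algebraMap A (Γ(X, W) ⊗[A] A') a) = toSec A' (g ⁻¹ᵁ W) (algebraMap A A' a) := by
  rw [Algebra.TensorProduct.algebraMap_apply, bcFun_tmul, map_one, mul_one]
  exact app_toSec hsq W a


lemma resFun_bcFun {V W : X.Opens} (h : V ≤ W) (z : Γ(X, W) ⊗[A] A') :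
    resFun X' (g.preimage_mono h) (bcFun hsq W z) =
      bcFun hsq V ((resAlg A h).toLinearMap.rTensor A' z) := by
  induction z using TensorProduct.induction_on with
  | zero => simp
  | add p q hp hq => simp only [map_add, hp, hq]
  | tmul r b =>
    rw [bcFun_tmul, map_mul, LinearMap.rTensor_tmul, bcFun_tmul, resFun_toSec]
    congr 1
    exact (congr($(g.naturality (homOfLE h).op) r)).symm

lemma bcFun_bijective {W : X.Opens} (hW : IsAffineOpen W) :
    Function.Bijective (bcFun hsq W) := by
  let h₀ := CommRingCat.isPushout_tensorProduct A Γ(X, W) A'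
  let i := IsPushout.isoIsPushout _ _ h₀ (isPushout_toSec hsq hW)
  have hi : ∀ z, bcFun hsq W z = i.hom z := by
    intro z
    induction z using TensorProduct.induction_on with
    | zero => simp
    | add p q hp hq => rw [map_add, hp, hq, map_add]
    | tmul r b =>
      rw [show r ⊗ₜ[A] b = (r ⊗ₜ[A] (1 : A')) * ((1 : Γ(X, W)) ⊗ₜ[A] b) by simp]
      refine Eq.trans ?_ (map_mul i.hom.hom _ _).symm
      rw [map_mul]
      congr 1
      · rw [bcFun_tmul, map_one, mul_one]
        exact congr($(IsPushout.inl_isoIsPushout_hom _ _ h₀ (isPushout_toSec hsq hW)) r).symm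
      · rw [bcFun_tmul, map_one, one_mul]
        exact congr($(IsPushout.inr_isoIsPushout_hom _ _ h₀ (isPushout_toSec hsq hW)) b).symm
  rw [show (bcFun hsq W : _ → _) = i.hom from funext hi]
  exact ConcreteCategory.bijective_of_isIso _

end Sections

variable {A : Type u} [CommRing A] {X : Scheme.{u}} [X.Over (Spec (CommRingCat.of A))]

attribute [local instance] secAlgebra

/-- Simple roots lift along a surjection of algebras with nilpotent kernel, in degree zero of the
tensored Čech complex. -/
theorem surjective_TFun_map_of_roots {R S : Type u} [CommRing R] [CommRing S] [Algebra A R]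
    [Algebra A S] (π : R →ₐ[A] S) (hπ : Function.Surjective π)
    (hnil : ∀ a, π a = 0 → IsNilpotent a) {X' : Scheme.{u}} [X'.Over (Spec (CommRingCat.of S))]
    {g : X' ⟶ X} (hsq : IsBC (A := A) (A' := S) g) (G : GoodCover X)
    (hroot : ∀ s : Γ(X', ⊤), ∃ F : Polynomial A,
      F.eval₂ ((toSec S ⊤).comp (algebraMap A S)) s = 0 ∧
        IsUnit (F.derivative.eval₂ ((toSec S ⊤).comp (algebraMap A S)) s)) :
    Function.Surjective
      ((CohIII.TFun (cxA A G.U (Coh.structureModule X)) ((0 : ℕ) : ℤ)).map
        (ModuleCat.ofHom π.toLinearMap : ModuleCat.of A R ⟶ ModuleCat.of A S)) := by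
  classical
  have := Fintype.ofFinite G.ι
  let O := Coh.structureModule X
  let I := Fin 1 → G.ι
  let J := Fin 2 → G.ι
  let δ : Fin 2 → J → I := fun a j => j ∘ a.succAbove
  have hle : ∀ (a : Fin 2) (j : J), tupOpen G.U j ≤ tupOpen G.U (δ a j) := fun a j =>
    inter_comp (X := X.toTopCat) G.U j a.succAbove
  -- components of a cochain
  let pr : ∀ (M : Type u) [AddCommGroup M] [Module A M] (x : I),
      cxC A G.U O 0 ⊗[A] M →ₗ[A] Γ(X, tupOpen G.U x) ⊗[A] M := fun M _ _ x =>
    ((secUnit A (tupOpen G.U x)).toLinearMap.comp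
      (LinearMap.proj (R := A) (φ := fun x => secA A O (tupOpen G.U x)) x)).rTensor M
  let pr' : ∀ (M : Type u) [AddCommGroup M] [Module A M] (j : J),
      cxC A G.U O 1 ⊗[A] M →ₗ[A] Γ(X, tupOpen G.U j) ⊗[A] M := fun M _ _ j =>
    ((secUnit A (tupOpen G.U j)).toLinearMap.comp
      (LinearMap.proj (R := A) (φ := fun x => secA A O (tupOpen G.U x)) j)).rTensor M
  have hd : ∀ (M : Type u) [AddCommGroup M] [Module A M] (z : cxC A G.U O 0 ⊗[A] M) (j : J),
      pr' M j ((cxD A G.U O 0).rTensor M z) =
        (resAlg A (hle 0 j)).toLinearMap.rTensor M (pr M (δ 0 j) z) -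
          (resAlg A (hle 1 j)).toLinearMap.rTensor M (pr M (δ 1 j) z) := by
    intro M _ _ z j
    induction z using TensorProduct.induction_on with
    | zero => simp
    | add p q hp hq => simp only [map_add, hp, hq]; abel
    | tmul s m =>
      simp only [pr, pr', LinearMap.rTensor_tmul, ← TensorProduct.sub_tmul]
      congr 1
      change secUnit A _ (cxD A G.U O 0 s j) = _
      rw [cxD, LinearMap.pi_apply, LinearMap.sum_apply, Fin.sum_univ_two]
      simp only [Fin.val_zero, pow_zero, one_smul, Fin.val_one, pow_one, neg_smul,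
        LinearMap.neg_apply, ← sub_eq_add_neg, map_sub]
      rfl
  refine (FlatCxBase.TFun_map_surjective_iff _ (FlatCxBase.cochain_prev _)
    (FlatCxBase.cochain_next _) _).2 fun y hy => ?_
  have hy0 : (cxD A G.U O 0).rTensor S y = 0 := (SecModel.cxA_d_rTensor 0 y).symm.trans hy
  have hyc : ∀ j, (resAlg A (hle 0 j)).toLinearMap.rTensor S (pr S (δ 0 j) y) =
      (resAlg A (hle 1 j)).toLinearMap.rTensor S (pr S (δ 1 j) y) := fun j =>
    sub_eq_zero.1 ((hd S y j).symm.trans (by rw [hy0, map_zero]))
  -- the global function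
  let V : I → X'.Opens := fun x => g ⁻¹ᵁ tupOpen G.U x
  let s : ∀ x : I, Γ(X', V x) := fun x => bcFun hsq _ (pr S x y)
  have hcov : (⊤ : X'.Opens) ≤ iSup V := by
    intro p _
    obtain ⟨i, hi⟩ := Opens.mem_iSup.1 (G.hcov.ge (Opens.mem_top (g p)))
    refine Opens.mem_iSup.2 ⟨fun _ => i, ?_⟩
    change g p ∈ tupOpen G.U fun _ => i
    exact (le_iInf fun _ => le_rfl : G.U i ≤ tupOpen G.U fun _ : Fin 1 => i) hi
  have hres : ∀ j, resFun X' (g.preimage_mono (hle 0 j)) (s (δ 0 j)) =
      resFun X' (g.preimage_mono (hle 1 j)) (s (δ 1 j)) := fun j => by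
    exact ((resFun_bcFun hsq (hle 0 j) _).trans (congrArg _ (hyc j))).trans
      (resFun_bcFun hsq (hle 1 j) _).symm
  have hcompat : TopCat.Presheaf.IsCompatible X'.sheaf.1 V s := by
    intro x x'
    let j : J := ![x 0, x' 0]
    have e1 : δ 1 j = x := funext fun a => by fin_cases a; rfl
    have e0 : δ 0 j = x' := funext fun a => by fin_cases a; rfl
    have hj : V x ⊓ V x' ≤ g ⁻¹ᵁ tupOpen G.U j := by
      intro p hp
      change g p ∈ tupOpen G.U j
      rw [tupOpen, inter, ← SetLike.mem_coe, Opens.coe_iInf, Set.mem_iInter]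
      intro a
      fin_cases a
      · exact inter_le (X := X.toTopCat) G.U x 0 hp.1
      · exact inter_le (X := X.toTopCat) G.U x' 0 hp.2
    have key : ∀ (a a' : I) (ea : δ 1 j = a) (ea' : δ 0 j = a') (ha : V x ⊓ V x' ≤ V a)
        (ha' : V x ⊓ V x' ≤ V a'), resFun X' ha (s a) = resFun X' ha' (s a') := by
      rintro a a' rfl rfl ha ha'
      rw [← resFun_resFun (g.preimage_mono (hle 1 j)) hj (s (δ 1 j)),
        ← resFun_resFun (g.preimage_mono (hle 0 j)) hj (s (δ 0 j)), hres j]
    exact key x x' e1 e0 inf_le_left inf_le_right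
  obtain ⟨t, ht, -⟩ : ∃! t : Γ(X', ⊤), ∀ x : I, resFun X' (le_top : V x ≤ ⊤) t = s x :=
    X'.sheaf.existsUnique_gluing' V ⊤ (fun x => homOfLE le_top) hcov s hcompat
  obtain ⟨F, hF0, hF1⟩ := hroot t
  -- components are roots
  have hzroot : ∀ x : I, aeval (pr S x y) F = 0 ∧ IsUnit (aeval (pr S x y) F.derivative) := by
    intro x
    let := secAlgebra' A S (⊤ : X'.Opens)
    let := secAlgebra' A S (V x)
    let r : Γ(X', ⊤) →ₐ[A] Γ(X', V x) :=
      { resFun X' (le_top : V x ≤ ⊤) with
        commutes' := fun a => resFun_toSec S (le_top : V x ≤ ⊤) (algebraMap A S a) }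
    let b : Γ(X, tupOpen G.U x) ⊗[A] S →ₐ[A] Γ(X', V x) :=
      { bcFun hsq (tupOpen G.U x) with commutes' := bcFun_algebraMap hsq _ }
    let e := AlgEquiv.ofBijective b (bcFun_bijective hsq (G.affine x))
    have hx : pr S x y = (e.symm.toAlgHom.comp r) t :=
      e.injective ((ht x).symm.trans (e.apply_symm_apply _).symm)
    have hF0' : aeval t F = 0 := hF0
    have hF1' : IsUnit (aeval t F.derivative) := hF1
    rw [hx, Polynomial.aeval_algHom_apply, Polynomial.aeval_algHom_apply, hF0', map_zero]
    exact ⟨rfl, hF1'.map _⟩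
  let πW : ∀ W : X.Opens, Γ(X, W) ⊗[A] R →ₐ[A] Γ(X, W) ⊗[A] S := fun W =>
    Algebra.TensorProduct.map (AlgHom.id A _) π
  have hπW : ∀ W, Function.Surjective (πW W) := fun W => LinearMap.lTensor_surjective _ hπ
  have hnW : ∀ W a, πW W a = 0 → IsNilpotent a := fun W a ha =>
    RootLift.isNilpotent_of_map_eq_zero π hπ hnil a ha
  choose w hw hwu using fun x =>
    RootLift.existsUnique_root_lift (πW _) (hπW _) (hnW _) (hzroot x).1 (hzroot x).2
  -- compatibility of the lifts
  let rho : ∀ (T : Type u) [CommRing T] [Algebra A T] (a : Fin 2) (j : J),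
      Γ(X, tupOpen G.U (δ a j)) ⊗[A] T →ₐ[A] Γ(X, tupOpen G.U j) ⊗[A] T := fun T _ _ a j =>
    Algebra.TensorProduct.map (resAlg A (hle a j)) (AlgHom.id A T)
  have hnat : ∀ a j z, πW _ (rho R a j z) = rho S a j (πW _ z) := fun a j z => by
    induction z using TensorProduct.induction_on with
    | zero => simp
    | add p q hp hq => simp only [map_add, hp, hq]
    | tmul b c => rfl
  have hwc : ∀ j, rho R 0 j (w (δ 0 j)) = rho R 1 j (w (δ 1 j)) := fun j => by
    have hz : rho S 0 j (pr S (δ 0 j) y) = rho S 1 j (pr S (δ 1 j) y) := hyc j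
    refine (RootLift.existsUnique_root_lift (πW _) (hπW _) (hnW _)
      (z := rho S 0 j (pr S (δ 0 j) y)) (F := F)
      (by rw [Polynomial.aeval_algHom_apply, (hzroot _).1, map_zero])
      (by rw [Polynomial.aeval_algHom_apply]; exact (hzroot _).2.map _)).unique
      ⟨?_, ?_⟩ ⟨?_, ?_⟩
    · rw [hnat, (hw _).1]
    · rw [Polynomial.aeval_algHom_apply, (hw _).2, map_zero]
    · rw [hnat, (hw _).1, hz]
    · rw [Polynomial.aeval_algHom_apply, (hw _).2, map_zero]
  -- reassemble
  let emb : ∀ (M : Type u) [AddCommGroup M] [Module A M] (x : I),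
      Γ(X, tupOpen G.U x) ⊗[A] M →ₗ[A] cxC A G.U O 0 ⊗[A] M := fun M _ _ x =>
    ((LinearMap.single A (fun x : I => (secA A O (tupOpen G.U x) : Type u)) x).comp
      (secUnit A (tupOpen G.U x)).symm.toLinearMap).rTensor M
  have hpe : ∀ (M : Type u) [AddCommGroup M] [Module A M] (x x' : I)
      (v : Γ(X, tupOpen G.U x') ⊗[A] M) (hne : x' ≠ x), pr M x (emb M x' v) = 0 := by
    intro M _ _ x x' v hne
    induction v using TensorProduct.induction_on with
    | zero => simp
    | add p q hp hq => simp only [map_add, hp, hq, add_zero]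
    | tmul b c =>
      simp only [pr, emb, LinearMap.rTensor_tmul, LinearMap.comp_apply, LinearMap.proj_apply]
      rw [LinearMap.coe_single, Pi.single_eq_of_ne (Ne.symm hne)]
      simp
  have hpe' : ∀ (M : Type u) [AddCommGroup M] [Module A M] (x : I)
      (v : Γ(X, tupOpen G.U x) ⊗[A] M), pr M x (emb M x v) = v := by
    intro M _ _ x v
    induction v using TensorProduct.induction_on with
    | zero => simp
    | add p q hp hq => simp only [map_add, hp, hq]
    | tmul b c =>
      simp only [pr, emb, LinearMap.rTensor_tmul, LinearMap.comp_apply, LinearMap.proj_apply]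
      rw [LinearMap.coe_single, Pi.single_eq_same]
      rfl
  have hid : ∀ (M : Type u) [AddCommGroup M] [Module A M] (z : cxC A G.U O 0 ⊗[A] M),
      z = ∑ x, emb M x (pr M x z) := by
    intro M _ _ z
    induction z using TensorProduct.induction_on with
    | zero => simp
    | add p q hp hq => simp only [map_add, Finset.sum_add_distrib, ← hp, ← hq]
    | tmul b c =>
      simp only [pr, emb, LinearMap.rTensor_tmul, ← TensorProduct.sum_tmul]
      congr 1
      exact (Finset.univ_sum_single b).symm
  let W0 : cxC A G.U O 0 ⊗[A] R := ∑ x, emb R x (w x)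
  have hW0 : ∀ x, pr R x W0 = w x := fun x => by
    rw [map_sum, Finset.sum_eq_single x (fun x' _ h => hpe R x x' _ h) (by simp), hpe']
  have hW1 : (cxD A G.U O 0).rTensor R W0 = 0 := by
    let emb' : ∀ j : J, Γ(X, tupOpen G.U j) ⊗[A] R →ₗ[A] cxC A G.U O 1 ⊗[A] R := fun j =>
      ((LinearMap.single A (fun x : J => (secA A O (tupOpen G.U x) : Type u)) j).comp
        (secUnit A (tupOpen G.U j)).symm.toLinearMap).rTensor R
    have hid' : ∀ z : cxC A G.U O 1 ⊗[A] R, z = ∑ j, emb' j (pr' R j z) := fun z => by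
      induction z using TensorProduct.induction_on with
      | zero => simp
      | add p q hp hq => simp only [map_add, Finset.sum_add_distrib, ← hp, ← hq]
      | tmul b c =>
        simp only [pr', emb', LinearMap.rTensor_tmul, ← TensorProduct.sum_tmul]
        congr 1
        exact (Finset.univ_sum_single b).symm
    rw [hid' ((cxD A G.U O 0).rTensor R W0)]
    refine Finset.sum_eq_zero fun j _ => ?_
    rw [hd, hW0, hW0]
    rw [show (resAlg A (hle 0 j)).toLinearMap.rTensor R (w (δ 0 j)) =
      (resAlg A (hle 1 j)).toLinearMap.rTensor R (w (δ 1 j)) from hwc j, sub_self, map_zero]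
  refine ⟨W0, 0, (SecModel.cxA_d_rTensor 0 W0).trans hW1, ?_⟩
  rw [map_zero, add_zero]
  change π.toLinearMap.lTensor (cxC A G.U O 0) W0 = y
  rw [hid S y, map_sum]
  refine Finset.sum_congr rfl fun x _ => ?_
  rw [← (hw x).1]
  induction w x using TensorProduct.induction_on with
  | zero => simp
  | add p q hp hq => simp only [map_add, hp, hq]
  | tmul b c => rfl

end Groth.CohTwo
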