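import Groth.Agent.KTheory.LocFree
import Groth.Agent.KTheory.PerfFree
import Groth.Agent.LocFree.Basic
import Groth.Agent.PnCoh.Finite
import Groth.Prelude.Def_StabCat
import Mathlib.CategoryTheory.Abelian.CommSq

/-!
# Local freeness at a point; factors of series of subobjects under maps and pullbacks
-/

set_option autoImplicit false

universe u v w

open CategoryTheory CategoryTheory.Limits AlgebraicGeometry
open Groth.PicAux Groth.KTheory.LocFree

namespace Groth.GrFree

section Stalk

variable {X : Scheme.{u}}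

/-- The stalk at `x` is free. -/
abbrev FreeAt (M : X.Modules) (x : X) : Prop :=
  Module.Free (X.presheaf.stalk x) (M.presheaf.stalk x)

theorem stalkₗ_comp {A B C : X.Modules} (f : A ⟶ B) (g : B ⟶ C) (x : X) :
    stalkₗ (f ≫ g) x = (stalkₗ g x).comp (stalkₗ f x) :=
  LinearMap.ext fun t => congr($((Groth.QCohMod.stalk x).map_comp f g) t)

theorem stalkₗ_id (A : X.Modules) (x : X) : stalkₗ (𝟙 A) x = LinearMap.id :=
  LinearMap.ext fun t => congr($((Groth.QCohMod.stalk x).map_id A) t)

theorem stalkₗ_zero (A B : X.Modules) (x : X) : stalkₗ (0 : A ⟶ B) x = 0 :=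
  LinearMap.ext fun t => congr($((Groth.QCohMod.stalk x).map_zero A B) t)

theorem stalkₗ_sum {A B : X.Modules} {κ : Type*} (t : Finset κ) (f : κ → (A ⟶ B)) (x : X) :
    stalkₗ (∑ i ∈ t, f i) x = ∑ i ∈ t, stalkₗ (f i) x := by
  classical
  induction t using Finset.induction_on with
  | empty => simp [stalkₗ_zero]
  | insert a t ha ih =>
    rw [Finset.sum_insert ha, Finset.sum_insert ha, ← ih]
    exact LinearMap.ext fun y =>
      congr($((Groth.QCohMod.stalk x).map_add (f := f a) (g := ∑ i ∈ t, f i)) y)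

theorem freeAt_of_iso {M N : X.Modules} (e : M ≅ N) (x : X) (h : FreeAt M x) : FreeAt N x :=
  haveI := h
  Module.Free.of_equiv (LinearEquiv.ofLinear (stalkₗ e.hom x) (stalkₗ e.inv x)
    (by rw [← stalkₗ_comp, e.inv_hom_id, stalkₗ_id]) (by rw [← stalkₗ_comp, e.hom_inv_id, stalkₗ_id]))

theorem freeAt_of_retract {M N : X.Modules} (hN : Coh.IsCoh N) (i : N ⟶ M) (r : M ⟶ N)
    (hir : i ≫ r = 𝟙 N) (x : X) (h : FreeAt M x) : FreeAt N x := by
  haveI := h
  haveI := hN.1
  haveI := Groth.QCohMod.finite_stalk N hN.2 x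
  haveI : Module.Projective (X.presheaf.stalk x) (N.presheaf.stalk x) :=
    Module.Projective.of_split (stalkₗ i x) (stalkₗ r x) (by rw [← stalkₗ_comp, hir, stalkₗ_id])
  exact Module.free_of_flat_of_isLocalRing

theorem freeAt_ext {S : ShortComplex X.Modules} (hS : S.ShortExact) (x : X)
    (h₁ : FreeAt S.X₁ x) (h₃ : FreeAt S.X₃ x) : FreeAt S.X₂ x := by
  haveI := h₁
  haveI := h₃
  obtain ⟨hinj, hexact, hsurj⟩ := stalk_exact hS x
  obtain ⟨l, hl⟩ := Module.projective_lifting_property (stalkₗ S.g x) LinearMap.id hsurj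
  obtain ⟨e, -, -⟩ := hexact.splitSurjectiveEquiv hinj ⟨l, hl⟩
  exact Module.Free.of_equiv e.symm

theorem freeAt_sigma {r : ℕ} (M : Fin r → X.Modules) (x : X) (h : ∀ i, FreeAt (M i) x) :
    FreeAt (∐ M) x := by
  haveI := h
  let L : (∀ i, (M i).presheaf.stalk x) →ₗ[X.presheaf.stalk x] (∐ M).presheaf.stalk x :=
    ∑ i, (stalkₗ (Sigma.ι M i) x).comp (LinearMap.proj i)
  let R : (∐ M).presheaf.stalk x →ₗ[X.presheaf.stalk x] (∀ i, (M i).presheaf.stalk x) :=
    LinearMap.pi fun i => stalkₗ (PnCoh.sigmaProj M i) x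
  have h1 : L.comp R = LinearMap.id := by
    rw [← stalkₗ_id (∐ M) x, ← PnCoh.sigmaProj_total M, stalkₗ_sum]
    refine LinearMap.ext fun t => ?_
    simp only [L, R, stalkₗ_comp, LinearMap.comp_apply, LinearMap.sum_apply, LinearMap.proj_apply,
      LinearMap.pi_apply]
  have h2 : R.comp L = LinearMap.id := by
    refine LinearMap.ext fun t => funext fun j => ?_
    simp only [L, R, LinearMap.comp_apply, LinearMap.coe_sum, Finset.sum_apply, LinearMap.proj_apply,
      LinearMap.pi_apply, map_sum, LinearMap.id_apply]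
    rw [Finset.sum_eq_single j]
    · rw [← LinearMap.comp_apply, ← stalkₗ_comp, PnCoh.sigmaProj, Sigma.ι_desc, dif_pos rfl,
        eqToHom_refl, stalkₗ_id, LinearMap.id_apply]
    · intro i _ hi
      rw [← LinearMap.comp_apply, ← stalkₗ_comp, PnCoh.sigmaProj, Sigma.ι_desc, dif_neg hi,
        stalkₗ_zero, LinearMap.zero_apply]
    · simp
  exact Module.Free.of_equiv (LinearEquiv.ofLinear L R h1 h2)

theorem freeAt_of_nhd {M : X.Modules} {x : X} {U : X.Opens} (hx : x ∈ U)
    (h : FlatMod.IsFinLocFree (M.restrict U.ι)) : FreeAt M x := by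
  obtain ⟨V, n, hV, ⟨e⟩⟩ := h ⟨x, hx⟩
  let j := V.ι ≫ U.ι
  let ρ := j.isoOpensRange.inv
  obtain ⟨g⟩ := KTheory.Perf.nonempty_restrict_free ρ
    ((Scheme.Modules.restrictFunctorComp V.ι U.ι).app M ≪≫ e)
  have hρ : ρ ≫ j = j.opensRange.ι := Scheme.Hom.isoOpensRange_inv_comp j
  obtain ⟨s, hs⟩ := Groth.LocFree.exists_basis_of_iso (M := M) (U := j.opensRange)
    ((Scheme.Modules.restrictFunctorCongr hρ).symm.app M ≪≫
      (Scheme.Modules.restrictFunctorComp ρ j).app M ≪≫ g)
  have hxj : x ∈ Set.range j.base := ⟨⟨⟨x, hx⟩, hV⟩, rfl⟩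
  exact free_stalk_of_basis hxj hs

theorem exists_nhd_of_freeAt [IsLocallyNoetherian X] {M : X.Modules} (hM : Coh.IsCoh M) {x : X}
    (h : FreeAt M x) : ∃ U : X.Opens, x ∈ U ∧ FlatMod.IsFinLocFree (M.restrict U.ι) := by
  haveI := h
  obtain ⟨U, n, s, hx, hs⟩ := exists_basis_of_free_stalk hM x
  obtain ⟨e⟩ := Groth.LocFree.nonempty_iso_of_basis hs
  exact ⟨U, hx, isFinLocFree_of_iso e.symm (Groth.LocFree.isFinLocFree_freeMod _ n)⟩

/-- The graded object of a series is free at `x` iff all its factors are. -/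
theorem freeAt_factor {E : X.Modules} (s : LTSeries (Subobject E)) (x : X)
    (hc : ∀ i, Coh.IsCoh (StabCat.factor s i)) (h : FreeAt (StabCat.grObj s) x) (i : Fin s.length) :
    FreeAt (StabCat.factor s i) x :=
  freeAt_of_retract (hc i) (Sigma.ι (fun j => StabCat.factor s j) i)
    (PnCoh.sigmaProj (fun j => StabCat.factor s j) i)
    (by rw [PnCoh.sigmaProj, Sigma.ι_desc, dif_pos rfl, eqToHom_refl]) x h

end Stalk

section Subobjects

variable {C : Type w} [Category.{v} C] [Abelian C]

/-- Factors only depend on the two subobjects. -/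
noncomputable def facCongr {E : C} {A B A' B' : Subobject E} (eA : A = A') (eB : B = B')
    (h : A ≤ B) (h' : A' ≤ B') : cokernel (Subobject.ofLE A B h) ≅ cokernel (Subobject.ofLE A' B' h') :=
  cokernel.mapIso _ _ (Subobject.isoOfEq _ _ eA) (Subobject.isoOfEq _ _ eB) (by
    rw [← cancel_mono B'.arrow]; simp)

variable {G E : C} (ι : G ⟶ E) [Mono ι]

/-- The object of the image of a subobject. -/
noncomputable def mapObjIso (A : Subobject G) :
    (((Subobject.map ι).obj A : Subobject E) : C) ≅ (A : C) :=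
  Subobject.isoOfEqMk _ (A.arrow ≫ ι) (by rw [← Subobject.map_mk, Subobject.mk_arrow])

@[reassoc]
theorem mapObjIso_hom (A : Subobject G) :
    (mapObjIso ι A).hom ≫ A.arrow ≫ ι = ((Subobject.map ι).obj A).arrow :=
  Subobject.ofLEMk_comp _

/-- Mapping along a monomorphism preserves factors. -/
noncomputable def mapFacIso {A B : Subobject G} (h : A ≤ B)
    (h' : (Subobject.map ι).obj A ≤ (Subobject.map ι).obj B) :
    cokernel (Subobject.ofLE _ _ h') ≅ cokernel (Subobject.ofLE A B h) :=
  cokernel.mapIso _ _ (mapObjIso ι A) (mapObjIso ι B) (by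
    rw [← cancel_mono (B.arrow ≫ ι)]
    simp [mapObjIso_hom, mapObjIso_hom_assoc])

theorem map_strictMono : StrictMono (Subobject.map ι).obj :=
  (show Monotone (Subobject.map ι).obj from fun _ _ h => leOfHom ((Subobject.map ι).map (homOfLE h))
    ).strictMono_of_injective (Subobject.map_obj_injective ι)

variable {Q : C} (π : E ⟶ Q) [Epi π]

theorem epi_pullbackπ (A : Subobject Q) : Epi (Subobject.pullbackπ π A) :=
  MorphismProperty.of_isPullback (P := MorphismProperty.epimorphisms C)
    (Subobject.isPullback π A).flip ‹Epi π›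

/-- Pulling back along an epimorphism preserves factors. -/
theorem pullbackFacIso {A B : Subobject Q} (h : A ≤ B)
    (h' : (Subobject.pullback π).obj A ≤ (Subobject.pullback π).obj B) :
    Nonempty (cokernel (Subobject.ofLE _ _ h') ≅ cokernel (Subobject.ofLE A B h)) := by
  have hw : Subobject.pullbackπ π A ≫ Subobject.ofLE A B h =
      Subobject.ofLE _ _ h' ≫ Subobject.pullbackπ π B := by
    rw [← cancel_mono B.arrow, Category.assoc, Subobject.ofLE_arrow, (Subobject.isPullback π A).w,
      Category.assoc, (Subobject.isPullback π B).w, Subobject.ofLE_arrow_assoc]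
  have houter : IsPullback (Subobject.pullbackπ π A)
      (Subobject.ofLE _ _ h' ≫ ((Subobject.pullback π).obj B).arrow)
      (Subobject.ofLE A B h ≫ B.arrow) π := by
    rw [Subobject.ofLE_arrow, Subobject.ofLE_arrow]
    exact Subobject.isPullback π A
  have sq := (IsPullback.of_bot houter hw (Subobject.isPullback π B)).flip
  haveI := Abelian.mono_cokernel_map_of_isPullback sq
  haveI := epi_pullbackπ π B
  haveI : Epi (cokernel.map _ _ _ _ sq.w) := by
    refine @epi_of_epi_fac _ _ _ _ _ _ _ _ ?_ (cokernel.π_desc _ _ _)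
    exact epi_comp _ _
  haveI := isIso_of_mono_of_epi (cokernel.map _ _ _ _ sq.w)
  exact ⟨asIso (cokernel.map _ _ _ _ sq.w)⟩

theorem pullback_strictMono : StrictMono (Subobject.pullback π).obj := by
  intro A B hAB
  have hle : (Subobject.pullback π).obj A ≤ (Subobject.pullback π).obj B :=
    leOfHom ((Subobject.pullback π).map (homOfLE hAB.le))
  refine lt_of_le_of_ne hle fun e => hAB.ne ?_
  obtain ⟨i⟩ := pullbackFacIso π hAB.le hle
  haveI : IsIso (Subobject.ofLE _ _ hle) := by
    have : ∀ (A' B' : Subobject E) (_ : A' = B') (l : A' ≤ B'), IsIso (Subobject.ofLE A' B' l) := by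
      rintro A' _ rfl l
      rw [show Subobject.ofLE A' A' l = 𝟙 _ from Subobject.ofLE_refl A']
      infer_instance
    exact this _ _ e hle
  have hz : IsZero (cokernel (Subobject.ofLE A B hAB.le)) :=
    (isZero_cokernel_of_epi (Subobject.ofLE _ _ hle)).of_iso i.symm
  haveI : Epi (Subobject.ofLE A B hAB.le) :=
    Preadditive.epi_of_isZero_cokernel (Subobject.ofLE A B hAB.le) hz
  haveI := isIso_of_mono_of_epi (Subobject.ofLE A B hAB.le)
  refine le_antisymm hAB.le (Subobject.le_of_comm (inv (Subobject.ofLE A B hAB.le)) ?_)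
  rw [IsIso.inv_comp_eq, Subobject.ofLE_arrow]

theorem pullback_bot_eq (w : ι ≫ π = 0) (hex : (ShortComplex.mk ι π w).Exact) :
    (Subobject.pullback π).obj ⊥ = Subobject.mk ι := by
  haveI : Mono (ShortComplex.mk ι π w).f := inferInstanceAs (Mono ι)
  refine le_antisymm ?_ ?_
  · obtain ⟨l, hl⟩ := KernelFork.IsLimit.lift' hex.fIsKernel ((Subobject.pullback π).obj ⊥).arrow (by
      change ((Subobject.pullback π).obj ⊥).arrow ≫ π = 0
      rw [← (Subobject.isPullback π ⊥).w, Subobject.bot_arrow, comp_zero])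
    exact Subobject.le_mk_of_comm l hl
  · have hF : ((Subobject.pullback π).obj ⊥).Factors ι := by
      rw [Limits.pullback_factors_iff, w]
      exact Subobject.factors_zero
    exact Subobject.mk_le_of_comm (Subobject.factorThru _ ι hF) (Subobject.factorThru_arrow _ _ _)

end Subobjects

end Groth.GrFree
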