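import Groth.Agent.CohTwo.PointSupported
import Groth.Agent.QCohMod.Local
import Groth.Agent.Matlis.Duality
import Groth.Prelude.Def_Coh

/-!
The direct image of the sheaf of the injective hull of the residue field at a point.
-/

universe u

open CategoryTheory CategoryTheory.Limits AlgebraicGeometry TopologicalSpace Opposite

namespace Groth.CohTwo.HullPush

open Groth.QCohMod hiding res res_res res_smul
open Groth.CohTwo

variable {X : Scheme.{u}} [IsLocallyNoetherian X]

theorem injective_and_isQCoh (x : X) (E : Type u) [AddCommGroup E]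
    [Module (X.presheaf.stalk x) E]
    (i : IsLocalRing.ResidueField (X.presheaf.stalk x) →ₗ[X.presheaf.stalk x] E)
    (hi : InjHull.IsInjectiveHull i) :
    Injective ((Scheme.Modules.pushforward (X.fromSpecStalk x)).obj
        (tilde (ModuleCat.of (X.presheaf.stalk x) E))) ∧
      Coh.IsQCoh ((Scheme.Modules.pushforward (X.fromSpecStalk x)).obj
        (tilde (ModuleCat.of (X.presheaf.stalk x) E))) := by
  let R : CommRingCat.{u} := X.presheaf.stalk x
  haveI : IsNoetherianRing R := inferInstanceAs (IsNoetherianRing (X.presheaf.stalk x))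
  let M : ModuleCat.{u} R := ModuleCat.of R E
  haveI : Module.Injective R M := hi.isInjective
  let q : Spec R := IsLocalRing.closedPoint R
  have hu : ∀ s : R, s ∉ q.asIdeal → Function.Bijective fun m : M => s • m := fun s hs => by
    obtain ⟨v, rfl⟩ := IsLocalRing.notMem_maximalIdeal.1 hs
    exact (v : Rˣ).isUnit.smul_bijective
  have ht : ∀ (m : M), ∀ s ∈ q.asIdeal, ∃ n : ℕ, s ^ n • m = 0 := fun m s hs => by
    obtain ⟨n, hn⟩ := GrothMatlis.hull_isPowerTorsion hi m
    exact ⟨n, hn _ (Ideal.pow_mem_pow hs n)⟩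
  have hP := isPointAt_tilde M q hu ht
  let F := (Scheme.Modules.pushforward (X.fromSpecStalk x)).obj (tilde M)
  have hF : IsPointAt F x := by
    have h := hP.pushforward (X.fromSpecStalk x)
    rwa [show X.fromSpecStalk x q = x from Scheme.fromSpecStalk_closedPoint] at h
  have hq : ∀ V : X.Opens, x ∈ V → (X.fromSpecStalk x) ⁻¹ᵁ V = ⊤ := fun V hV => by
    have h : q ∈ (X.fromSpecStalk x) ⁻¹ᵁ V := by
      change X.fromSpecStalk x q ∈ V
      rwa [show X.fromSpecStalk x q = x from Scheme.fromSpecStalk_closedPoint]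
    exact top_le_iff.1 fun y _ => (IsLocalRing.specializes_closedPoint y).mem_open
      ((X.fromSpecStalk x) ⁻¹ᵁ V).2 h
  have hsec : ∀ (V : X.Opens) (hV : x ∈ V), ∃ e : E ≃+ Γ(F, V),
      ∀ (r : Γ(X, V)) (m : E), e (X.presheaf.germ V x hV r • m) = r • e m := by
    intro V hV
    let W := (X.fromSpecStalk x) ⁻¹ᵁ V
    have hb : Function.Bijective (tilde.toOpen M W) := by
      have : (⊤ : (Spec R).Opens) = W := (hq V hV).symm
      rw [← this]
      exact ConcreteCategory.bijective_of_isIso (tilde.toOpen M ⊤)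
    let e : E ≃+ Γ(F, V) := AddEquiv.ofBijective (tilde.toOpen M W).hom.toAddMonoidHom hb
    refine ⟨e, fun r m => ?_⟩
    refine ((tilde.toOpen M W).hom.map_smul _ m).trans ?_
    refine (Scheme.Modules.smul_Spec_def (M := tilde M) (U := W) _ _).trans ?_
    change _ = (show Γ(tilde M, W) from (X.fromSpecStalk x).app V r •
      (show Γ(tilde M, W) from tilde.toOpen M W m))
    rw [Scheme.fromSpecStalk_app hV]
    rfl
  refine ⟨?_, ?_⟩
  · obtain ⟨V, hV, hxV⟩ := exists_affine_mem x
    obtain ⟨e, he⟩ := hsec V hxV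
    let _ := X.presheaf.algebra_section_stalk (⟨x, hxV⟩ : V)
    haveI := hV.isLocalization_stalk ⟨x, hxV⟩
    haveI : Module.Flat Γ(X, V) (X.presheaf.stalk x) :=
      IsLocalization.flat _ (hV.primeIdealOf ⟨x, hxV⟩).asIdeal.primeCompl
    let _ := Module.compHom E (X.presheaf.germ V x hxV).hom
    haveI : IsScalarTower Γ(X, V) (X.presheaf.stalk x) E :=
      ⟨fun r s z => by
        change (X.presheaf.germ V x hxV r * s) • z = X.presheaf.germ V x hxV r • s • z
        rw [mul_smul]⟩
    haveI : Module.Injective (X.presheaf.stalk x) E := hi.isInjective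
    haveI := InjSec.injective_of_flat Γ(X, V) (X.presheaf.stalk x) E
    let e' : E ≃ₗ[Γ(X, V)] Γ(F, V) := { e with map_smul' := he }
    haveI : Module.Injective Γ(X, V) Γ(F, V) := by
      refine ⟨fun {P Q} _ _ _ _ φ hφ g => ?_⟩
      obtain ⟨h, hh⟩ := Module.Injective.out (R := Γ(X, V)) (Q := E) φ hφ (e'.symm.toLinearMap ∘ₗ g)
      exact ⟨e'.toLinearMap ∘ₗ h, fun p => (congrArg e' (hh p)).trans (e'.apply_symm_apply _)⟩
    haveI := injective_stalk_of_sections F hV hxV (hF.bijective_germ V hxV)
    exact hF.injective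
  · refine isQCoh_of_forall_affine F (fun U _ f s => ?_) fun U _ f t ht0 => ?_
    · by_cases hx : x ∈ X.basicOpen f
      · obtain ⟨t, h⟩ := (hF.bij _ U (X.basicOpen_le f) hx).2 s
        exact ⟨0, t, by rw [pow_zero, one_smul]; exact h⟩
      · exact ⟨0, 0, (hF.zero _ hx).elim _ _⟩
    · by_cases hx : x ∈ U
      · by_cases hxf : x ∈ X.basicOpen f
        · exact ⟨0, by
            rw [(hF.bij _ U (X.basicOpen_le f) hxf).1 (ht0.trans (map_zero _).symm), smul_zero]⟩
        · obtain ⟨e, he⟩ := hsec U hx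
          obtain ⟨n, hn⟩ := ht (e.symm t) (X.presheaf.germ U x hx f)
            ((IsLocalRing.mem_maximalIdeal _).2 fun h => hxf ((X.mem_basicOpen _ x hx).2 h))
          refine ⟨n, ?_⟩
          rw [← e.apply_symm_apply t, ← he, map_pow]
          exact (congrArg e hn).trans (map_zero e)
      · exact ⟨0, (hF.zero _ hx).elim _ _⟩

end Groth.CohTwo.HullPush
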