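import Groth.Agent.CohTwo.InjectiveQCoh
import Groth.Agent.CohTwo.IdealMul
import Groth.Agent.CohTwo.SubobjectSections
import Groth.Agent.QCohMod.Stalk
import Groth.Agent.CohTwo.LocFreeExt
import Groth.Agent.CohTwo.SheafHomIso
import Groth.Agent.QCohMod.Coherent
import Groth.Agent.SiteCohomology.ModulesGrothendieck
import Groth.Agent.SiteCohomology.SchemeModules
import Mathlib.CategoryTheory.Abelian.RightDerived
import Mathlib.AlgebraicGeometry.Noetherian

/-!
Injectivity of quasi-coherent modules through the first Ext sheaf against coherent modules.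
-/

universe u

open CategoryTheory CategoryTheory.Limits AlgebraicGeometry TopologicalSpace Opposite

namespace Groth.CohTwo.ExtOne

open Groth.CohTwo

variable {X : Scheme.{u}}

lemma additive_sheafHom (G : X.Modules) [DCoh.HasSheafHom G] : (DCoh.sheafHom G).Additive := by
  haveI : (SheafHomIso.tF G).Additive := Functor.additive_of_iso (LocFreeExt.flipIso G)
  exact (DCoh.sheafHomAdj G).right_adjoint_additive

/-- The comparison with families of stalk maps is natural. -/
lemma iso_map {G A B : X.Modules} [DCoh.HasSheafHom G] (φ : A ⟶ B) {U : X.Opens}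
    (b : Γ((DCoh.sheafHom G).obj A, U)) (y : U) :
    ((SheafHomIso.iso G B).hom.app U (((DCoh.sheafHom G).map φ).app U b)).1 y =
      (stalkLin φ y.1) ∘ₗ ((SheafHomIso.iso G A).hom.app U b).1 y := by
  have h : (DCoh.sheafHom G).map φ ≫ (SheafHomIso.iso G B).hom =
      SheafHomIso.toHomSh (SheafHomIso.ev G A ≫ φ) := by
    refine (SheafHomIso.toHomSh_comp _ _).symm.trans (congrArg SheafHomIso.toHomSh ?_)
    exact (DCoh.sheafHomAdj G).counit.naturality φ
  have h2 : (SheafHomIso.iso G B).hom.app U (((DCoh.sheafHom G).map φ).app U b) =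
      SheafHomIso.currySec (SheafHomIso.ev G A ≫ φ) U b :=
    (congr(($h).app U b)).trans (SheafHomIso.toHomSh_app _ _ _)
  rw [h2, SheafHomIso.iso_hom_app, SheafHomIso.currySec_val, SheafHomIso.currySec_val]
  refine SheafHomIso.stalkHom_ext' fun V hV m => ?_
  have hW : (y : X) ∈ V ⊓ U := ⟨hV, y.2⟩
  rw [LinearMap.comp_apply,
    ← Groth.QCohMod.germ_res G (inf_le_left : V ⊓ U ≤ V) y.1 hW m,
    ← Groth.QCohMod.germ_res ((DCoh.sheafHom G).obj A) (inf_le_right : V ⊓ U ≤ U) y.1 hW b,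
    SheafHomIso.curryStalk_germ, SheafHomIso.curryStalk_germ]
  exact (stalkLin_germ φ y.1 hW _).symm

/-- An ideal sheaf with given sections over an affine open. -/
theorem exists_idealSheaf [IsLocallyNoetherian X] {V : X.Opens} (hV : IsAffineOpen V)
    (a : Ideal Γ(X, V)) : ∃ I : X.IdealSheafData, I.ideal ⟨V, hV⟩ = a := by
  haveI := IsLocallyNoetherian.component_noetherian (X := X) ⟨V, hV⟩
  let R : CommRingCat.{u} := CommRingCat.of (Γ(X, V) ⧸ a)
  let q : Γ(X, V) ⟶ R := CommRingCat.ofHom (Ideal.Quotient.mk a)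
  let f : Spec R ⟶ X := Spec.map q ≫ hV.fromSpec
  haveI : IsNoetherianRing R := inferInstanceAs (IsNoetherianRing (Γ(X, V) ⧸ a))
  haveI : QuasiCompact f := inferInstance
  refine ⟨f.ker, ?_⟩
  rw [Scheme.Hom.ker_apply]
  ext r
  rw [RingHom.mem_ker]
  change (Spec.map q).app (hV.fromSpec ⁻¹ᵁ V) (hV.fromSpec.app V r) = 0 ↔ _
  rw [IsAffineOpen.fromSpec_app_self]
  let z : Γ(Spec Γ(X, V), ⊤) := (Scheme.ΓSpecIso Γ(X, V)).inv r
  have hz : (Spec.map q).appTop z = (Scheme.ΓSpecIso R).inv (q r) :=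
    congr($((Scheme.ΓSpecIso_inv_naturality q).symm) r)
  have hnat := congr($((Spec.map q).naturality (eqToHom hV.fromSpec_preimage_self).op) z)
  refine Iff.trans ?_ Ideal.Quotient.eq_zero_iff_mem
  let g := (Spec R).presheaf.map
    ((Opens.map (Spec.map q).base).map (eqToHom hV.fromSpec_preimage_self)).op
  have hval : (Spec.map q).app (hV.fromSpec ⁻¹ᵁ V)
      ((Spec Γ(X, V)).presheaf.map (eqToHom hV.fromSpec_preimage_self).op z) =
      g ((Scheme.ΓSpecIso R).inv (q r)) := hnat.trans (congrArg g hz)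
  refine (Eq.congr_left hval).trans ?_
  exact (map_eq_zero_iff g.hom (ConcreteCategory.bijective_of_isIso g).1).trans
    (map_eq_zero_iff (Scheme.ΓSpecIso R).inv.hom
      (ConcreteCategory.bijective_of_isIso (Scheme.ΓSpecIso R).inv).1)

lemma stalkLin_surjective {A B : X.Modules} (π : A ⟶ B) [Epi π] (y : X) :
    Function.Surjective (stalkLin π y) := by
  exact (Groth.QCohMod.epi_iff_stalk π).1 inferInstance y

section Main

variable [IsLocallyNoetherian X]

theorem injective_stalk_of_ext (F : X.Modules) [F.IsQuasicoherent]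
    (h : ∀ (G : X.Modules) [DCoh.HasSheafHom G] [(DCoh.sheafHom G).Additive],
      Coh.IsCoh G → IsZero (((DCoh.sheafHom G).rightDerived 1).obj F)) (x : X) :
    Module.Injective (X.presheaf.stalk x) (F.presheaf.stalk x) := by
  obtain ⟨V, hV, hxV⟩ := Groth.QCohMod.exists_affine_mem x
  haveI := IsLocallyNoetherian.component_noetherian (X := X) ⟨V, hV⟩
  refine Module.Baer.injective fun J ψ => ?_
  let γ := (X.presheaf.germ V x hxV).hom
  let a : Ideal Γ(X, V) := J.comap γ
  obtain ⟨I, hI⟩ := exists_idealSheaf hV a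
  let O := Coh.structureModule X
  haveI : O.IsQuasicoherent := (Groth.QCohMod.isCoh_unit (X := X)).1
  haveI := isQCoh_idealMul I O
  let G := cokernel (Dual3.idealMulι I O)
  have hG : Coh.IsCoh G := Groth.QCohMod.isCoh_cokernel _ (Groth.QCohMod.isCoh_unit (X := X))
  let π : O ⟶ G := cokernel.π (Dual3.idealMulι I O)
  haveI := LocFreeExt.hasSheafHom G
  haveI := additive_sheafHom G
  let R : InjectiveResolution F := HasInjectiveResolution.out.some
  let T := DCoh.sheafHom G
  -- an element of the first term realising `ψ`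
  let ι₀ : F ⟶ R.cocomplex.X 0 := R.ι.f 0
  let d₀ : R.cocomplex.X 0 ⟶ R.cocomplex.X 1 := R.cocomplex.d 0 1
  haveI : Mono ι₀ := inferInstanceAs (Mono (R.ι.f 0))
  have hι : ι₀ ≫ d₀ = 0 := R.ι_f_zero_comp_complex_d
  haveI : Injective (R.cocomplex.X 0) := R.injective 0
  haveI := InjSec.injective_stalk (R.cocomplex.X 0) x
  obtain ⟨g₀, hg₀⟩ := Module.Injective.out (R := X.presheaf.stalk x)
    (Q := (R.cocomplex.X 0).presheaf.stalk x) J.subtype (Submodule.subtype_injective _)
    (stalkLin ι₀ x ∘ₗ ψ)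
  let e := g₀ 1
  have he : ∀ j (hj : j ∈ J), j • e = stalkLin ι₀ x (ψ ⟨j, hj⟩) := fun j hj => by
    rw [← map_smul, smul_eq_mul, mul_one]
    exact hg₀ ⟨j, hj⟩
  obtain ⟨W₀, hxW₀, c₀, hc₀⟩ := stalk_exists_germ _ x (stalkLin d₀ x e)
  let d₁ : R.cocomplex.X 1 ⟶ R.cocomplex.X 2 := R.cocomplex.d 1 2
  -- shrink so that `a` kills `c₀` and `d₁ c₀ = 0`
  obtain ⟨n, al, hal⟩ := Submodule.fg_iff_exists_fin_generating_family.1 (IsNoetherian.noetherian a)
  obtain ⟨Wc, hWc, hxWc, hz⟩ := InjSec.exists_res_eq_zero (R.cocomplex.X 1) x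
    (W := W₀ ⊓ V) ⟨hxW₀, hxV⟩ (fun l => resR X inf_le_right (al l) • res _ inf_le_left c₀) fun l => by
      rw [stalk_germ_smul, stalk_germ_res _ x (inf_le_left : W₀ ⊓ V ≤ W₀) ⟨hxW₀, hxV⟩, hc₀,
        ← map_smul, show X.presheaf.germ (W₀ ⊓ V) x ⟨hxW₀, hxV⟩ (resR X inf_le_right (al l)) =
          γ (al l) from TopCat.Presheaf.germ_res_apply X.presheaf (homOfLE inf_le_right) x
            ⟨hxW₀, hxV⟩ (al l), he (γ (al l)) (hal ▸ Submodule.subset_span ⟨l, rfl⟩ : al l ∈ a),
        ← stalkLin_comp, hι, stalkLin_zero]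
  obtain ⟨Wd, hWd, hxWd, hzd⟩ := InjSec.exists_res_eq_zero (R.cocomplex.X 2) x hxW₀
    (fun _ : Fin 1 => d₁.app W₀ c₀) fun _ => by
      rw [← stalkLin_germ, hc₀, ← stalkLin_comp, show d₀ ≫ d₁ = 0 from R.cocomplex.d_comp_d 0 1 2,
        stalkLin_zero]
  obtain ⟨_, ⟨D, hD, rfl⟩, hxD, hDle⟩ := X.isBasis_affineOpens.exists_subset_of_mem_open
    (show x ∈ ((Wc ⊓ Wd : X.Opens) : Set X) from ⟨hxWc, hxWd⟩) (Wc ⊓ Wd).2
  have hDc : D ≤ Wc := fun z hz => (hDle hz).1
  have hDd : D ≤ Wd := fun z hz => (hDle hz).2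
  have hDV : D ≤ V := (hDc.trans hWc).trans inf_le_right
  let c : Γ(R.cocomplex.X 1, D) := res _ (hDd.trans hWd) c₀
  have hal0 : ∀ b ∈ a, resR X hDV b • c = 0 := by
    intro b hb
    rw [← hal] at hb
    induction hb using Submodule.span_induction with
    | mem b hb =>
      obtain ⟨l, rfl⟩ := hb
      have := congrArg (res _ hDc) (hz l)
      rwa [res_res, res_smul, resR_resR, res_res, map_zero] at this
    | zero => rw [map_zero, zero_smul]
    | add b b' _ _ h h' => rw [map_add, add_smul, h, h', add_zero]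
    | smul r b _ h => rw [smul_eq_mul, map_mul, mul_smul, h, smul_zero]
  -- the family of stalk maps `G_y ⟶ I¹_y`
  let ev₁ : ∀ y : X, X.presheaf.stalk y →ₗ[X.presheaf.stalk y] O.presheaf.stalk y := fun y =>
    LinearMap.toSpanSingleton _ _ (O.presheaf.germ ⊤ y trivial (show Γ(O, ⊤) from (1 : Γ(X, ⊤))))
  let η : ∀ y : X, X.presheaf.stalk y →ₗ[X.presheaf.stalk y] G.presheaf.stalk y := fun y =>
    stalkLin π y ∘ₗ ev₁ y
  have hη : ∀ y, Function.Surjective (η y) := fun y =>
    (stalkLin_surjective π y).comp (bijective_toSpanSingleton_one y).2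
  have hηgerm : ∀ (y : X) (W : X.Opens) (hy : y ∈ W) (r : Γ(X, W)),
      η y (X.presheaf.germ W y hy r) = G.presheaf.germ W y hy (π.app W (show Γ(O, W) from r)) := by
    intro y W hy r
    rw [← stalkLin_germ π y hy]
    refine congrArg (stalkLin π y) ?_
    change X.presheaf.germ W y hy r • O.presheaf.germ ⊤ y trivial
      (show Γ(O, ⊤) from (1 : Γ(X, ⊤))) = _
    rw [← stalk_germ_res O y (le_top : W ≤ ⊤) hy, ← stalk_germ_smul]
    congr 1
    change r * resR X le_top 1 = r
    rw [map_one]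
    exact mul_one (show Γ(X, W) from r)
  have hker : ∀ y (hy : y ∈ D), ∀ t : X.presheaf.stalk y, η y t = 0 →
      t • (R.cocomplex.X 1).presheaf.germ D y hy c = 0 := by
    intro y hy t ht
    obtain ⟨W, hyW, r, rfl⟩ := TopCat.Presheaf.exists_germ_eq X.presheaf t
    rw [hηgerm] at ht
    obtain ⟨W', hyW', i, j, hW'⟩ := G.presheaf.germ_eq y hyW hyW _ 0 (by rw [ht, map_zero])
    obtain ⟨f, hyf, hfle⟩ :=
      Groth.QCohMod.exists_basicOpen_mem hV (hDV hy) (show y ∈ W' ⊓ D from ⟨hyW', hy⟩)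
    have hfW : X.basicOpen f ≤ W := (hfle.trans inf_le_left).trans i.le
    have hf0 : π.app (X.basicOpen f) (res O hfW (show Γ(O, W) from r)) = 0 := by
      rw [app_res, ← res_res G (hfle.trans inf_le_left) i.le,
        show res G i.le (π.app W (show Γ(O, W) from r)) = 0 from hW'.trans (map_zero _), map_zero]
    obtain ⟨w, hw⟩ := (Groth.CohTwo.mem_range_iff_cokernel (Dual3.idealMulι I O) _ _).2 hf0
    have hmem := (mem_range_idealMulι_iff I O (hV.basicOpen f) _).1 ⟨w, hw⟩
    have hle : I.ideal ⟨X.basicOpen f, hV.basicOpen f⟩ ≤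
        Submodule.span Γ(X, X.basicOpen f) (resR X (X.basicOpen_le f) '' a) := by
      rw [← hI]
      exact (I.map_ideal_basicOpen ⟨V, hV⟩ f).ge
    have key : ∀ z : Γ(X, X.basicOpen f),
        z ∈ Submodule.span Γ(X, X.basicOpen f) (resR X (X.basicOpen_le f) '' a) →
          z • res (R.cocomplex.X 1) (hfle.trans inf_le_right) c = 0 := by
      intro z hz
      induction hz using Submodule.span_induction with
      | mem z hz =>
        obtain ⟨b, hb, rfl⟩ := hz
        have := congrArg (res _ (hfle.trans inf_le_right)) (hal0 b hb)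
        rwa [res_smul, resR_resR, map_zero] at this
      | zero => rw [zero_smul]
      | add z z' _ _ h h' => rw [add_smul, h, h', add_zero]
      | smul q z _ h => rw [smul_eq_mul, mul_smul, h, smul_zero]
    have hr : resR X hfW r • res (R.cocomplex.X 1) (hfle.trans inf_le_right) c = 0 := by
      refine Submodule.smul_induction_on
        (p := fun z : Γ(O, X.basicOpen f) => (show Γ(X, X.basicOpen f) from z) •
          res (R.cocomplex.X 1) (hfle.trans inf_le_right) c = 0) hmem (fun q hq m _ => ?_)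
        fun z z' h h' => ?_
      · change (q * (show Γ(X, X.basicOpen f) from m)) • _ = 0
        rw [mul_comm, mul_smul, key q (hle hq), smul_zero]
      · change ((show Γ(X, X.basicOpen f) from z) + (show Γ(X, X.basicOpen f) from z')) • _ = 0
        rw [add_smul, h, h', add_zero]
    have hgerm := congrArg ((R.cocomplex.X 1).presheaf.germ _ y hyf) hr
    rw [map_zero, stalk_germ_smul, stalk_germ_res _ y (hfle.trans inf_le_right) hyf,
      show X.presheaf.germ (X.basicOpen f) y hyf (resR X hfW r) = X.presheaf.germ W y hyW r from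
        TopCat.Presheaf.germ_res_apply X.presheaf (homOfLE hfW) y hyf r] at hgerm
    exact hgerm
  let fam : ∀ y : D, RefHull.StalkHom G (R.cocomplex.X 1) y.1 := fun y =>
    (LinearMap.ker (η y.1)).liftQ (LinearMap.toSpanSingleton _ _
        ((R.cocomplex.X 1).presheaf.germ D y.1 y.2 c))
      (fun t ht => hker y.1 y.2 t ht) ∘ₗ
      ((η y.1).quotKerEquivOfSurjective (hη y.1)).symm.toLinearMap
  have hfam : ∀ (y : D) (t : X.presheaf.stalk y.1),
      fam y (η y.1 t) = t • (R.cocomplex.X 1).presheaf.germ D y.1 y.2 c := by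
    intro y t
    simp only [fam, LinearMap.comp_apply, LinearEquiv.coe_coe]
    rw [LinearMap.quotKerEquivOfSurjective_symm_apply, Submodule.liftQ_apply,
      LinearMap.toSpanSingleton_apply]
  have hloc : RefHull.IsLocSect G (R.cocomplex.X 1) fam := by
    intro V' i m z
    obtain ⟨t, ht⟩ := hη z.1 (G.presheaf.germ V' z.1 z.2 m)
    obtain ⟨W, hzW, r, rfl⟩ := TopCat.Presheaf.exists_germ_eq X.presheaf t
    rw [hηgerm] at ht
    obtain ⟨W', hzW', j₁, j₂, hW'⟩ := G.presheaf.germ_eq z.1 hzW z.2 _ _ ht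
    refine ⟨W', hzW', j₂, resR X j₁.le r • res _ (j₂.le.trans i.le) c, fun y => ?_⟩
    have hm : G.presheaf.germ V' y.1 (j₂.le y.2) m =
        η y.1 (X.presheaf.germ W' y.1 y.2 (resR X j₁.le r)) := by
      rw [hηgerm, ← stalk_germ_res G y.1 j₂.le y.2 m]
      congr 1
      exact hW'.symm.trans (app_res π j₁.le _).symm
    rw [hm, hfam ⟨y.1, i.le (j₂.le y.2)⟩, stalk_germ_smul,
      stalk_germ_res _ y.1 (j₂.le.trans i.le) y.2]
  let sec : Γ(RefHull.homSh G (R.cocomplex.X 1), D) := ⟨fam, hloc⟩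
  let b : Γ(T.obj (R.cocomplex.X 1), D) := (SheafHomIso.iso G _).inv.app D sec
  have hb : (SheafHomIso.iso G _).hom.app D b = sec :=
    congr($((SheafHomIso.iso G (R.cocomplex.X 1)).inv_hom_id).app D sec)
  have hdb : (T.map d₁).app D b = 0 := by
    refine Groth.QCohMod.app_injective_of_mono (SheafHomIso.iso G _).hom D ?_
    rw [map_zero]
    refine Groth.RefRank.hom_ext_sec fun y => ?_
    rw [iso_map, hb]
    change stalkLin d₁ y.1 ∘ₗ fam y = 0
    refine LinearMap.ext fun t => ?_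
    obtain ⟨t, rfl⟩ := hη y.1 t
    rw [LinearMap.comp_apply, hfam, map_smul, stalkLin_germ, app_res,
      ← res_res _ hDd hWd, show res _ hWd (d₁.app W₀ c₀) = 0 from hzd 0, map_zero, map_zero,
      smul_zero]
    rfl
  -- exactness of the Hom complex
  let S := (T.mapHomologicalComplex (ComplexShape.up ℕ)).obj R.cocomplex
  have hS : (S.sc' 0 1 2).Exact := by
    have h0 : S.ExactAt 1 :=
      (HomologicalComplex.exactAt_iff_isZero_homology S 1).2
        (IsZero.of_iso (h G hG) (R.isoRightDerivedObj T 1).symm)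
    exact (S.exactAt_iff' 0 1 2 (by simp) (by simp)).1 h0
  obtain ⟨k, hk⟩ := Groth.QCohMod.exists_app_eq_of_mono_exact
    (S := ShortComplex.mk _ _ (kernel.condition (T.map d₁)))
    (ShortComplex.exact_of_f_is_kernel _ (kernelIsKernel _)) D b hdb
  haveI : Epi (kernel.lift (T.map d₁) (T.map d₀) (S.sc' 0 1 2).zero) :=
    (ShortComplex.exact_iff_epi_kernel_lift (S.sc' 0 1 2)).1 hS
  obtain ⟨z, hzk⟩ := stalkLin_surjective
    (kernel.lift (T.map d₁) (T.map d₀) (S.sc' 0 1 2).zero) x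
      ((kernel (T.map d₁)).presheaf.germ D x hxD k)
  obtain ⟨Wb, hxWb, b₀, rfl⟩ := stalk_exists_germ _ x z
  have hb₀ : (T.obj (R.cocomplex.X 1)).presheaf.germ Wb x hxWb ((T.map d₀).app Wb b₀) =
      (T.obj (R.cocomplex.X 1)).presheaf.germ D x hxD b := by
    have := congrArg (stalkLin (kernel.ι (T.map d₁)) x) hzk
    rw [← stalkLin_comp, kernel.lift_ι, stalkLin_germ, stalkLin_germ] at this
    rw [this, hk]
  obtain ⟨U, hxU, i₁, i₂, hU⟩ := TopCat.Presheaf.germ_eq _ x hxWb hxD _ _ hb₀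
  let τ := ((SheafHomIso.iso G (R.cocomplex.X 0)).hom.app U (res _ i₁.le b₀)).1 ⟨x, hxU⟩
  have hτ : stalkLin d₀ x ∘ₗ τ = fam ⟨x, hxD⟩ := by
    rw [← iso_map d₀ (res _ i₁.le b₀) ⟨x, hxU⟩, app_res,
      show res _ i₁.le ((T.map d₀).app Wb b₀) = res _ i₂.le b from hU, app_res, hb]
    rfl
  let e' := τ (η x 1)
  have he' : stalkLin d₀ x (e - e') = 0 := by
    rw [map_sub, sub_eq_zero]
    refine Eq.trans ?_ (LinearMap.congr_fun hτ (η x 1)).symm
    rw [hfam, one_smul, stalk_germ_res _ x (hDd.trans hWd) hxD, hc₀]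
  have hje : ∀ j ∈ J, j • e' = 0 := by
    intro j hj
    let _ := X.presheaf.algebra_section_stalk (⟨x, hxV⟩ : V)
    haveI := hV.isLocalization_stalk ⟨x, hxV⟩
    obtain ⟨⟨q, s⟩, hqs⟩ := IsLocalization.surj (hV.primeIdealOf ⟨x, hxV⟩).asIdeal.primeCompl j
    change j * γ s.1 = γ q at hqs
    have hu : IsUnit (γ s.1) := IsLocalization.map_units (X.presheaf.stalk x) s
    have hq : q ∈ a := by
      change γ q ∈ J
      rw [← hqs]
      exact J.mul_mem_right _ hj
    have hq0 : η x (γ q) = 0 := by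
      rw [hηgerm]
      rw [show π.app V (show Γ(O, V) from q) = 0 from ?_, map_zero]
      refine (Groth.CohTwo.mem_range_iff_cokernel (Dual3.idealMulι I O) V _).1
        ((mem_range_idealMulι_iff I O hV _).2 ?_)
      have : (show Γ(O, V) from q) = q • (show Γ(O, V) from (1 : Γ(X, V))) :=
        (mul_one (show Γ(X, V) from q)).symm
      rw [this]
      exact Submodule.smul_mem_smul (hI ▸ hq) Submodule.mem_top
    refine hu.smul_left_cancel.1 ?_
    rw [← mul_smul, mul_comm, hqs, smul_zero]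
    have h1 : γ q • η x 1 = η x (γ q) := by rw [← map_smul, smul_eq_mul, mul_one]
    rw [← τ.map_smul, h1, hq0, map_zero]
  obtain ⟨W₁, hxW₁, m₁, hm₁⟩ := stalk_exists_germ _ x (e - e')
  obtain ⟨W₂, hW₂, hxW₂, hz₂⟩ := InjSec.exists_res_eq_zero (R.cocomplex.X 1) x hxW₁
    (fun _ : Fin 1 => d₀.app W₁ m₁) fun _ => by rw [← stalkLin_germ, hm₁, he']
  obtain ⟨m, hm⟩ := Groth.QCohMod.exists_app_eq_of_mono_exact
    (S := ShortComplex.mk _ _ hι) (ShortComplex.exact_of_f_is_kernel _ R.isLimitKernelFork) W₂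
    (res _ hW₂ m₁) (by rw [app_res]; exact hz₂ 0)
  refine ⟨LinearMap.toSpanSingleton _ _ (F.presheaf.germ W₂ x hxW₂ m), fun j hj => ?_⟩
  apply stalkLin_injective ι₀ x
  rw [LinearMap.toSpanSingleton_apply, map_smul, stalkLin_germ, hm,
    stalk_germ_res _ x hW₂ hxW₂, hm₁, smul_sub, hje j hj, sub_zero, he j hj]

theorem injective_iff (F : X.Modules) [F.IsQuasicoherent] [HasInjectiveResolutions X.Modules] :
    Injective F ↔ ∀ (G : X.Modules) [DCoh.HasSheafHom G] [(DCoh.sheafHom G).Additive],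
      Coh.IsCoh G → IsZero (((DCoh.sheafHom G).rightDerived 1).obj F) :=
  ⟨fun _ G _ _ _ => (DCoh.sheafHom G).isZero_rightDerived_obj_injective_succ 0 F,
    fun h => InjQCoh.injective_of_stalks F (injective_stalk_of_ext F h)⟩

end Main

end Groth.CohTwo.ExtOne
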