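import Groth.Agent.CohTwo.Extend
import Groth.Agent.CohTwo.Stalk
import Groth.Agent.PropsBasic2.TildeExact
import Groth.Agent.QCohMod.Category
import Groth.Agent.QCohMod.Affine
import Mathlib.CategoryTheory.Preadditive.Injective.Preserves
import Mathlib.LinearAlgebra.TensorProduct.Tower
import Mathlib.RingTheory.Flat.Localization
import Mathlib.RingTheory.Noetherian.Basic

/-!
Sections and stalks of injective modules on schemes.
-/

universe u

open CategoryTheory CategoryTheory.Limits AlgebraicGeometry TopologicalSpace Opposite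
open scoped TensorProduct

namespace Groth.CohTwo.InjSec

open Groth.QCohMod hiding res res_res res_smul

/-- An injective module over a flat algebra is injective over the base. -/
theorem injective_of_flat (A : Type u) [CommRing A] (B : Type u) [CommRing B] [Algebra A B]
    [Module.Flat A B] (N : Type u) [AddCommGroup N] [Module A N] [Module B N] [IsScalarTower A B N]
    [Module.Injective B N] : Module.Injective A N := by
  refine ⟨fun {P Q} _ _ _ _ f hf g => ?_⟩
  obtain ⟨h, hh⟩ := Module.Injective.out (R := B) (Q := N) (f.baseChange B)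
    (Module.Flat.lTensor_preserves_injective_linearMap (M := B) f hf) (g.liftBaseChange B)
  refine ⟨(h.restrictScalars A) ∘ₗ TensorProduct.mk A B Q 1, fun p => ?_⟩
  have := hh (1 ⊗ₜ p)
  rw [LinearMap.baseChange_tmul, LinearMap.liftBaseChange_tmul, one_smul] at this
  exact this

lemma injective_moduleSpecΓ {R : CommRingCat.{u}} (M : (Spec R).Modules) [Injective M] :
    Module.Injective R ((moduleSpecΓFunctor (R := R)).obj M) := by
  haveI := Groth.PropsBasic2.preservesFiniteLimits_tilde (R := R)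
  haveI : (tilde.functor R).PreservesMonomorphisms :=
    preservesMonomorphisms_of_preservesLimitsOfShape _
  haveI : Injective ((moduleSpecΓFunctor (R := R)).obj M) :=
    Injective.injective_of_adjoint (tilde.adjunction (R := R)) M
  exact Module.injective_module_of_injective_object R _

variable {X : Scheme.{u}}

/-- Sections over an affine open of an injective module form an injective module. -/
theorem injective_sections (I : X.Modules) [Injective I] {U : X.Opens} (hU : IsAffineOpen U) :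
    Module.Injective Γ(X, U) Γ(I, U) := by
  haveI : Injective (I.restrict hU.fromSpec) := injective_restrict hU.fromSpec I
  haveI := injective_moduleSpecΓ (I.restrict hU.fromSpec)
  let e₀ := topEquiv hU I
  have he : ∀ (r : Γ(X, U)) (y : Γ(I.restrict hU.fromSpec, ⊤)), e₀ (r • y) = r • e₀ y :=
    fun r y => by
      simp only [e₀, topEquiv]
      rw [secEquiv_smul hU I ⊤ _ le_rfl, resFun_self]
  let e : (moduleSpecΓFunctor (R := Γ(X, U))).obj (I.restrict hU.fromSpec) ≃ₗ[Γ(X, U)] Γ(I, U) :=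
    { e₀ with map_smul' := he }
  refine ⟨fun {P Q} _ _ _ _ φ hφ g => ?_⟩
  obtain ⟨h, hh⟩ := Module.Injective.out (R := Γ(X, U))
    (Q := (moduleSpecΓFunctor (R := Γ(X, U))).obj (I.restrict hU.fromSpec))
    φ hφ (e.symm.toLinearMap ∘ₗ g)
  exact ⟨e.toLinearMap ∘ₗ h, fun p => (congrArg e (hh p)).trans (e.apply_symm_apply _)⟩

/-- Sections over a basic open of an affine open are injective over the functions on the affine
open. -/
theorem injective_sections_basicOpen (I : X.Modules) [Injective I] {V : X.Opens}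
    (hV : IsAffineOpen V) (f : Γ(X, V)) :
    letI := Module.compHom Γ(I, X.basicOpen f) (resR X (X.basicOpen_le f))
    Module.Injective Γ(X, V) Γ(I, X.basicOpen f) := by
  let _ := Module.compHom Γ(I, X.basicOpen f) (resR X (X.basicOpen_le f))
  haveI := hV.isLocalization_basicOpen f
  haveI : IsScalarTower Γ(X, V) Γ(X, X.basicOpen f) Γ(I, X.basicOpen f) :=
    ⟨fun r s z => by
      change (resR X (X.basicOpen_le f) r * s) • z = resR X (X.basicOpen_le f) r • s • z
      rw [mul_smul]⟩
  haveI : Module.Flat Γ(X, V) Γ(X, X.basicOpen f) :=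
    IsLocalization.flat _ (Submonoid.powers f)
  haveI := injective_sections I (hV.basicOpen f)
  exact injective_of_flat Γ(X, V) Γ(X, X.basicOpen f) _

lemma exists_rep (I : X.Modules) {V : X.Opens} (x : X) (hxV : x ∈ V) {r : ℕ}
    (t : Fin r → I.presheaf.stalk x) :
    ∃ (W : X.Opens) (_ : W ≤ V) (hx : x ∈ W) (s : Fin r → Γ(I, W)),
      ∀ k, I.presheaf.germ W x hx (s k) = t k := by
  have h := fun k => stalk_exists_germ I x (t k)
  choose U hxU s hs using h
  let W : X.Opens := V ⊓ ⟨⋂ k, (U k : Set X), isOpen_iInter_of_finite fun k => (U k).2⟩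
  have hWU : ∀ k, W ≤ U k := fun k y hy => Set.mem_iInter.1 hy.2 k
  have hxW : x ∈ W := ⟨hxV, Set.mem_iInter.2 hxU⟩
  refine ⟨W, inf_le_left, hxW, fun k => res I (hWU k) (s k), fun k => ?_⟩
  rw [stalk_germ_res I x (hWU k) hxW, hs]

lemma exists_res_eq_zero (I : X.Modules) {W : X.Opens} (x : X) (hx : x ∈ W) {n : ℕ}
    (z : Fin n → Γ(I, W)) (hz : ∀ l, I.presheaf.germ W x hx (z l) = 0) :
    ∃ (W' : X.Opens) (h : W' ≤ W), x ∈ W' ∧ ∀ l, res I h (z l) = 0 := by
  have h : ∀ l, ∃ (U : X.Opens) (h : U ≤ W), x ∈ U ∧ res I h (z l) = 0 := by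
    intro l
    obtain ⟨U, hxU, i, j, hij⟩ := I.presheaf.germ_eq x hx hx (z l) 0 (by rw [hz, map_zero])
    exact ⟨U, i.le, hxU, hij.trans (map_zero _)⟩
  choose U hU hxU hzU using h
  let W' : X.Opens := W ⊓ ⟨⋂ k, (U k : Set X), isOpen_iInter_of_finite fun k => (U k).2⟩
  refine ⟨W', inf_le_left, ⟨hx, Set.mem_iInter.2 hxU⟩, fun l => ?_⟩
  have hle : W' ≤ U l := fun y hy => Set.mem_iInter.1 hy.2 l
  exact (res_res I hle (hU l) (z l)).symm.trans ((congrArg (res I hle) (hzU l)).trans (map_zero _))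

/-- The stalk of an injective module at a point of a locally Noetherian scheme is injective. -/
theorem injective_stalk [IsLocallyNoetherian X] (I : X.Modules) [Injective I] (x : X) :
    Module.Injective (X.presheaf.stalk x) (I.presheaf.stalk x) := by
  obtain ⟨V, hV, hxV⟩ := exists_affine_mem x
  haveI := IsLocallyNoetherian.component_noetherian (X := X) ⟨V, hV⟩
  refine Module.Baer.injective fun J ψ => ?_
  let γ := (X.presheaf.germ V x hxV).hom
  let a : Ideal Γ(X, V) := J.comap γ
  let _ := stalkModule I x hxV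
  let ψ₀ : a →ₗ[Γ(X, V)] I.presheaf.stalk x :=
    { toFun := fun c => ψ ⟨γ c.1, c.2⟩
      map_add' := fun c d => by
        rw [← map_add]
        exact congrArg ψ (Subtype.ext (map_add γ c.1 d.1))
      map_smul' := fun r c => by
        refine Eq.trans ?_ (ψ.map_smul (γ r) ⟨γ c.1, c.2⟩)
        exact congrArg ψ (Subtype.ext (map_mul γ r c.1)) }
  obtain ⟨r, π₀, hπ₀⟩ := Module.Finite.exists_fin' Γ(X, V) a
  obtain ⟨n, ρ, hρ⟩ := Submodule.fg_iff_exists_fin_generating_family.1
    (IsNoetherian.noetherian (LinearMap.ker π₀))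
  obtain ⟨W₁, hW₁V, hxW₁, s, hs⟩ := exists_rep I x hxV fun k => ψ₀ (π₀ (Pi.single k 1))
  let _ := Module.compHom Γ(I, W₁) (resR X hW₁V)
  let σ₁ : (Fin r → Γ(X, V)) →ₗ[Γ(X, V)] Γ(I, W₁) := Fintype.linearCombination Γ(X, V) s
  have hσ₁ : ∀ v, I.presheaf.germ W₁ x hxW₁ (σ₁ v) = ψ₀ (π₀ v) := by
    intro v
    conv_rhs => rw [pi_eq_sum_univ' v]
    simp only [σ₁, Fintype.linearCombination_apply, map_sum, map_smul]
    refine Finset.sum_congr rfl fun k _ => ?_
    refine (stalk_germ_smul I x hxW₁ (resR X hW₁V (v k)) (s k)).trans ?_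
    rw [hs, show X.presheaf.germ W₁ x hxW₁ (resR X hW₁V (v k)) = γ (v k) from
      TopCat.Presheaf.germ_res_apply X.presheaf (homOfLE hW₁V) x hxW₁ (v k)]
    rfl
  obtain ⟨W₂, hW₂, hxW₂, hzero⟩ := exists_res_eq_zero I x hxW₁ (fun l => σ₁ (ρ l)) fun l => by
    rw [hσ₁, LinearMap.mem_ker.1 (hρ ▸ Submodule.subset_span ⟨l, rfl⟩ :
      ρ l ∈ LinearMap.ker π₀), map_zero]
  obtain ⟨f, hxf, hfW⟩ := exists_basicOpen_mem hV hxV hxW₂
  let _ := Module.compHom Γ(I, X.basicOpen f) (resR X (X.basicOpen_le f))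
  have hfW₁ : X.basicOpen f ≤ W₁ := hfW.trans hW₂
  let rs : Γ(I, W₁) →ₗ[Γ(X, V)] Γ(I, X.basicOpen f) :=
    { toFun := res I hfW₁
      map_add' := map_add _
      map_smul' := fun c z => by
        refine (res_smul I hfW₁ (resR X hW₁V c) z).trans ?_
        rw [resR_resR]
        rfl }
  have hker : LinearMap.ker π₀ ≤ LinearMap.ker (rs ∘ₗ σ₁) := by
    rw [← hρ, Submodule.span_le]
    rintro _ ⟨l, rfl⟩
    change res I hfW₁ (σ₁ (ρ l)) = 0
    exact (res_res I hfW hW₂ _).symm.trans ((congrArg (res I hfW) (hzero l)).trans (map_zero _))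
  let g : a →ₗ[Γ(X, V)] Γ(I, X.basicOpen f) := (LinearMap.ker π₀).liftQ (rs ∘ₗ σ₁) hker ∘ₗ
    (π₀.quotKerEquivOfSurjective hπ₀).symm.toLinearMap
  have hg : ∀ c : a, I.presheaf.germ (X.basicOpen f) x hxf (g c) = ψ₀ c := by
    intro c
    obtain ⟨v, rfl⟩ := hπ₀ c
    have hgv : g (π₀ v) = res I hfW₁ (σ₁ v) := by
      simp only [g, LinearMap.comp_apply, LinearEquiv.coe_coe]
      rw [LinearMap.quotKerEquivOfSurjective_symm_apply, Submodule.liftQ_apply]
      rfl
    rw [hgv, stalk_germ_res I x hfW₁ hxf, hσ₁]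
  haveI := injective_sections_basicOpen I hV f
  obtain ⟨g', hg'⟩ := Module.Injective.out (R := Γ(X, V)) (Q := Γ(I, X.basicOpen f)) a.subtype
    (Submodule.subtype_injective _) g
  let e : I.presheaf.stalk x := I.presheaf.germ (X.basicOpen f) x hxf (g' 1)
  refine ⟨LinearMap.toSpanSingleton (X.presheaf.stalk x) _ e, ?_⟩
  intro j hj
  have hγ : ∀ c (hc : c ∈ a), ψ ⟨γ c, hc⟩ = γ c • e := by
    intro c hc
    refine (hg ⟨c, hc⟩).symm.trans ?_
    rw [← hg' ⟨c, hc⟩, show a.subtype ⟨c, hc⟩ = c • (1 : Γ(X, V)) by simp, map_smul]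
    refine (stalk_germ_smul I x hxf (resR X (X.basicOpen_le f) c) (g' 1)).trans ?_
    rw [show X.presheaf.germ (X.basicOpen f) x hxf (resR X (X.basicOpen_le f) c) = γ c from
      TopCat.Presheaf.germ_res_apply X.presheaf (homOfLE (X.basicOpen_le f)) x hxf c]
  let _ := (X.presheaf.algebra_section_stalk (⟨x, hxV⟩ : V))
  haveI := hV.isLocalization_stalk ⟨x, hxV⟩
  obtain ⟨⟨c, d⟩, hcd⟩ := IsLocalization.surj (hV.primeIdealOf ⟨x, hxV⟩).asIdeal.primeCompl j
  change j * γ d.1 = γ c at hcd
  have hu : IsUnit (γ d.1) := IsLocalization.map_units (X.presheaf.stalk x) d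
  have hc : c ∈ a := by
    change γ c ∈ J
    rw [← hcd]
    exact J.mul_mem_right _ hj
  refine (LinearMap.toSpanSingleton_apply _ _ e j).trans ?_
  refine hu.smul_left_cancel.1 ?_
  rw [← ψ.map_smul, ← mul_smul, mul_comm, hcd, ← hγ c hc]
  exact congrArg ψ (Subtype.ext ((mul_comm (γ d.1) j).trans hcd).symm)

end Groth.CohTwo.InjSec
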