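import Groth.Agent.FlatCxBase.Length
import Groth.Agent.FlatCxBase.ArtinRees
import Groth.Agent.FlatCxBase.Criteria
import Groth.Agent.FlatCxBase.MaxLocal
import Mathlib.RingTheory.Filtration
import Groth.Agent.CohBase.RankTheory
import Groth.Agent.Matlis.Duality

/-!
Exactness of `T_p` from the eventual lengths of `T_p(A/m^(n+1))`.
-/

universe u

open CategoryTheory CategoryTheory.Limits MonoidalCategory HomologicalComplex
open scoped TensorProduct

namespace Groth.CohTwo

open Groth.FlatCxBase

variable {A : Type u} [CommRing A] [IsNoetherianRing A] [IsLocalRing A]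

/-- Flatness from injectivity on the submodules of all large `A/m^(n+1)`. -/
lemma flat_of_injective_on_quotients (N : Type u) [AddCommGroup N] [Module A N] [Module.Finite A N]
    (n₀ : ℕ) (h : ∀ n, n₀ ≤ n → ∀ S : Submodule A (A ⧸ IsLocalRing.maximalIdeal A ^ (n + 1)),
      Function.Injective (S.subtype.lTensor N)) :
    Module.Flat A N := by
  let m := IsLocalRing.maximalIdeal A
  refine Module.Flat.iff_lTensor_injective'.2 fun I => ?_
  rw [injective_iff_map_eq_zero]
  intro x hx
  obtain ⟨k, hk⟩ := Ideal.exists_pow_inf_eq_pow_smul m (I : Submodule A A)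
  have hmem : x ∈ (⨅ j : ℕ, m ^ j • (⊤ : Submodule A (N ⊗[A] I))) := by
    refine Submodule.mem_iInf _ |>.2 fun j => ?_
    let n := n₀ + k + j
    let q : I →ₗ[A] A ⧸ m ^ (n + 1) := (Submodule.mkQ (m ^ (n + 1))).comp I.subtype
    have hq : q.rangeRestrict.lTensor N x = 0 := by
      apply h n (by omega) (LinearMap.range q)
      rw [map_zero, ← LinearMap.lTensor_comp_apply]
      change ((Submodule.mkQ (m ^ (n + 1))).comp I.subtype).lTensor N x = 0
      rw [LinearMap.lTensor_comp_apply, hx, map_zero]
    have hker : ∀ t : LinearMap.ker q.rangeRestrict, (t : I) ∈ m ^ j • (⊤ : Submodule A I) := by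
      rintro ⟨t, ht₀⟩
      have ht : q t = 0 := congrArg Subtype.val (LinearMap.mem_ker.1 ht₀)
      have ht' : (t : A) ∈ m ^ (n + 1) • (⊤ : Submodule A A) ⊓ (I : Submodule A A) := by
        refine ⟨?_, t.2⟩
        rw [smul_eq_mul, Ideal.mul_top]
        exact (Submodule.Quotient.mk_eq_zero _).1 ht
      rw [hk (n + 1) (by omega)] at ht'
      suffices h' : I.subtype t ∈ (m ^ j • (⊤ : Submodule A I)).map I.subtype by
        obtain ⟨t', hu, e⟩ := h'
        exact (Subtype.ext e : t' = _) ▸ hu
      rw [Submodule.map_smul'', Submodule.map_top, Submodule.range_subtype]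
      exact Submodule.smul_mono (Ideal.pow_le_pow_right (by omega)) inf_le_right ht'
    obtain ⟨y, rfl⟩ := (lTensor_exact N (LinearMap.exact_subtype_ker_map q.rangeRestrict)
      q.surjective_rangeRestrict x).1 hq
    clear hx hq
    induction y using TensorProduct.induction_on with
    | zero => rw [map_zero]; exact zero_mem _
    | add a b ha hb => rw [map_add]; exact add_mem ha hb
    | tmul a t =>
      rw [LinearMap.lTensor_tmul]
      refine Submodule.smul_induction_on (p := fun z => a ⊗ₜ[A] z ∈ m ^ j • (⊤ : Submodule A (N ⊗[A] I)))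
        (hker t) (fun c hc s _ => ?_) fun s s' hs hs' => ?_
      · rw [TensorProduct.tmul_smul]
        exact Submodule.smul_mem_smul hc trivial
      · rw [TensorProduct.tmul_add]
        exact add_mem hs hs'
  rw [Ideal.iInf_pow_smul_eq_bot_of_isLocalRing m (IsLocalRing.maximalIdeal.isMaximal A).ne_top] at hmem
  exact hmem

variable {L : CochainComplex (ModuleCat.{u} A) ℤ} [∀ i, Module.Finite A (L.X i)]
  [∀ i, Module.Flat A (L.X i)]

omit [IsNoetherianRing A] [∀ i, Module.Flat A (L.X i)] in
lemma isFiniteLength_T_residue (p : ℤ) :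
    IsFiniteLength A (CohIII.T L p (ModuleCat.of A (IsLocalRing.ResidueField A))) := by
  let k := IsLocalRing.ResidueField A
  obtain ⟨r, π, hπ⟩ := Module.Finite.exists_fin' A (CohBase.CxRank.Qc L p)
  have : IsSimpleModule A k :=
    isSimpleModule_iff_quot_maximal.2 ⟨IsLocalRing.maximalIdeal A, inferInstance, ⟨LinearEquiv.refl A k⟩⟩
  have hk : IsFiniteLength A (Fin r → k) :=
    isFiniteLength_iff_isNoetherian_isArtinian.2 ⟨inferInstance, inferInstance⟩
  let π' : (Fin r → k) →ₗ[A] CohBase.CxRank.Qc L p ⊗[A] k :=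
    (π.rTensor k).comp ((TensorProduct.piScalarRight A A k (Fin r)).symm.trans
      (TensorProduct.comm A k (Fin r → A))).toLinearMap
  have hπ' : Function.Surjective π' :=
    (LinearMap.rTensor_surjective k hπ).comp (LinearEquiv.surjective _)
  have h0 : IsFiniteLength A (CohBase.CxRank.Qc L p ⊗[A] k) := hk.of_surjective hπ'
  let f : (CohIII.TFun L p).obj (ModuleCat.of A k) →ₗ[A] CohBase.CxRank.Qc L p ⊗[A] k :=
    (LinearMap.ker ((CohBase.CxRank.dq L p).rTensor k)).subtype.comp
      (CohBase.CxRank.tKerEquiv L (ModuleCat.of A k) p).toLinearMap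
  have hf : Function.Injective f :=
    (Submodule.subtype_injective _).comp (LinearEquiv.injective _)
  exact h0.of_injective hf

/-- Lengths of maximal size on all large `A/m^(n+1)` give exactness. -/
theorem exact_of_eventually_length (p : ℤ) (n₀ : ℕ)
    (hlen : ∀ n, n₀ ≤ n →
      Module.length A (CohIII.T L p (ModuleCat.of A (A ⧸ IsLocalRing.maximalIdeal A ^ (n + 1)))) =
        Module.length A (CohIII.T L p (ModuleCat.of A (IsLocalRing.ResidueField A))) *
          Module.length A (A ⧸ IsLocalRing.maximalIdeal A ^ (n + 1))) :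
    (CohIII.TFun L p).PreservesMonomorphisms ∧ (CohIII.TFun L p).PreservesEpimorphisms := by
  let m := IsLocalRing.maximalIdeal A
  let T := CohIII.TFun L p
  have hhalf : IsHalfExact T := isHalfExact_TFun L p (cochain_prev p) (cochain_next p)
  have hd : Module.length A (T.obj (ModuleCat.of A (IsLocalRing.ResidueField A))) ≠ ⊤ := by
    exact Module.length_ne_top_iff.2 (isFiniteLength_T_residue p)
  have hfl : ∀ n : ℕ, IsFiniteLength A (A ⧸ m ^ (n + 1)) := fun n => GrothMatlis.isFiniteLength_quotient_pow (n + 1)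
  have key : ∀ n, n₀ ≤ n → ∀ S : Submodule A (ModuleCat.of A (A ⧸ m ^ (n + 1))),
      Function.Injective (T.map (subSC S).f) ∧ Function.Surjective (T.map (subSC S).g) :=
    fun n hn S => exact_of_length_eq T hhalf _ hd (fun M hM => (length_map_simple T M hM).le)
      (hfl n) (hlen n hn) S
  have hepi : T.PreservesEpimorphisms := by
    refine (preservesEpi_iff_surjective_residueField L (cochain_prev p) (cochain_next p)).2
      (surjective_of_artinRees L (cochain_prev p) (cochain_next p) m ⟨n₀, fun n hn => ?_⟩)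
    let g : ModuleCat.of A (A ⧸ m ^ (n + 1)) ⟶ ModuleCat.of A (A ⧸ m) := ModuleCat.ofHom
      (Ideal.Quotient.factorₐ A (Ideal.pow_le_self (I := m) (Nat.succ_ne_zero n))).toLinearMap
    have hg : Function.Surjective g.hom := Ideal.Quotient.factor_surjective (Ideal.pow_le_self (I := m) (Nat.succ_ne_zero n))
    let e : ModuleCat.of A ((A ⧸ m ^ (n + 1)) ⧸ LinearMap.ker g.hom) ≅ ModuleCat.of A (A ⧸ m) :=
      (g.hom.quotKerEquivOfSurjective hg).toModuleIso
    have he : g = (subSC (M := ModuleCat.of A (A ⧸ m ^ (n + 1))) (LinearMap.ker g.hom)).g ≫ e.hom := by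
      ext
      rfl
    change Function.Surjective (T.map g)
    rw [he, T.map_comp]
    exact ((ModuleCat.epi_iff_surjective (T.map e.hom)).1 inferInstance).comp (key n hn _).2
  refine (exact_iff_epi_and_flat L p (cochain_prev p) (cochain_next p)).2 ⟨hepi, ?_⟩
  have : Module.Finite A (T.obj (ModuleCat.of A A)) := finite_T L p (ModuleCat.of A A)
  have hw := (isFinitary_TFun L p).watts_bijective hepi hhalf
  refine flat_of_injective_on_quotients _ n₀ fun n hn S a b hab => ?_
  apply (hw (ModuleCat.of A S)).1
  apply (key n hn S).1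
  refine (watts_naturality T (ModuleCat.ofHom S.subtype) a).trans
    (Eq.trans ?_ (watts_naturality T (ModuleCat.ofHom S.subtype) b).symm)
  exact congrArg _ hab

end Groth.CohTwo
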