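import Groth.Agent.CohTwo.SheafHomIso
import Groth.Agent.DerivedCoh.KFlat.TensorAssoc
import Groth.Agent.LocFree.Hom
import Groth.Agent.RefRank.Stalk

/-!
For a finite locally free module the sheaf Hom is the tensor product with the dual.
-/

universe u

open CategoryTheory AlgebraicGeometry Opposite TopologicalSpace

namespace Groth.CohTwo.LocFreeDual

open Groth.QCohMod (germ germ_res germ_smul exists_germ exists_common_germ stalkTensorHom
  stalkTensorHom_tmul stalkTensorHom_bijective)
open Groth.PicAux (tmulSec tensor_hom_ext tmulLin exists_leftUnitor toFun oneSec Basis')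
open Groth.RefRank (hom_ext_sec secToLin germ_secToLin secToLin_res mod_section_ext)
open Groth.DerivedCoh.KFlat (T assocIso assocApp assocApp_tmul tensorMap_tmulSec
  tensorMap_left_tmulSec)
open Groth.CohTwo.SheafHomIso (tF)

local notation "ρ" => Groth.QCohMod.res

variable {X : Scheme.{u}}

/-- The left unit law as a natural isomorphism. -/
noncomputable def lUnit : (T X).obj (Coh.structureModule X) ≅ 𝟭 X.Modules :=
  NatIso.ofComponents (fun L => (exists_leftUnitor L).choose) fun {L L'} φ =>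
    tensor_hom_ext fun W r a => by
      refine (congrArg ((exists_leftUnitor L').choose.hom.app W) (tensorMap_tmulSec (Coh.structureModule X) φ W r a)).trans ?_
      refine ((exists_leftUnitor L').choose_spec W r (φ.app W a)).trans ?_
      refine Eq.trans ?_ (congrArg (φ.app W) ((exists_leftUnitor L).choose_spec W r a)).symm
      exact (φ.app_smul (toFun r) a).symm

/-- The dual of a module. -/
noncomputable abbrev dual (E : X.Modules) : X.Modules := RefHull.homSh E (Coh.structureModule X)

variable (E : X.Modules)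

/-- `E ⊗ (E^∨ ⊗ G) ⟶ G`. -/
noncomputable def alpha : tF (dual E) ⋙ tF E ⟶ 𝟭 X.Modules :=
  (((assocIso X).inv.app E).app (dual E)) ≫
    (T X).map (SheafHomIso.evalHom E (Coh.structureModule X)) ≫ lUnit.hom

theorem assoc_inv_tmul (L M N : X.Modules) (W : X.Opens) (a : Γ(L, W)) (b : Γ(M, W)) (c : Γ(N, W)) :
    (assocApp L M N).inv.app W (tmulSec a (tmulSec b c : Γ(CohB1.tensorMod M N, W))) =
      (tmulSec (tmulSec a b : Γ(CohB1.tensorMod L M, W)) c :
        Γ(CohB1.tensorMod (CohB1.tensorMod L M) N, W)) := by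
  refine Eq.trans (congrArg ((assocApp L M N).inv.app W) (assocApp_tmul L M N W a b c).symm) ?_
  exact congr(($(Iso.hom_inv_id (assocApp L M N))).app W
    (tmulSec (tmulSec a b : Γ(CohB1.tensorMod L M, W)) c :
      Γ(CohB1.tensorMod (CohB1.tensorMod L M) N, W)))

theorem alpha_tmul (G : X.Modules) (W : X.Opens) (m : Γ(E, W)) (f : Γ(dual E, W)) (g : Γ(G, W)) :
    ((alpha E).app G).app W (tmulSec m (tmulSec f g : Γ(CohB1.tensorMod (dual E) G, W))) =
      toFun (secToLin f m) • g := by
  refine Eq.trans (congrArg (fun z => ((exists_leftUnitor G).choose.hom.app W)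
    (((((T X).map (SheafHomIso.evalHom E (Coh.structureModule X))).app G)).app W z))
    (assoc_inv_tmul E (dual E) G W m f g)) ?_
  refine Eq.trans (congrArg ((exists_leftUnitor G).choose.hom.app W)
    (tensorMap_left_tmulSec (SheafHomIso.evalHom E (Coh.structureModule X)) G W _ g)) ?_
  refine Eq.trans ((exists_leftUnitor G).choose_spec W _ g) ?_
  rw [SheafHomIso.evalHom_tmulSec]

/-- `E^∨ ⊗ G ⟶ Hom(E, G)`. -/
noncomputable def theta (G : X.Modules) :
    CohB1.tensorMod (dual E) G ⟶ RefHull.homSh E G :=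
  SheafHomIso.toHomSh ((alpha E).app G)

theorem secToLin_theta (G : X.Modules) (W : X.Opens) (f : Γ(dual E, W)) (g : Γ(G, W)) (m : Γ(E, W)) :
    secToLin ((theta E G).app W (tmulSec f g)) m = toFun (secToLin f m) • g := by
  refine mod_section_ext G fun x hx => ?_
  rw [germ_secToLin]
  refine Eq.trans (SheafHomIso.curryStalk_germ ((alpha E).app G) hx m (tmulSec f g)) ?_
  exact congrArg (germ G x hx) (alpha_tmul E G W m f g)

variable {E}

theorem secToLin_ext {G : X.Modules} [E.IsQuasicoherent] {V W : X.Opens} {n : ℕ} {s : Fin n → Γ(E, V)}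
    (hs : Basis' E V s) (hWV : W ≤ V) (hW : IsAffineOpen W) {g g' : Γ(RefHull.homSh E G, W)}
    (h : ∀ i, secToLin g (ρ E hWV (s i)) = secToLin g' (ρ E hWV (s i))) : g = g' := by
  refine RefRank.secToLin_injective hW (LinearMap.ext fun m => ?_)
  have hb : Function.Surjective fun r : Fin n → Γ(X, W) => ∑ i, r i • ρ E hWV (s i) := (hs W hWV).2
  obtain ⟨r, rfl⟩ := hb m
  simp only [map_sum, map_smul, h]

/-- The dual basis. -/
theorem exists_dual_basis [E.IsQuasicoherent] {V : X.Opens} {n : ℕ} {s : Fin n → Γ(E, V)}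
    (hs : Basis' E V s) (hV : IsAffineOpen V) :
    ∃ e : Fin n → Γ(dual E, V), ∀ i j, toFun (secToLin (e i) (s j)) = if j = i then 1 else 0 := by
  have hb := hs V le_rfl
  simp only [Groth.PicAux.res_self] at hb
  let b : (Fin n → Γ(X, V)) ≃ₗ[Γ(X, V)] Γ(E, V) :=
    LinearEquiv.ofBijective (Fintype.linearCombination Γ(X, V) s)
      (by convert hb using 1; funext r; exact Fintype.linearCombination_apply _ _ _)
  choose e he using fun i => RefRank.secToLin_surjective (G := Coh.structureModule X) hV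
    ({ toFun := fun m => b.symm m i • PicAux.oneSec X V
       map_add' := fun m m' => by simp [add_smul]
       map_smul' := fun r m => by simp [mul_smul] } : Γ(E, V) →ₗ[Γ(X, V)] Γ(Coh.structureModule X, V))
  refine ⟨e, fun i j => ?_⟩
  have hj : b.symm (s j) = Pi.single j 1 := by
    rw [LinearEquiv.symm_apply_eq]
    simp [b]
  rw [he]
  change toFun (b.symm (s j) i • PicAux.oneSec X V) = _
  rw [hj, Groth.PicAux.toFun_smul, Groth.PicAux.toFun_oneSec, mul_one, Pi.single_apply]
  exact if_congr eq_comm rfl rfl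

theorem res_tmul {L M : X.Modules} {W W' : X.Opens} (h : W ≤ W') (a : Γ(L, W')) (b : Γ(M, W')) :
    ρ (CohB1.tensorMod L M) h (tmulSec a b) = tmulSec (ρ L h a) (ρ M h b) :=
  Groth.PicAux.res_tmulSec h a b

theorem res_res' (M : X.Modules) {U V W : X.Opens} (h : V ≤ U) (h' : W ≤ V) (a : Γ(M, U)) :
    ρ M h' (ρ M h a) = ρ M (h'.trans h) a :=
  Groth.PicAux.res_res h h' a

/-- Sums of pure tensors of the dual basis with sections. -/
noncomputable def expand {G : X.Modules} {V W : X.Opens} {n : ℕ} (e : Fin n → Γ(dual E, V))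
    (hWV : W ≤ V) (g : Fin n → Γ(G, W)) : Γ(CohB1.tensorMod (dual E) G, W) :=
  ∑ i, tmulSec (ρ (dual E) hWV (e i)) (g i)

theorem secToLin_theta_expand {G : X.Modules} {V W : X.Opens} {n : ℕ} {s : Fin n → Γ(E, V)}
    {e : Fin n → Γ(dual E, V)} (he : ∀ i j, toFun (secToLin (e i) (s j)) = if j = i then 1 else 0)
    (hWV : W ≤ V) (g : Fin n → Γ(G, W)) (j : Fin n) :
    secToLin ((theta E G).app W (expand e hWV g)) (ρ E hWV (s j)) = g j := by
  have h : ∀ i, secToLin ((theta E G).app W (tmulSec (ρ (dual E) hWV (e i)) (g i)))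
      (ρ E hWV (s j)) = if j = i then g i else 0 := by
    intro i
    rw [secToLin_theta]
    refine Eq.trans (congrArg (fun z => toFun z • g i) (secToLin_res hWV (e i) (s j))) ?_
    rw [show toFun (ρ (Coh.structureModule X) hWV (secToLin (e i) (s j))) =
      Groth.PicAux.resX X hWV (toFun (secToLin (e i) (s j))) from rfl, he]
    split <;> simp
  let L : Γ(RefHull.homSh E G, W) →+ Γ(G, W) :=
    { toFun := fun q => secToLin q (ρ E hWV (s j))
      map_zero' := by
        have h0 := RefRank.secToLin_smul (F := E) (G := G) (0 : Γ(X, W)) 0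
        simp only [zero_smul] at h0
        rw [h0]; rfl
      map_add' := fun q q' => by rw [RefRank.secToLin_add]; rfl }
  change L ((theta E G).app W (expand e hWV g)) = g j
  rw [expand, map_sum, map_sum]
  exact (Finset.sum_congr rfl fun i _ => h i).trans (by simp)

theorem eq_expand_of_pure [E.IsQuasicoherent] {V W : X.Opens} {n : ℕ} {s : Fin n → Γ(E, V)}
    (hs : Basis' E V s) {e : Fin n → Γ(dual E, V)}
    (he : ∀ i j, toFun (secToLin (e i) (s j)) = if j = i then 1 else 0)
    (hWV : W ≤ V) (hW : IsAffineOpen W) (f : Γ(dual E, W)) :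
    f = ∑ i, toFun (secToLin f (ρ E hWV (s i))) • ρ (dual E) hWV (e i) := by
  refine secToLin_ext hs hWV hW fun j => ?_
  let L : Γ(dual E, W) →ₗ[Γ(X, W)] Γ(Coh.structureModule X, W) :=
    { toFun := fun q => secToLin q (ρ E hWV (s j))
      map_add' := fun q q' => by rw [RefRank.secToLin_add]; rfl
      map_smul' := fun r q => by rw [RefRank.secToLin_smul]; rfl }
  change L f = L (∑ i, _)
  rw [map_sum]
  simp only [map_smul]
  have h : ∀ i, L (ρ (dual E) hWV (e i)) = if j = i then PicAux.oneSec X W else 0 := by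
    intro i
    refine (secToLin_res hWV (e i) (s j)).trans ?_
    rw [Groth.PicAux.eq_toFun_smul_oneSec (secToLin (e i) (s j)), he]
    split
    · rw [one_smul]; exact Groth.PicAux.res_oneSec hWV
    · rw [zero_smul, map_zero]
  simp only [h, smul_ite, smul_zero, Finset.sum_ite_eq, Finset.mem_univ, if_true]
  exact Groth.PicAux.eq_toFun_smul_oneSec _

theorem theta_stalk_bijective (hE : FlatMod.IsFinLocFree E) (G : X.Modules) (x : X) :
    Function.Bijective (RefHull.stalkMapₗ (theta E G) x) := by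
  have : E.IsQuasicoherent := KTheory.LocFree.isQCoh hE
  obtain ⟨V, n, s, hV, hx, hs⟩ := LocFree.exists_affine_basis hE x
  obtain ⟨e, he⟩ := exists_dual_basis hs hV
  have haff : ∀ (U : X.Opens), x ∈ U → ∃ W : X.Opens, IsAffineOpen W ∧ x ∈ W ∧ W ≤ U ∧ W ≤ V := by
    intro U hU
    obtain ⟨_, ⟨W, hW, rfl⟩, hxW, hWUV⟩ := X.isBasis_affineOpens.exists_subset_of_mem_open
      (show x ∈ ((U ⊓ V : X.Opens) : Set X) from ⟨hU, hx⟩) (U ⊓ V).2
    exact ⟨W, hW, hxW, fun y hy => (hWUV hy).1, fun y hy => (hWUV hy).2⟩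
  have hgen : ∀ t : (CohB1.tensorMod (dual E) G).presheaf.stalk x, ∃ (W : X.Opens) (hxW : x ∈ W)
      (hWV : W ≤ V) (g : Fin n → Γ(G, W)), IsAffineOpen W ∧
        germ (CohB1.tensorMod (dual E) G) x hxW (expand e hWV g) = t := by
    intro t
    obtain ⟨z, rfl⟩ := (stalkTensorHom_bijective (dual E) G x).2 t
    induction z using TensorProduct.induction_on with
    | zero =>
      exact ⟨V, hx, le_rfl, 0, hV, by simp [expand, ← Groth.PicAux.tmulLin_apply]⟩
    | tmul a b =>
      obtain ⟨U, hU, f, g, rfl, rfl⟩ := exists_common_germ x a b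
      obtain ⟨W, hW, hxW, hWU, hWV⟩ := haff U hU
      refine ⟨W, hxW, hWV, fun i => toFun (secToLin (ρ (dual E) hWU f) (ρ E hWV (s i))) •
        ρ G hWU g, hW, ?_⟩
      rw [← germ_res (dual E) hWU x hxW f, ← germ_res G hWU x hxW g,
        stalkTensorHom_tmul (dual E) G x hxW]
      refine congrArg (germ (CohB1.tensorMod (dual E) G) x hxW) ?_
      refine Eq.trans ?_ (congrArg (fun z : Γ(dual E, W) => (tmulSec z (ρ G hWU g) :
        Γ(CohB1.tensorMod (dual E) G, W))) (eq_expand_of_pure hs he hWV hW (ρ (dual E) hWU f)).symm)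
      simp only [expand, ← Groth.PicAux.tmulLin_apply, map_sum, map_smul, LinearMap.sum_apply,
        LinearMap.smul_apply]
    | add z z' hz hz' =>
      obtain ⟨W₁, hx₁, hV₁, g₁, -, h₁⟩ := hz
      obtain ⟨W₂, hx₂, hV₂, g₂, -, h₂⟩ := hz'
      obtain ⟨W, hW, hxW, hW12, hWV⟩ := haff (W₁ ⊓ W₂) ⟨hx₁, hx₂⟩
      refine ⟨W, hxW, hWV, fun i => ρ G (hW12.trans inf_le_left) (g₁ i) +
        ρ G (hW12.trans inf_le_right) (g₂ i), hW, ?_⟩
      rw [map_add, ← h₁, ← h₂, ← germ_res _ (hW12.trans inf_le_left) x hxW (expand e hV₁ g₁),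
        ← germ_res _ (hW12.trans inf_le_right) x hxW (expand e hV₂ g₂), ← map_add]
      refine congrArg (germ (CohB1.tensorMod (dual E) G) x hxW) ?_
      change _ = ρ (CohB1.tensorMod (dual E) G) _ _ + ρ (CohB1.tensorMod (dual E) G) _ _
      simp [expand, Groth.PicAux.tmulSec_add_right, Finset.sum_add_distrib, map_sum, res_tmul, res_res']
  refine ⟨(injective_iff_map_eq_zero _).2 fun t ht => ?_, fun q => ?_⟩
  · obtain ⟨W, hxW, hWV, g, hW, rfl⟩ := hgen t
    rw [show RefHull.stalkMapₗ (theta E G) x (germ _ x hxW (expand e hWV g)) = _ from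
      RefHull.stalkMapₗ_germ _ x hxW _] at ht
    obtain ⟨W', hxW', h₁, _h₂, e'⟩ := Groth.QCohMod.exists_res_eq_of_germ_eq x hxW hxW
      ((theta E G).app W (expand e hWV g)) 0 (ht.trans (map_zero _).symm)
    rw [map_zero] at e'
    have hg : ∀ j, ρ G h₁ (g j) = 0 := by
      intro j
      rw [← secToLin_theta_expand he hWV g j]
      refine ((secToLin_res h₁ _ _).symm).trans ?_
      rw [e']
      have h0 := RefRank.secToLin_smul (F := E) (G := G) (0 : Γ(X, W')) 0
      simp only [zero_smul] at h0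
      rw [h0]; rfl
    rw [← germ_res _ h₁ x hxW' (expand e hWV g)]
    refine (congrArg (germ _ x hxW') (?_ : ρ (CohB1.tensorMod (dual E) G) h₁ (expand e hWV g) = 0)).trans
      (map_zero _)
    simp [expand, map_sum, res_tmul, hg]
  · obtain ⟨U, hU, q, rfl⟩ := exists_germ (RefHull.homSh E G) x q
    obtain ⟨W, hW, hxW, hWU, hWV⟩ := haff U hU
    refine ⟨germ _ x hxW (expand e hWV fun i =>
      secToLin (ρ (RefHull.homSh E G) hWU q) (ρ E hWV (s i))),
      (RefHull.stalkMapₗ_germ _ x hxW _).trans ?_⟩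
    rw [← germ_res (RefHull.homSh E G) hWU x hxW q]
    refine congrArg (germ (RefHull.homSh E G) x hxW) (secToLin_ext hs hWV hW fun j => ?_)
    exact secToLin_theta_expand he hWV _ j

theorem isIso_theta (hE : FlatMod.IsFinLocFree E) (G : X.Modules) : IsIso (theta E G) :=
  (RefRank.isIso_iff_bijective_stalk _).2 (theta_stalk_bijective hE G)

section Adj

variable [DCoh.HasSheafHom E]

/-- `E^∨ ⊗ - ⟶ Hom(E, -)`. -/
noncomputable def comparison (E : X.Modules) [DCoh.HasSheafHom E] : tF (dual E) ⟶ DCoh.sheafHom E :=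
  Functor.whiskerLeft (tF (dual E)) (DCoh.sheafHomAdj E).unit ≫
    Functor.whiskerRight (alpha E) (DCoh.sheafHom E)

theorem comparison_comp (G : X.Modules) :
    (comparison E).app G ≫ (SheafHomIso.iso E G).hom = theta E G := by
  rw [show (comparison E).app G = (DCoh.sheafHomAdj E).homEquiv ((tF (dual E)).obj G) G ((alpha E).app G) from
    ((DCoh.sheafHomAdj E).homEquiv_unit _ _ ((alpha E).app G)).symm]
  refine (SheafHomIso.toHomSh_comp _ (SheafHomIso.ev E G)).symm.trans ?_
  exact congrArg SheafHomIso.toHomSh (((DCoh.sheafHomAdj E).homEquiv_counit _ _ _).symm.trans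
    (Equiv.symm_apply_apply _ _))

theorem isIso_comparison (hE : FlatMod.IsFinLocFree E) : IsIso (comparison E) := by
  have : ∀ G, IsIso ((comparison E).app G) := fun G => by
    have := isIso_theta hE G
    have h : (comparison E).app G = theta E G ≫ (SheafHomIso.iso E G).inv :=
      (Iso.eq_comp_inv _).2 (comparison_comp G)
    rw [h]
    exact IsIso.comp_isIso' this inferInstance
  exact NatIso.isIso_of_isIso_app _

/-- `E^∨ ⊗ - ≅ Hom(E, -)`. -/
noncomputable def dualTensorIso (hE : FlatMod.IsFinLocFree E) : tF (dual E) ≅ DCoh.sheafHom E :=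
  @asIso _ _ _ _ (comparison E) (isIso_comparison hE)

/-- `E ⊗ - ⊣ E^∨ ⊗ -`. -/
noncomputable def dualAdj (hE : FlatMod.IsFinLocFree E) : tF E ⊣ tF (dual E) :=
  (DCoh.sheafHomAdj E).ofNatIsoRight (dualTensorIso hE).symm

end Adj

end Groth.CohTwo.LocFreeDual
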