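import Groth.Agent.CohTwo.PointSummand
import Groth.Agent.CohTwo.InjectiveQCoh

/-!
Injective modules on a locally Noetherian scheme are sums of skyscrapers.
-/

universe u

open CategoryTheory CategoryTheory.Limits AlgebraicGeometry TopologicalSpace Opposite

namespace Groth.CohTwo.PtDecomp

open Groth.CohTwo Groth.CohTwo.PtSummand

variable {X : Scheme.{u}}

/-- Stalk elements of a coproduct are finite sums of elements from the summands. -/
theorem exists_stalk_sum {ι : Type u} (M : ι → X.Modules) (y : X)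
    (z : (∐ M).presheaf.stalk y) :
    ∃ (F : Finset ι) (v : ∀ i, (M i).presheaf.stalk y),
      z = ∑ i ∈ F, stalkLin (Sigma.ι M i) y (v i) := by
  classical
  let Φ : (Π₀ i, (M i).presheaf.stalk y) →ₗ[X.presheaf.stalk y] (∐ M).presheaf.stalk y :=
    DFinsupp.lsum ℕ fun i => stalkLin (Sigma.ι M i) y
  have hΦ : ∀ i m, Φ (DFinsupp.single i m) = stalkLin (Sigma.ι M i) y m := fun i m => by simp [Φ]
  have hsurj : Function.Surjective Φ := by
    rw [← LinearMap.range_eq_top, ← Submodule.toAddSubgroup_inj, Submodule.top_toAddSubgroup]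
    let H := (LinearMap.range Φ).toAddSubgroup
    let q : (stalkAb X y).obj (∐ M) ⟶ AddCommGrpCat.of ((∐ M).presheaf.stalk y ⧸ H) :=
      AddCommGrpCat.ofHom (QuotientAddGroup.mk' H)
    have hq : q = 0 :=
      (isColimitOfPreserves (stalkAb X y) (coproductIsCoproduct M)).hom_ext fun ⟨i⟩ => by
        ext m
        refine (QuotientAddGroup.eq_zero_iff _).2 ?_
        exact ⟨DFinsupp.single i m, hΦ i m⟩
    exact eq_top_iff.2 fun t _ => (QuotientAddGroup.eq_zero_iff t).1 congr($hq t)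
  obtain ⟨w, rfl⟩ := hsurj z
  refine ⟨w.support, fun i => w i, ?_⟩
  conv_lhs => rw [← DFinsupp.sum_single (f := w), DFinsupp.sum, map_sum]
  exact Finset.sum_congr rfl fun i _ => hΦ i _

lemma stalkLin_zero' {M N : X.Modules} (y : X) : stalkLin (0 : M ⟶ N) y = 0 :=
  LinearMap.ext fun m => stalkLin_zero y m

lemma mono_of_stalk {M N : X.Modules} (φ : M ⟶ N) (h : ∀ y, Function.Injective (stalkLin φ y)) :
    Mono φ := by
  refine (mono_iff_app_injective φ).2 fun W => (injective_iff_map_eq_zero _).2 fun s hs => ?_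
  exact eq_zero_of_germ M s fun y hy => h y (by rw [stalkLin_germ, hs, map_zero, map_zero])

lemma mono_of_pointAt {M N : X.Modules} {x : X} (hM : IsPointAt M x) (φ : M ⟶ N)
    (h : Function.Injective (stalkLin φ x)) : Mono φ := by
  refine (mono_iff_app_injective φ).2 fun W => (injective_iff_map_eq_zero _).2 fun s hs => ?_
  by_cases hx : x ∈ W
  · refine (hM.bijective_germ W hx).1 (h ?_)
    rw [stalkLin_germ, hs]
    simp only [map_zero]
  · exact (hM.zero W hx).elim _ _

variable {I : X.Modules}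

/-- Independence of a set of candidate summands. -/
def Indep (S : Set (Pt I)) : Prop :=
  ∀ (y : X) (F : Finset (Pt I)), (F : Set (Pt I)) ⊆ S →
    ∀ v : (i : Pt I) → (SkyMod.sky i.pt i.A).presheaf.stalk y,
      ∑ i ∈ F, stalkLin i.f y (v i) = 0 → ∀ i ∈ F, v i = 0

lemma mono_desc {S : Set (Pt I)} (hS : Indep S) :
    Mono (Sigma.desc fun i : S => (i : Pt I).f) := by
  classical
  refine mono_of_stalk _ fun y => (injective_iff_map_eq_zero _).2 fun z hz => ?_
  obtain ⟨F, v, rfl⟩ := exists_stalk_sum _ y z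
  simp only [map_sum, ← stalkLin_comp, Sigma.ι_desc] at hz
  let v' : (i : Pt I) → (SkyMod.sky i.pt i.A).presheaf.stalk y :=
    fun i => if h : i ∈ S then v ⟨i, h⟩ else 0
  have hv' : ∀ i : S, v' i = v i := fun i => by simp [v', i.2]
  have h0 := hS y (F.map (Function.Embedding.subtype _))
    (fun i hi => by obtain ⟨j, -, rfl⟩ := Finset.mem_map.1 hi; exact j.2) v' (by
      rw [Finset.sum_map]
      refine Eq.trans (Finset.sum_congr rfl fun i _ => ?_) hz
      exact congrArg (stalkLin i.1.f y) (hv' i))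
  refine Finset.sum_eq_zero fun i hi => ?_
  have h1 : v' i.1 = 0 := h0 i.1 (Finset.mem_map_of_mem _ hi)
  exact (congrArg _ ((hv' i).symm.trans h1)).trans (map_zero _)

lemma indecomposable_of_equiv {R : Type u} [CommRing R] {M N : Type u} [AddCommGroup M]
    [Module R M] [AddCommGroup N] [Module R N] (e : M ≃ₗ[R] N)
    (h : InjHull.IsIndecomposable R M) : InjHull.IsIndecomposable R N := by
  refine ⟨(haveI := h.1; e.injective.nontrivial), fun P Q hPQ => ?_⟩
  rcases h.2 (P.comap e.toLinearMap) (Q.comap e.toLinearMap)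
    ⟨by
      rw [disjoint_iff, ← Submodule.comap_inf, hPQ.inf_eq_bot, Submodule.comap_bot,
        LinearEquiv.ker], by
      rw [Submodule.comap_equiv_eq_map_symm, Submodule.comap_equiv_eq_map_symm, codisjoint_iff,
        ← Submodule.map_sup, hPQ.sup_eq_top, Submodule.map_top, LinearEquiv.range]⟩ with h1 | h1
  · exact Or.inl (Submodule.comap_injective_of_surjective e.surjective
      (by rw [h1, Submodule.comap_bot, LinearEquiv.ker]))
  · exact Or.inr (Submodule.comap_injective_of_surjective e.surjective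
      (by rw [h1, Submodule.comap_bot, LinearEquiv.ker]))

/-- A good summand of a direct summand gives one of the whole. -/
theorem exists_pt_map {C : X.Modules} (σ : C ⟶ I) [Mono σ] (p : Pt C) (hp : p.Good) :
    ∃ (p' : Pt I) (k : SkyMod.sky p'.pt p'.A ⟶ C), p'.Good ∧ Mono k ∧ k ≫ σ = p'.f := by
  have hσ := stalkLin_injective σ p.pt
  let e := Submodule.equivMapOfInjective (stalkLin σ p.pt) hσ p.A
  let A' := p.A.map (stalkLin σ p.pt)
  let T := (SkyMod.stalkEquiv p.pt A').symm ≪≫ₗ e.symm ≪≫ₗ SkyMod.stalkEquiv p.pt p.A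
  obtain ⟨k₀, hk₀⟩ := (SkyMod.isPointAt_sky p.pt p.A).exists_hom (SkyMod.sky p.pt A') T.toLinearMap
  haveI : Mono k₀ := mono_of_pointAt (SkyMod.isPointAt_sky p.pt A') k₀ (by
    rw [hk₀]; exact T.injective)
  haveI := hp.mono
  refine ⟨⟨p.pt, A', (k₀ ≫ p.f) ≫ σ⟩, k₀ ≫ p.f, ⟨?_, indecomposable_of_equiv e hp.indec, ?_⟩,
    inferInstance, rfl⟩
  · refine ⟨fun {P Q} _ _ _ _ φ hφ g => ?_⟩
    obtain ⟨h, hh⟩ := hp.inj.out φ hφ (e.symm.toLinearMap ∘ₗ g)
    exact ⟨e.toLinearMap ∘ₗ h, fun q => (congrArg e (hh q)).trans (e.apply_symm_apply _)⟩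
  · infer_instance

variable [IsLocallyNoetherian X]

lemma injective_pt (p : Pt I) (hp : p.Good) : Injective (SkyMod.sky p.pt p.A) :=
  haveI := hp.inj
  SkyMod.injective_sky p.pt p.A

/-- Every injective module is a sum of indecomposable skyscrapers. -/
theorem exists_decomposition (I : X.Modules) [Injective I] :
    ∃ (ι : Type u) (p : ι → Pt I), (∀ i, (p i).Good) ∧
      IsIso (Sigma.desc fun i => (p i).f) := by
  classical
  let good : Set (Set (Pt I)) := {S | (∀ p ∈ S, p.Good) ∧ Indep S}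
  obtain ⟨S, hS⟩ : ∃ S, Maximal (· ∈ good) S := by
    refine zorn_subset good fun c hc hch =>
      ⟨⋃₀ c, ⟨?_, ?_⟩, fun s hs => Set.subset_sUnion_of_mem hs⟩
    · rintro p ⟨s, hs, hp⟩; exact (hc hs).1 p hp
    · intro y F hF v hv
      rcases F.eq_empty_or_nonempty with rfl | hFne
      · simp
      obtain ⟨p₀, hp₀⟩ := hFne
      obtain ⟨s₀, hs₀, -⟩ := hF hp₀
      obtain ⟨s, hs, hFs⟩ := DirectedOn.exists_mem_subset_of_finset_subset_biUnion
        (f := fun t : Set (Pt I) => t) ⟨s₀, hs₀⟩ hch.directedOn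
        (s := F) (hF.trans (by rw [Set.sUnion_eq_biUnion]))
      exact (hc hs).2 y F hFs v hv
  haveI hmono := mono_desc hS.1.2
  let P : S → X.Modules := fun i => SkyMod.sky i.1.pt i.1.A
  let d : ∐ P ⟶ I := Sigma.desc fun i : S => (i : Pt I).f
  haveI : Mono d := hmono
  haveI hD : Injective (∐ P) :=
    Groth.Agent.S11157.result P fun i => injective_pt i.1 (hS.1.1 i.1 i.2)
  let r : I ⟶ ∐ P := Injective.factorThru (𝟙 _) d
  have hr : d ≫ r = 𝟙 _ := Injective.comp_factorThru _ _
  let π := cokernel.π d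
  let σ : cokernel d ⟶ I := cokernel.desc d (𝟙 I - r ≫ d) (by
    rw [Preadditive.comp_sub, Category.comp_id, ← Category.assoc, hr, Category.id_comp, sub_self])
  have hσ : σ ≫ π = 𝟙 _ := by
    rw [← cancel_epi π]
    simp only [π, σ, cokernel.π_desc_assoc, Preadditive.sub_comp, Category.id_comp,
      Category.assoc, cokernel.condition, comp_zero, sub_zero, Category.comp_id]
  haveI : Injective (cokernel d) :=
    ⟨fun g f _ => ⟨Injective.factorThru (g ≫ σ) f ≫ π, by
      rw [← Category.assoc, Injective.comp_factorThru, Category.assoc, hσ, Category.comp_id]⟩⟩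
  haveI : Mono σ := SplitMono.mono ⟨π, hσ⟩
  by_cases hC : ∀ y, Subsingleton ((cokernel d).presheaf.stalk y)
  · refine ⟨S, fun i => i.1, fun i => hS.1.1 i.1 i.2, ?_⟩
    have hπ : π = 0 := hom_ext_app fun W s => eq_zero_of_germ _ _ fun y hy => by
      haveI := hC y
      exact Subsingleton.elim _ _
    haveI : Epi d := Abelian.epi_of_cokernel_π_eq_zero d hπ
    exact isIso_of_mono_of_epi d
  exfalso
  push Not at hC
  obtain ⟨y₀, hy₀⟩ := hC
  haveI := hy₀
  obtain ⟨q, hq⟩ := exists_pt (cokernel d) y₀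
  obtain ⟨p₀, k, hp₀, hk, hkσ⟩ := exists_pt_map σ q hq
  have hkπ : p₀.f ≫ π = k := by rw [← hkσ, Category.assoc, hσ, Category.comp_id]
  have hSπ : ∀ i ∈ S, i.f ≫ π = 0 := fun i hi => by
    have h1 : Sigma.ι P ⟨i, hi⟩ ≫ d = i.f := Sigma.ι_desc _ _
    rw [← h1, Category.assoc, cokernel.condition, comp_zero]
  have hp₀S : p₀ ∉ S := fun h => by
    have hk0 : k = 0 := hkπ.symm.trans (hSπ p₀ h)
    haveI := hp₀.indec.1
    haveI := hk
    obtain ⟨a, ha⟩ := exists_ne (0 : p₀.A)
    have h1 := stalkLin_injective k p₀.pt (a₁ := SkyMod.stalkEquiv p₀.pt p₀.A a) (a₂ := 0) (by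
      rw [hk0, stalkLin_zero, stalkLin_zero])
    exact ha ((SkyMod.stalkEquiv p₀.pt p₀.A).injective (h1.trans (map_zero _).symm))
  refine hp₀S (hS.2 (y := insert p₀ S) ⟨?_, ?_⟩ (Set.subset_insert _ _) (Set.mem_insert _ _))
  · rintro p (rfl | hp)
    exacts [hp₀, hS.1.1 p hp]
  · intro y F hF v hv i hi
    have h0 : p₀ ∈ F → v p₀ = 0 := fun hp => by
      have h1 := congrArg (stalkLin π y) hv
      rw [map_zero, map_sum, Finset.sum_eq_single p₀ (fun j hj hne => by
        rw [← stalkLin_comp, hSπ j ((hF hj).resolve_left hne), stalkLin_zero])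
        (fun h => absurd hp h), ← stalkLin_comp, hkπ] at h1
      haveI := hk
      exact stalkLin_injective k y (h1.trans (map_zero _).symm)
    by_cases hip : i = p₀
    · subst hip; exact h0 hi
    refine hS.1.2 y (F.erase p₀) (fun j hj => ?_) v ?_ i (Finset.mem_erase.2 ⟨hip, hi⟩)
    · obtain ⟨hne, hjF⟩ := Finset.mem_erase.1 hj
      exact (hF hjF).resolve_left hne
    · by_cases hp : p₀ ∈ F
      · rw [← Finset.sum_erase_add _ _ hp, h0 hp, map_zero, add_zero] at hv
        exact hv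
      · rwa [Finset.erase_eq_of_notMem hp]

/-- An indecomposable skyscraper is indecomposable as a module. -/
theorem isZero_or_isZero {x : X} {E : Type u} [AddCommGroup E] [Module (X.presheaf.stalk x) E]
    (hE : InjHull.IsIndecomposable (X.presheaf.stalk x) E) (A B : X.Modules)
    (e : SkyMod.sky x E ≅ A ⊞ B) : IsZero A ∨ IsZero B := by
  have hP := SkyMod.isPointAt_sky x E
  let a := (e.hom ≫ biprod.fst ≫ biprod.inl ≫ e.inv : SkyMod.sky x E ⟶ SkyMod.sky x E)
  let b := (e.hom ≫ biprod.snd ≫ biprod.inr ≫ e.inv : SkyMod.sky x E ⟶ SkyMod.sky x E)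
  have hab : a + b = 𝟙 _ := by
    simp only [a, b, ← Preadditive.comp_add, ← Category.assoc biprod.fst, ← Category.assoc biprod.snd,
      ← Preadditive.add_comp, biprod.total, Category.id_comp, Iso.hom_inv_id]
  have haa : a ≫ a = a := by simp [a]
  have hE' := indecomposable_of_equiv (SkyMod.stalkEquiv x E) hE
  have hidem : ∀ z, stalkLin a x (stalkLin a x z) = stalkLin a x z := fun z => by
    rw [← stalkLin_comp, haa]
  have hc : IsCompl (LinearMap.range (stalkLin a x)) (LinearMap.ker (stalkLin a x)) := by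
    refine ⟨disjoint_iff.2 ((Submodule.eq_bot_iff _).2 ?_),
      codisjoint_iff.2 (eq_top_iff.2 fun z _ => ?_)⟩
    · rintro _ ⟨⟨w, rfl⟩, hw⟩
      rw [SetLike.mem_coe, LinearMap.mem_ker, hidem] at hw
      exact hw
    · refine Submodule.mem_sup.2 ⟨stalkLin a x z, ⟨z, rfl⟩, z - stalkLin a x z, ?_, add_sub_cancel _ _⟩
      rw [LinearMap.mem_ker, map_sub, hidem, sub_self]
  rcases hE'.2 _ _ hc with h | h
  · refine Or.inl ((IsZero.iff_id_eq_zero A).2 ?_)
    have ha : a = 0 := hP.hom_ext (by rw [LinearMap.range_eq_bot.1 h, stalkLin_zero'])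
    calc 𝟙 A = (biprod.inl ≫ e.inv) ≫ a ≫ e.hom ≫ biprod.fst := by simp [a]
      _ = 0 := by rw [ha, zero_comp, comp_zero]
  · refine Or.inr ((IsZero.iff_id_eq_zero B).2 ?_)
    have ha : a = 𝟙 _ := hP.hom_ext (LinearMap.ext fun z => by
      rw [stalkLin_id]
      exact LinearMap.ker_eq_bot.1 h (hidem z))
    have hb : b = 0 := by
      rw [ha] at hab
      simpa using hab
    calc 𝟙 B = (biprod.inr ≫ e.inv) ≫ b ≫ e.hom ≫ biprod.snd := by simp [b]
      _ = 0 := by rw [hb, zero_comp, comp_zero]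

lemma not_isZero {x : X} {E : Type u} [AddCommGroup E] [Module (X.presheaf.stalk x) E]
    (hE : InjHull.IsIndecomposable (X.presheaf.stalk x) E) : ¬ IsZero (SkyMod.sky x E) := by
  intro h
  haveI := hE.1
  obtain ⟨a, ha⟩ := exists_ne (0 : E)
  apply ha
  apply (SkyMod.stalkEquiv x E).injective
  rw [map_zero, ← stalkLin_id _ x (SkyMod.stalkEquiv x E a), h.eq_zero_of_src (𝟙 _), stalkLin_zero]

end Groth.CohTwo.PtDecomp
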