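import Groth.Agent.CohTwo.Sky
import Groth.Agent.Matlis.Prime

/-!
A nonzero injective module on a locally Noetherian scheme contains an indecomposable skyscraper.
-/

universe u

open CategoryTheory CategoryTheory.Limits AlgebraicGeometry TopologicalSpace Opposite

namespace Groth.CohTwo.PtSummand

open Groth.CohTwo

variable {X : Scheme.{u}}

lemma eq_zero_of_germ (M : X.Modules) {W : X.Opens} (s : Γ(M, W))
    (h : ∀ (y : X) (hy : y ∈ W), M.presheaf.germ W y hy s = 0) : s = 0 := by
  refine eq_of_local M s 0 fun y hy => ?_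
  obtain ⟨U, hyU, i, j, hij⟩ := M.presheaf.germ_eq y hy hy s 0 (by rw [h y hy, map_zero])
  exact ⟨U, i.le, hyU, hij⟩

/-- The points of `U₀` where a section has nonzero germ. -/
def suppSet (M : X.Modules) (U₀ : X.Opens) {W : X.Opens} (s : Γ(M, W)) : Set U₀ :=
  {y | ∃ h : y.1 ∈ W, M.presheaf.germ W y.1 h s ≠ 0}

/-- A section with minimal support: every section inside the closure of its generic point is
determined by its germ there. -/
theorem exists_minimal_section (M : X.Modules) (U₀ : X.Opens) (hU₀ : IsAffineOpen U₀)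
    [IsNoetherianRing Γ(X, U₀)] (x : X) (hx : x ∈ U₀) [Nontrivial (M.presheaf.stalk x)] :
    ∃ (η : X) (W : X.Opens) (_ : W ≤ U₀) (hη : η ∈ W) (s : Γ(M, W)),
      M.presheaf.germ W η hη s ≠ 0 ∧
      (∀ (y : X) (hy : y ∈ W), M.presheaf.germ W y hy s ≠ 0 → η ⤳ y) ∧
      ∀ (W' : X.Opens), W' ≤ U₀ → ∀ σ : Γ(M, W'),
        (∀ (y : X) (hy : y ∈ W'), M.presheaf.germ W' y hy σ ≠ 0 → η ⤳ y) →
        (∀ h : η ∈ W', M.presheaf.germ W' η h σ = 0) → σ = 0 := by
  haveI : NoetherianSpace U₀ := noetherianSpace_of_isAffineOpen U₀ hU₀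
  haveI : QuasiSober U₀ := U₀.2.isOpenEmbedding_subtypeVal.quasiSober
  let P : Set (Closeds U₀) :=
    {Z | ∃ (W : X.Opens) (_ : W ≤ U₀) (s : Γ(M, W)), s ≠ 0 ∧ Z = Closeds.closure (suppSet M U₀ s)}
  have hP : P.Nonempty := by
    obtain ⟨z, hz⟩ := exists_ne (0 : M.presheaf.stalk x)
    obtain ⟨U, hxU, s, rfl⟩ := stalk_exists_germ M x z
    refine ⟨_, U ⊓ U₀, inf_le_right, res M inf_le_left s, fun h => hz ?_, rfl⟩
    rw [← stalk_germ_res M x (inf_le_left : U ⊓ U₀ ≤ U) ⟨hxU, hx⟩, h, map_zero]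
  obtain ⟨Z, hZP, hmin⟩ := (wellFounded_lt (α := Closeds U₀)).has_min P hP
  obtain ⟨W, hW, s, hs, rfl⟩ := hZP
  have hne : (suppSet M U₀ s).Nonempty := by
    by_contra h
    exact hs (eq_zero_of_germ M s fun y hy => by_contra fun h0 => h ⟨⟨y, hW hy⟩, hy, h0⟩)
  have hirr : IsIrreducible (closure (suppSet M U₀ s)) := by
    refine ⟨hne.mono subset_closure, isPreirreducible_iff_isClosed_union_isClosed.2
      fun a b ha hb hab => or_iff_not_imp_left.2 fun hna => ?_⟩
    let V : X.Opens := W ⊓ ⟨Subtype.val '' aᶜ, U₀.2.isOpenMap_subtype_val _ ha.isOpen_compl⟩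
    have hV : V ≤ U₀ := inf_le_left.trans hW
    have hsub : suppSet M U₀ (res M (inf_le_left : V ≤ W) s) ⊆ suppSet M U₀ s \ a := by
      rintro y ⟨hyV, hy⟩
      rw [stalk_germ_res] at hy
      refine ⟨⟨_, hy⟩, ?_⟩
      obtain ⟨-, z, hz, hzy⟩ := hyV
      exact Subtype.ext hzy ▸ hz
    have hres : res M (inf_le_left : V ≤ W) s ≠ 0 := by
      intro h0
      refine hna (closure_minimal (fun y hy => ?_) ha)
      by_contra hya
      obtain ⟨hyW, hy0⟩ := hy
      have hyV : y.1 ∈ V := ⟨hyW, y, hya, rfl⟩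
      rw [← stalk_germ_res M y.1 (inf_le_left : V ≤ W) hyV, h0, map_zero] at hy0
      exact hy0 rfl
    have hle : closure (suppSet M U₀ (res M (inf_le_left : V ≤ W) s)) ⊆
        closure (suppSet M U₀ s) := closure_mono (hsub.trans Set.sdiff_subset)
    have heq := eq_of_le_of_not_lt (α := Closeds U₀)
      (a := Closeds.closure (suppSet M U₀ (res M (inf_le_left : V ≤ W) s)))
      (b := Closeds.closure (suppSet M U₀ s)) hle (hmin _ ⟨V, hV, _, hres, rfl⟩)
    intro y hy
    have hy' : y ∈ closure (suppSet M U₀ (res M (inf_le_left : V ≤ W) s)) := by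
      change y ∈ (Closeds.closure (suppSet M U₀ (res M (inf_le_left : V ≤ W) s)) : Set U₀)
      rw [heq]
      exact hy
    refine closure_minimal ?_ hb hy'
    intro z hz
    exact (hab (subset_closure (hsub hz).1)).resolve_left (hsub hz).2
  obtain ⟨η, hη⟩ := QuasiSober.sober hirr isClosed_closure
  have hgen : ∀ y : U₀, y ∈ suppSet M U₀ s → η.1 ⤳ y.1 := fun y hy =>
    (hη.specializes (subset_closure hy)).map continuous_subtype_val
  have hηW : η.1 ∈ W := by
    obtain ⟨y, hy⟩ := hne
    exact (hgen y hy).mem_open W.2 hy.1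
  refine ⟨η.1, W, hW, hηW, s, fun h0 => ?_, fun y hy h => hgen ⟨y, hW hy⟩ ⟨hy, h⟩, ?_⟩
  · obtain ⟨N, hηN, i, j, hij⟩ := M.presheaf.germ_eq η.1 hηW hηW s 0 (by rw [h0, map_zero])
    obtain ⟨y, hyN, hyW, hy⟩ := mem_closure_iff.1 hη.mem (Subtype.val ⁻¹' (N : Set X))
      (N.2.preimage continuous_subtype_val) hηN
    rw [← stalk_germ_res M y.1 i.le hyN] at hy
    exact hy (by rw [show res M i.le s = 0 from hij.trans (map_zero _), map_zero])
  · intro W' hW' σ hσ hσ0
    by_contra hσne
    have hsub : closure (suppSet M U₀ σ) ⊆ closure (suppSet M U₀ s) := by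
      refine closure_minimal (fun y hy => ?_) isClosed_closure
      exact ((subtype_specializes_iff η y).2 (hσ y.1 hy.1 hy.2)).mem_closed isClosed_closure hη.mem
    have heq := eq_of_le_of_not_lt (α := Closeds U₀) (a := Closeds.closure (suppSet M U₀ σ))
      (b := Closeds.closure (suppSet M U₀ s)) hsub (hmin _ ⟨W', hW', σ, hσne, rfl⟩)
    have hηmem : η ∈ closure (suppSet M U₀ σ) := by
      change η ∈ (Closeds.closure (suppSet M U₀ σ) : Set U₀)
      rw [heq]
      exact hη.mem
    obtain ⟨y, -, hyW', hy⟩ := mem_closure_iff.1 hηmem Set.univ isOpen_univ trivial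
    have hηW' : η.1 ∈ W' := (hσ y.1 hyW' hy).mem_open W'.2 hyW'
    obtain ⟨N, hηN, i, j, hij⟩ :=
      M.presheaf.germ_eq η.1 hηW' hηW' σ 0 (by rw [hσ0 hηW', map_zero])
    obtain ⟨z, hzN, hzW, hz⟩ := mem_closure_iff.1 hηmem (Subtype.val ⁻¹' (N : Set X))
      (N.2.preimage continuous_subtype_val) hηN
    rw [← stalk_germ_res M z.1 i.le hzN] at hz
    exact hz (by rw [show res M i.le σ = 0 from hij.trans (map_zero _), map_zero])

/-- A candidate summand: a point, a submodule of the stalk, and a morphism from its skyscraper. -/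
structure Pt (I : X.Modules) where
  pt : X
  A : Submodule (X.presheaf.stalk pt) (I.presheaf.stalk pt)
  f : SkyMod.sky pt A ⟶ I

/-- The summand is an indecomposable injective and the morphism is a monomorphism. -/
structure Pt.Good {I : X.Modules} (p : Pt I) : Prop where
  inj : Module.Injective (X.presheaf.stalk p.pt) p.A
  indec : InjHull.IsIndecomposable (X.presheaf.stalk p.pt) p.A
  mono : Mono p.f

variable [IsLocallyNoetherian X]

/-- A nonzero injective module contains an indecomposable skyscraper. -/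
theorem exists_pt (I : X.Modules) [Injective I] (x : X) [Nontrivial (I.presheaf.stalk x)] :
    ∃ p : Pt I, p.Good := by
  obtain ⟨U₀, hU₀, hxU₀⟩ := Groth.QCohMod.exists_affine_mem x
  haveI := IsLocallyNoetherian.component_noetherian (X := X) ⟨U₀, hU₀⟩
  obtain ⟨η, W, hW, hηW, s, hs0, hs, hmin⟩ := exists_minimal_section I U₀ hU₀ x hxU₀
  let sη : I.presheaf.stalk η := I.presheaf.germ W η hηW s
  haveI : Nontrivial (Submodule.span (X.presheaf.stalk η) {sη}) :=
    Submodule.nontrivial_iff_ne_bot.2 (by simpa [sη] using hs0)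
  obtain ⟨q, hq, f', hf'⟩ := GrothMatlis.exists_quotient_prime_map
    (R := X.presheaf.stalk η) (E := Submodule.span (X.presheaf.stalk η) {sη})
  let f₁ : (X.presheaf.stalk η ⧸ q) →ₗ[X.presheaf.stalk η] I.presheaf.stalk η :=
    (Submodule.subtype _) ∘ₗ f'
  have hf₁ : Function.Injective f₁ := (Submodule.subtype_injective _).comp hf'
  let t : I.presheaf.stalk η := f₁ 1
  obtain ⟨A, hA, hAinj⟩ := GrothMatlis.exists_hull_submodule (InjSec.injective_stalk I η)
    (LinearMap.range f₁)
  have hAindec : InjHull.IsIndecomposable (X.presheaf.stalk η) A :=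
    GrothMatlis.indecomposable_hull_quotient_prime q
      (GrothMatlis.IsEssentialInj.comp
        (GrothMatlis.IsEssentialInj.of_linearEquiv (LinearEquiv.ofInjective f₁ hf₁))
        (GrothMatlis.EssIn.isEssentialInj hA))
  have ht0 : t ≠ 0 := fun h => one_ne_zero (hf₁ (h.trans (map_zero f₁).symm))
  have htA : t ∈ A := hA.1 ⟨1, rfl⟩
  -- `t` as the germ of a multiple of `s`
  obtain ⟨c, hc⟩ := Submodule.mem_span_singleton.1 (f' 1).2
  obtain ⟨W₁, hηW₁, b, hb⟩ := TopCat.Presheaf.exists_germ_eq X.presheaf c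
  let U : X.Opens := W ⊓ W₁
  have hηU : η ∈ U := ⟨hηW, hηW₁⟩
  let t' : Γ(I, U) := resR X (inf_le_right : U ≤ W₁) b • res I (inf_le_left : U ≤ W) s
  have ht' : I.presheaf.germ U η hηU t' = t := by
    rw [stalk_germ_smul, stalk_germ_res I η (inf_le_left : U ≤ W) hηU,
      show X.presheaf.germ U η hηU (resR X (inf_le_right : U ≤ W₁) b) = X.presheaf.germ W₁ η hηW₁ b from
        TopCat.Presheaf.germ_res_apply X.presheaf (homOfLE (inf_le_right : U ≤ W₁)) η hηU b, hb]
    exact hc
  have hsupp : ∀ (y : X) (hy : y ∈ U), I.presheaf.germ U y hy t' ≠ 0 → η ⤳ y := by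
    intro y hy h
    refine hs y hy.1 fun h0 => h ?_
    rw [stalk_germ_smul, stalk_germ_res I y (inf_le_left : U ≤ W) hy, h0, smul_zero]
  -- the morphism `below O U ⟶ I` given by `t'`
  let O := Coh.structureModule X
  let val (V : X.Opens) (k : Γ(below O U, V)) : Γ(X, V) := (belowι O U).app V k
  have valres : ∀ {V' V : X.Opens} (h : V' ≤ V) (k : Γ(below O U, V)),
      val V' (res _ h k) = resR X h (val V k) := fun h k => app_res (belowι O U) h k
  obtain ⟨g, hg⟩ := exists_hom_of_local (T := below O U) (F := I)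
    (fun V k σ => ∀ (y : X) (hy : y ∈ V),
      (∀ hyU : y ∈ U, I.presheaf.germ V y hy σ =
        X.presheaf.germ V y hy (val V k) • I.presheaf.germ U y hyU t') ∧
      (y ∉ U → I.presheaf.germ V y hy σ = 0))
    (fun {V' V} h k σ hR y hy => by
      obtain ⟨h1, h2⟩ := hR y (h hy)
      rw [stalk_germ_res I y h hy, valres,
        show X.presheaf.germ V' y hy (resR X h (val V k)) = X.presheaf.germ V y (h hy) (val V k) from
          TopCat.Presheaf.germ_res_apply X.presheaf (homOfLE h) y hy _]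
      exact ⟨h1, h2⟩)
    (fun V k σ σ' hR hR' => sub_eq_zero.1 (eq_zero_of_germ I _ fun y hy => by
      rw [map_sub, sub_eq_zero]
      by_cases hyU : y ∈ U
      · rw [(hR y hy).1 hyU, (hR' y hy).1 hyU]
      · rw [(hR y hy).2 hyU, (hR' y hy).2 hyU]))
    (fun V k σ h y hy => by
      obtain ⟨V', hle, hyV', hR⟩ := h y hy
      have := hR y hyV'
      rwa [stalk_germ_res I y hle hyV', valres,
        show X.presheaf.germ V' y hyV' (resR X hle (val V k)) = X.presheaf.germ V y hy (val V k) from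
          TopCat.Presheaf.germ_res_apply X.presheaf (homOfLE hle) y hyV' _] at this)
    (fun V k y hy => by
      by_cases hyU : y ∈ U
      · refine ⟨V ⊓ U, inf_le_left, val (V ⊓ U) (res _ inf_le_left k) • res I inf_le_right t',
          ⟨hy, hyU⟩, fun z hz => ⟨fun hzU => ?_, fun h => absurd hz.2 h⟩⟩
        rw [stalk_germ_smul, stalk_germ_res I z (inf_le_right : V ⊓ U ≤ U) hz]
      · obtain ⟨V', hle, hyV', h0⟩ := vanishOff_below k y hy hyU
        refine ⟨V', hle, 0, hyV', fun z hz => ⟨fun hzU => ?_, fun _ => map_zero _⟩⟩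
        rw [h0, map_zero, show val V' 0 = 0 from map_zero _, map_zero, zero_smul])
    (fun V k k' σ σ' h h' y hy => ⟨fun hyU => by
        rw [map_add, (h y hy).1 hyU, (h' y hy).1 hyU, ← add_smul, ← map_add]
        congr 2,
      fun hyU => by rw [map_add, (h y hy).2 hyU, (h' y hy).2 hyU, add_zero]⟩)
    (fun V r k σ h y hy => ⟨fun hyU => by
        rw [stalk_germ_smul, (h y hy).1 hyU, ← mul_smul, ← map_mul]
        congr 2,
      fun hyU => by rw [stalk_germ_smul, (h y hy).2 hyU, smul_zero]⟩)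
  have hmem : ∀ z, stalkLin g η z ∈ A := by
    intro z
    obtain ⟨V, hηV, k, rfl⟩ := stalk_exists_germ _ η z
    rw [stalkLin_germ, (hg V k η hηV).1 hηU, ht']
    exact A.smul_mem _ htA
  obtain ⟨z₁, hz₁⟩ : ∃ z, stalkLin g η z = t := by
    refine ⟨(below O U).presheaf.germ U η hηU
      (belowMk (show Γ(O, U) from (1 : Γ(X, U))) (.of_le le_rfl _)), ?_⟩
    rw [stalkLin_germ, (hg U _ η hηU).1 hηU, ht']
    exact (congrArg (· • t) (map_one (X.presheaf.germ U η hηU).hom)).trans (one_smul _ t)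
  have hP := SkyMod.isPointAt_sky η A
  let Φ := SkyMod.stalkEquiv η A
  obtain ⟨h, hh⟩ := hP.exists_hom (below O U)
    (Φ.toLinearMap ∘ₗ (stalkLin g η).codRestrict A hmem)
  -- `g` vanishes on the kernel of `h`
  have hker : kernel.ι h ≫ g = 0 := by
    refine hom_ext_app fun V k₀ => ?_
    let k : Γ(below O U, V) := (kernel.ι h).app V k₀
    have hk : h.app V k = 0 := by
      change (kernel.ι h ≫ h).app V k₀ = 0
      rw [kernel.condition]
      rfl
    change g.app V k = 0
    refine eq_zero_of_germ I _ fun y hy => ?_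
    by_cases hyU : y ∈ U
    swap
    · exact (hg V k y hy).2 hyU
    have key : res I (inf_le_left : V ⊓ U ≤ V) (g.app V k) = 0 := by
      refine hmin (V ⊓ U) (inf_le_right.trans (inf_le_left.trans hW)) _ (fun z hz hne => ?_)
        (fun hη => ?_)
      · rw [stalk_germ_res I z (inf_le_left : V ⊓ U ≤ V) hz, (hg V k z hz.1).1 hz.2] at hne
        exact hsupp z hz.2 fun h0 => hne (by rw [h0, smul_zero])
      · rw [stalk_germ_res I η (inf_le_left : V ⊓ U ≤ V) hη, ← stalkLin_germ]
        have h1 := LinearMap.congr_fun hh ((below O U).presheaf.germ V η hη.1 k)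
        rw [stalkLin_germ, hk, map_zero] at h1
        have h2 := Φ.injective (h1.symm.trans (map_zero Φ).symm)
        exact congrArg Subtype.val h2
    rw [← stalk_germ_res I y (inf_le_left : V ⊓ U ≤ V) ⟨hy, hyU⟩, key, map_zero]
  have hker' : kernel.ι (Abelian.factorThruImage h) ≫ g = 0 := by
    have h0 : kernel.ι (Abelian.factorThruImage h) ≫ h = 0 := by
      refine (congrArg (kernel.ι (Abelian.factorThruImage h) ≫ ·) (Abelian.image.fac h).symm).trans ?_
      rw [kernel.condition_assoc, zero_comp]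
    rw [← kernel.lift_ι h _ h0, Category.assoc, hker, comp_zero]
  let hcol := Abelian.epiIsCokernelOfKernel _ (kernelIsKernel (Abelian.factorThruImage h))
  let d : Abelian.image h ⟶ I := hcol.desc (CokernelCofork.ofπ g hker')
  have hd : Abelian.factorThruImage h ≫ d = g :=
    hcol.fac (CokernelCofork.ofπ g hker') WalkingParallelPair.one
  let f : SkyMod.sky η A ⟶ I := Injective.factorThru d (Abelian.image.ι h)
  have hf : h ≫ f = g := by
    refine (congrArg (· ≫ f) (Abelian.image.fac h).symm).trans ?_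
    rw [Category.assoc, Injective.comp_factorThru, hd]
  have hfη : Function.Injective ((stalkLin f η) ∘ₗ Φ.toLinearMap) := by
    rw [← LinearMap.ker_eq_bot]
    have he := GrothMatlis.EssIn.isEssentialInj hA
    refine GrothMatlis.IsEssentialInj.disjoint_eq_bot he ((Submodule.eq_bot_iff _).2 ?_)
    rintro a ⟨ha, ⟨_, ⟨r, rfl⟩⟩, rfl⟩
    obtain ⟨r, rfl⟩ := Ideal.Quotient.mk_surjective r
    have hval : f₁ (Ideal.Quotient.mk q r) = r • t := by
      rw [← map_smul]
      congr 1
      rw [Algebra.smul_def, mul_one]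
      rfl
    have h1 := LinearMap.congr_fun hh (r • z₁)
    have h2 : stalkLin f η (stalkLin h η (r • z₁)) = r • t := by
      rw [← stalkLin_comp, hf, map_smul, hz₁]
    rw [h1] at h2
    have h3 : (stalkLin g η).codRestrict A hmem (r • z₁) =
        Submodule.inclusion hA.1 ⟨f₁ (Ideal.Quotient.mk q r), ⟨_, rfl⟩⟩ :=
      Subtype.ext (((stalkLin g η).map_smul r z₁).trans ((congrArg (r • ·) hz₁).trans hval.symm))
    simp only [LinearMap.comp_apply, LinearEquiv.coe_coe, h3] at h2
    refine Subtype.ext ?_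
    change f₁ (Ideal.Quotient.mk q r) = 0
    rw [hval, ← h2]
    exact ha
  refine ⟨⟨η, A, f⟩, hAinj, hAindec, (mono_iff_app_injective f).2 fun V => ?_⟩
  refine (injective_iff_map_eq_zero _).2 fun k hk => ?_
  by_cases hηV : η ∈ V
  · refine (hP.bijective_germ V hηV).1 ?_
    obtain ⟨a, ha⟩ := Φ.surjective ((SkyMod.sky η A).presheaf.germ V η hηV k)
    have h0 : stalkLin f η (Φ a) = 0 := by rw [ha, stalkLin_germ, hk, map_zero]
    have : a = 0 := hfη (h0.trans (map_zero _).symm)
    rw [← ha, this, map_zero, map_zero]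
  · exact (hP.zero V hηV).elim _ _

end Groth.CohTwo.PtSummand
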