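import Groth.Agent.S0301
import Mathlib.AlgebraicGeometry.Modules.Tilde
import Mathlib.RingTheory.Ideal.Operations
import Mathlib.RingTheory.Spectrum.Prime.Noetherian

/-!
The sheaf associated with an injective module over a Noetherian ring is flasque.
-/

universe u

open CategoryTheory AlgebraicGeometry TopologicalSpace Opposite

namespace Groth.CohTwo.TildeFlasque

/-- Compatible fractions in an injective module come from one element. -/
theorem exists_of_compat {A : Type u} [CommRing A] [IsNoetherianRing A] {I : Type u}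
    [AddCommGroup I] [Module A I] [Module.Injective A I] {ι : Type u} [Finite ι] (f : ι → A)
    (q : ℕ) (w : ι → I) (hrel : ∀ i j, f j ^ q • w i = f i ^ q • w j) :
    ∃ m : I, ∀ i, ∃ k : ℕ, f i ^ k • (f i ^ q • m - w i) = 0 := by
  classical
  haveI : Fintype ι := Fintype.ofFinite ι
  let b : Ideal A := Ideal.span (Set.range f)
  let T : Submodule A I := ⨆ j : ℕ, Submodule.torsionBySet A I ((b ^ j : Ideal A) : Set A)
  have hT : ∀ x : I, x ∈ T ↔ ∃ j : ℕ, ∀ a ∈ b ^ j, a • x = 0 := by
    intro x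
    rw [Submodule.mem_iSup_of_directed]
    · simp [Submodule.mem_torsionBySet_iff]
    · exact Monotone.directed_le fun i j hij =>
        Submodule.torsionBySet_le_torsionBySet_of_subset (Ideal.pow_le_pow_right hij)
  haveI : Module.Injective A T := Groth.Agent.S0301.result A I inferInstance b
  obtain ⟨p, hp⟩ := Module.Injective.out (R := A) (Q := T) T.subtype T.subtype_injective
    LinearMap.id
  let v (i : ι) : I := w i - (p (w i) : I)
  have hvrel : ∀ i j, f j ^ q • v i = f i ^ q • v j := by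
    intro i j
    simp only [v, smul_sub, ← Submodule.coe_smul, ← p.map_smul, hrel i j]
  let π : (ι → A) →ₗ[A] A := Fintype.linearCombination A fun i => f i ^ q
  let ψ : (ι → A) →ₗ[A] I := Fintype.linearCombination A v
  have hker : LinearMap.ker π.rangeRestrict ≤ LinearMap.ker ψ := by
    intro a ha
    rw [LinearMap.ker_rangeRestrict, LinearMap.mem_ker] at ha
    rw [LinearMap.mem_ker]
    have hkill : ∀ j, f j ^ q • ψ a = 0 := by
      intro j
      simp only [ψ, Fintype.linearCombination_apply, Finset.smul_sum, smul_comm (f j ^ q),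
        hvrel _ j]
      simp only [← mul_smul, ← Finset.sum_smul]
      rw [show (∑ i, a i * f i ^ q) = π a by simp [π, Fintype.linearCombination_apply],
        ha, zero_smul]
    have hmem : ψ a ∈ T := by
      rw [hT]
      let c : Ideal A := Ideal.span (Set.range fun i => f i ^ q)
      obtain ⟨j, hj⟩ : ∃ j, b ^ j ≤ c := by
        refine Ideal.exists_pow_le_of_le_radical_of_fg ?_ (IsNoetherian.noetherian b)
        rw [Ideal.span_le]
        rintro _ ⟨i, rfl⟩
        exact ⟨q, Ideal.subset_span ⟨i, rfl⟩⟩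
      refine ⟨j, fun x hx => ?_⟩
      have hc : c ≤ LinearMap.ker ((LinearMap.id (R := A)).smulRight (ψ a)) := by
        rw [Ideal.span_le]
        rintro _ ⟨i, rfl⟩
        exact hkill i
      exact hc (hj hx)
    have h0 : (p (ψ a) : I) = ψ a := congrArg Subtype.val (hp ⟨_, hmem⟩)
    have h1 : p (ψ a) = 0 := by
      simp only [ψ, Fintype.linearCombination_apply, map_sum, map_smul, v, map_sub]
      refine Finset.sum_eq_zero fun i _ => ?_
      rw [show p (p (w i) : I) = p (w i) from hp (p (w i)), sub_self, smul_zero]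
    rw [← h0, h1, ZeroMemClass.coe_zero]
  let φ : LinearMap.range π →ₗ[A] I := (LinearMap.ker π.rangeRestrict).liftQ ψ hker ∘ₗ
    (π.rangeRestrict.quotKerEquivOfSurjective π.surjective_rangeRestrict).symm.toLinearMap
  obtain ⟨φ', hφ'⟩ := Module.Injective.out (R := A) (Q := I) (LinearMap.range π).subtype
    (Submodule.subtype_injective _) φ
  refine ⟨φ' 1, fun i => ?_⟩
  have hφv : f i ^ q • φ' 1 = v i := by
    rw [← φ'.map_smul, smul_eq_mul, mul_one]
    have hf : π (Pi.single i 1) = f i ^ q := by simp [π]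
    have h := hφ' (π.rangeRestrict (Pi.single i 1))
    simp only [Submodule.coe_subtype, LinearMap.codRestrict_apply] at h
    rw [hf] at h
    rw [h]
    simp only [φ, LinearMap.comp_apply, LinearEquiv.coe_coe]
    rw [LinearMap.quotKerEquivOfSurjective_symm_apply, Submodule.liftQ_apply]
    simp [ψ]
  obtain ⟨j, hj⟩ := (hT _).1 (p (w i)).2
  refine ⟨j, ?_⟩
  rw [hφv, show v i - w i = -(p (w i) : I) from sub_sub_cancel_left _ _, smul_neg,
    hj _ (Ideal.pow_mem_pow (I := b) (Ideal.subset_span ⟨i, rfl⟩) j), neg_zero]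

/-- An abstract form: finitely many compatible elements of localisations. -/
theorem exists_compat_repr {A : Type u} [CommRing A] {I : Type u} [AddCommGroup I] [Module A I]
    {ι : Type u} [Finite ι] (f : ι → A) {P : ι → Type u} [∀ i, AddCommGroup (P i)]
    [∀ i, Module A (P i)] {Q : ι → ι → Type u} [∀ i j, AddCommGroup (Q i j)]
    [∀ i j, Module A (Q i j)] (L : ∀ i, I →ₗ[A] P i) [∀ i, IsLocalizedModule.Away (f i) (L i)]
    (L₂ : ∀ i j, I →ₗ[A] Q i j) [∀ i j, IsLocalizedModule.Away (f i * f j) (L₂ i j)]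
    (rl : ∀ i j, P i →ₗ[A] Q i j) (rr : ∀ i j, P j →ₗ[A] Q i j)
    (hl : ∀ i j, rl i j ∘ₗ L i = L₂ i j) (hr : ∀ i j, rr i j ∘ₗ L j = L₂ i j)
    (s : ∀ i, P i) (hs : ∀ i j, rl i j (s i) = rr i j (s j)) :
    ∃ (q : ℕ) (w : ι → I), (∀ i, f i ^ q • s i = L i (w i)) ∧
      ∀ i j, f j ^ q • w i = f i ^ q • w j := by
  classical
  haveI : Fintype ι := Fintype.ofFinite ι
  have hrep : ∀ i, ∃ (n : ℕ) (m : I), f i ^ n • s i = L i m := by
    intro i
    obtain ⟨⟨m, ⟨_, n, rfl⟩⟩, h⟩ :=
      IsLocalizedModule.surj (Submonoid.powers (f i)) (L i) (s i)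
    exact ⟨n, m, h⟩
  choose n₀ m₀ hm₀ using hrep
  let n := Finset.univ.sup n₀
  let m (i : ι) : I := f i ^ (n - n₀ i) • m₀ i
  have hm : ∀ i, f i ^ n • s i = L i (m i) := by
    intro i
    have hn : n₀ i ≤ n := Finset.le_sup (f := n₀) (Finset.mem_univ i)
    rw [show L i (m i) = f i ^ (n - n₀ i) • f i ^ n₀ i • s i by rw [hm₀, ← map_smul],
      ← mul_smul, ← pow_add, Nat.sub_add_cancel hn]
  clear_value m
  have hglue : ∀ i j, ∃ k : ℕ,
      (f i * f j) ^ k • (f j ^ n • m i) = (f i * f j) ^ k • (f i ^ n • m j) := by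
    intro i j
    have h3 : L₂ i j (f j ^ n • m i) = L₂ i j (f i ^ n • m j) := by
      have e1 : L₂ i j (m i) = f i ^ n • rl i j (s i) := by
        rw [← hl, LinearMap.comp_apply, ← hm, map_smul]
      have e2 : L₂ i j (m j) = f j ^ n • rr i j (s j) := by
        rw [← hr, LinearMap.comp_apply, ← hm, map_smul]
      rw [map_smul, map_smul, e1, e2, hs, smul_comm]
    obtain ⟨⟨_, k, rfl⟩, hk⟩ :=
      IsLocalizedModule.exists_of_eq (S := Submonoid.powers (f i * f j)) h3
    exact ⟨k, hk⟩
  choose k hk using hglue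
  let N := Finset.univ.sup fun p : ι × ι => k p.1 p.2
  refine ⟨n + N, fun i => f i ^ N • m i, fun i => ?_, fun i j => ?_⟩
  · rw [map_smul, ← hm i, ← mul_smul, ← pow_add, add_comm]
  · have hN : k i j ≤ N :=
      Finset.le_sup (f := fun p : ι × ι => k p.1 p.2) (Finset.mem_univ (i, j))
    have h := congrArg ((f i * f j) ^ (N - k i j) • ·) (hk i j)
    simp only [← mul_smul] at h ⊢
    rw [← mul_assoc, ← mul_assoc, ← pow_add, Nat.sub_add_cancel hN] at h
    convert h using 2 <;> ring

/-- Every section over an open comes from a global one. -/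
theorem exists_global (R : CommRingCat.{u}) [IsNoetherianRing R] (M : ModuleCat.{u} R)
    [Module.Injective R M] (U : (Spec R).Opens)
    (s : (modulesSpecToSheaf.obj (tilde M)).presheaf.obj (op U)) :
    ∃ m : M, tilde.toOpen M U m = s := by
  let U' : Opens (PrimeSpectrum R) := U
  obtain ⟨S₀, hU₀⟩ := (PrimeSpectrum.isCompact_isOpen_iff
    (s := (U' : Set (PrimeSpectrum R)))).1
    ⟨NoetherianSpace.isCompact (α := PrimeSpectrum R) _, U'.2⟩
  have ht : (⨆ i : S₀, PrimeSpectrum.basicOpen (i : R)) = U' := by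
    refine Opens.ext ?_
    rw [← hU₀]
    ext x
    simp [PrimeSpectrum.mem_zeroLocus, Set.subset_def]
  have hle : ∀ i : S₀, PrimeSpectrum.basicOpen (i : R) ≤ U := fun i =>
    (le_iSup (fun i : S₀ => PrimeSpectrum.basicOpen (i : R)) i).trans ht.le
  let F := modulesSpecToSheaf.obj (tilde M)
  let P (i : S₀) := F.presheaf.obj (op (PrimeSpectrum.basicOpen (i : R)))
  let Q (i j : S₀) := F.presheaf.obj (op (PrimeSpectrum.basicOpen ((i : R) * j)))
  let L (i : S₀) : M →ₗ[R] P i := (tilde.toOpen M (PrimeSpectrum.basicOpen (i : R))).hom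
  obtain ⟨q, w, hw, hrel⟩ := exists_compat_repr (A := R) (I := M) (fun i : S₀ => (i : R))
    (P := fun i => P i) (Q := fun i j => Q i j) L
    (fun i j => (tilde.toOpen M (PrimeSpectrum.basicOpen ((i : R) * j))).hom)
    (fun i j => (F.presheaf.map (homOfLE (PrimeSpectrum.basicOpen_mul_le_left _ _)).op).hom)
    (fun i j => (F.presheaf.map (homOfLE (PrimeSpectrum.basicOpen_mul_le_right _ _)).op).hom)
    (fun i j => congrArg ModuleCat.Hom.hom (tilde.toOpen_res M _ _ _))
    (fun i j => congrArg ModuleCat.Hom.hom (tilde.toOpen_res M _ _ _))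
    (fun i => F.presheaf.map (homOfLE (hle i)).op s)
    (fun i j => congr($((F.presheaf.map_comp _ _).symm.trans (F.presheaf.map_comp _ _)) s))
  obtain ⟨m, hm⟩ := exists_of_compat (fun i : S₀ => (i : R)) q w hrel
  refine ⟨m, TopCat.Sheaf.eq_of_locally_eq' F (fun i : S₀ => PrimeSpectrum.basicOpen (i : R)) U
    (fun i => homOfLE (hle i)) ht.ge _ _ fun i => ?_⟩
  obtain ⟨k, hk⟩ := hm i
  refine (congr($(tilde.toOpen_res M _ _ (homOfLE (hle i))) m)).trans ?_
  have hu : Function.Injective fun z : P i => (i : R) ^ (k + q) • z :=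
    ((Module.End.isUnit_iff _).mp (IsLocalizedModule.map_units (L i)
      (⟨(i : R) ^ (k + q), k + q, rfl⟩ : Submonoid.powers (i : R)))).1
  refine hu ?_
  change (i : R) ^ (k + q) • L i m = (i : R) ^ (k + q) • F.presheaf.map (homOfLE (hle i)).op s
  rw [pow_add, mul_smul, mul_smul]
  refine (((congrArg ((i : R) ^ k • ·) ((L i).map_smul ((i : R) ^ q) m).symm).trans
    ((L i).map_smul _ _).symm).trans ?_).trans (congrArg ((i : R) ^ k • ·) (hw i).symm)
  refine (congrArg (L i) (sub_eq_zero.1 ((smul_sub _ _ _).symm.trans hk))).trans ?_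
  exact (L i).map_smul _ _

theorem restriction_surjective (A : Type u) [CommRing A] [IsNoetherianRing A]
    (I : Type u) [AddCommGroup I] [Module A I] [Module.Injective A I]
    (U V : (Spec (CommRingCat.of A)).Opens) (hUV : U ≤ V) :
    Function.Surjective ((tilde (ModuleCat.of A I)).val.map (homOfLE hUV).op).hom := by
  intro s
  obtain ⟨m, hm⟩ := exists_global (CommRingCat.of A) (ModuleCat.of A I) U s
  exact ⟨tilde.toOpen (R := CommRingCat.of A) (ModuleCat.of A I) V m,
    (congr($(tilde.toOpen_res (R := CommRingCat.of A) (ModuleCat.of A I) V U (homOfLE hUV)) m)).trans hm⟩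

end Groth.CohTwo.TildeFlasque
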