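import Groth.Agent.CohTwo.InjectiveSections
import Groth.Agent.CohTwo.TildeFlasque
import Groth.Agent.CohTwo.ColimStalk
import Groth.Agent.CohTwo.Glue

/-!
Modules supported at the closure of a point and constant there.
-/

universe u

open CategoryTheory CategoryTheory.Limits AlgebraicGeometry TopologicalSpace Opposite

namespace Groth.CohTwo

variable {X : Scheme.{u}}

/-- No sections away from `x`, and restriction between neighbourhoods of `x` is bijective. -/
structure IsPointAt (F : X.Modules) (x : X) : Prop where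
  zero : ∀ W : X.Opens, x ∉ W → Subsingleton Γ(F, W)
  bij : ∀ (W' W : X.Opens) (h : W' ≤ W), x ∈ W' → Function.Bijective (res F h)

namespace IsPointAt

variable {F : X.Modules} {x : X}

lemma bijective_germ (hF : IsPointAt F x) (W : X.Opens) (hx : x ∈ W) :
    Function.Bijective (F.presheaf.germ W x hx) := by
  refine ⟨fun s t hst => ?_, fun z => ?_⟩
  · obtain ⟨U, hxU, i, j, hij⟩ := F.presheaf.germ_eq x hx hx s t hst
    exact (hF.bij U W i.le hxU).1 hij
  · obtain ⟨U, hxU, s, rfl⟩ := stalk_exists_germ F x z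
    obtain ⟨t, ht⟩ := (hF.bij (W ⊓ U) W inf_le_left ⟨hx, hxU⟩).2 (res F inf_le_right s)
    refine ⟨t, ?_⟩
    rw [← stalk_germ_res F x (inf_le_left : W ⊓ U ≤ W) ⟨hx, hxU⟩ t, ht,
      stalk_germ_res F x (inf_le_right : W ⊓ U ≤ U) ⟨hx, hxU⟩ s]

lemma pushforward {Y : Scheme.{u}} (f : X ⟶ Y) (hF : IsPointAt F x) :
    IsPointAt ((Scheme.Modules.pushforward f).obj F) (f x) where
  zero W hW := hF.zero (f ⁻¹ᵁ W) hW
  bij W' W h hW' := hF.bij (f ⁻¹ᵁ W') (f ⁻¹ᵁ W) (f.preimage_mono h) hW'

end IsPointAt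

lemma stalkLin_injective {G H : X.Modules} (f : G ⟶ H) [Mono f] (x : X) :
    Function.Injective (stalkLin f x) := by
  refine (injective_iff_map_eq_zero _).2 fun z hz => ?_
  obtain ⟨U, hxU, s, rfl⟩ := stalk_exists_germ G x z
  rw [stalkLin_germ] at hz
  obtain ⟨W, hxW, i, j, hij⟩ := H.presheaf.germ_eq x hxU hxU (f.app U s) 0
    (by rw [hz, map_zero])
  have h1 : res H i.le (f.app U s) = 0 := hij.trans (map_zero _)
  rw [← app_res] at h1
  have h2 : res G i.le s = 0 := app_injective f W (h1.trans (map_zero _).symm)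
  rw [← stalk_germ_res G x i.le hxW, h2, map_zero]

/-- A map of stalks at the point extends to a map into a point-supported module. -/
theorem IsPointAt.exists_hom {F : X.Modules} {x : X} (hF : IsPointAt F x) (H : X.Modules)
    (ψ : H.presheaf.stalk x →ₗ[X.presheaf.stalk x] F.presheaf.stalk x) :
    ∃ φ : H ⟶ F, stalkLin φ x = ψ := by
  classical
  obtain ⟨φ, hφ⟩ := exists_hom_of_local (T := H) (F := F)
    (fun W s t => ∀ hx : x ∈ W, F.presheaf.germ W x hx t = ψ (H.presheaf.germ W x hx s))
    (fun {W' W} h s t hst hx => by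
      rw [stalk_germ_res F x h hx, stalk_germ_res H x h hx, hst (h hx)])
    (fun W s t t' h h' => by
      by_cases hx : x ∈ W
      · exact (hF.bijective_germ W hx).1 ((h hx).trans (h' hx).symm)
      · exact (hF.zero W hx).elim t t')
    (fun W s t h hx => by
      obtain ⟨W', hle, hxW', hR⟩ := h x hx
      have := hR hxW'
      rwa [stalk_germ_res F x hle hxW', stalk_germ_res H x hle hxW'] at this)
    (fun W s y hy => by
      by_cases hx : x ∈ W
      · obtain ⟨t, ht⟩ := (hF.bijective_germ W hx).2 (ψ (H.presheaf.germ W x hx s))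
        exact ⟨W, le_rfl, t, hy, fun _ => by rw [res_rfl, ht]⟩
      · exact ⟨W, le_rfl, 0, hy, fun h => absurd h hx⟩)
    (fun W s s' t t' h h' hx => by rw [map_add, map_add, map_add, h hx, h' hx])
    (fun W r s t h hx => by rw [stalk_germ_smul, stalk_germ_smul, map_smul, h hx])
  refine ⟨φ, LinearMap.ext fun z => ?_⟩
  obtain ⟨U, hxU, s, rfl⟩ := stalk_exists_germ H x z
  rw [stalkLin_germ, hφ U s hxU]

/-- Maps into a point-supported module are determined at the point. -/
theorem IsPointAt.hom_ext {F : X.Modules} {x : X} (hF : IsPointAt F x) {H : X.Modules}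
    {φ φ' : H ⟶ F} (h : stalkLin φ x = stalkLin φ' x) : φ = φ' := by
  refine hom_ext_app fun W s => ?_
  by_cases hx : x ∈ W
  · refine (hF.bijective_germ W hx).1 ?_
    rw [← stalkLin_germ φ x hx, ← stalkLin_germ φ' x hx, h]
  · exact (hF.zero W hx).elim _ _

/-- A point-supported module with injective stalk at the point is injective. -/
theorem IsPointAt.injective {F : X.Modules} {x : X} (hF : IsPointAt F x)
    [Module.Injective (X.presheaf.stalk x) (F.presheaf.stalk x)] : Injective F := by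
  refine ⟨fun {G H} g f hf => ?_⟩
  obtain ⟨ψ, hψ⟩ := Module.Injective.out (R := X.presheaf.stalk x) (Q := F.presheaf.stalk x)
    (stalkLin f x) (stalkLin_injective f x) (stalkLin g x)
  obtain ⟨φ, hφ⟩ := hF.exists_hom H ψ
  refine ⟨φ, hF.hom_ext (LinearMap.ext fun z => ?_)⟩
  rw [stalkLin_comp, hφ, hψ]

open Groth.QCohMod in
/-- If the germ map from an affine open is bijective and the sections are injective, so is the
stalk. -/
theorem injective_stalk_of_sections (F : X.Modules) {V : X.Opens} (hV : IsAffineOpen V) {x : X}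
    (hxV : x ∈ V) (hb : Function.Bijective (F.presheaf.germ V x hxV))
    [Module.Injective Γ(X, V) Γ(F, V)] :
    Module.Injective (X.presheaf.stalk x) (F.presheaf.stalk x) := by
  refine Module.Baer.injective fun J ψ => ?_
  let γ := (X.presheaf.germ V x hxV).hom
  let a : Ideal Γ(X, V) := J.comap γ
  let eb := Equiv.ofBijective _ hb
  let g : a →ₗ[Γ(X, V)] Γ(F, V) :=
    { toFun := fun c => eb.symm (ψ ⟨γ c.1, c.2⟩)
      map_add' := fun c d => hb.1 (by
        rw [map_add]
        change eb (eb.symm _) = eb (eb.symm _) + eb (eb.symm _)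
        rw [eb.apply_symm_apply, eb.apply_symm_apply, eb.apply_symm_apply, ← map_add]
        exact congrArg ψ (Subtype.ext (map_add γ c.1 d.1)))
      map_smul' := fun r c => hb.1 (by
        rw [RingHom.id_apply, stalk_germ_smul]
        change eb (eb.symm _) = γ r • eb (eb.symm _)
        rw [eb.apply_symm_apply, eb.apply_symm_apply, ← ψ.map_smul]
        exact congrArg ψ (Subtype.ext (map_mul γ r c.1))) }
  have hg : ∀ c : a, F.presheaf.germ V x hxV (g c) = ψ ⟨γ c.1, c.2⟩ :=
    fun c => eb.apply_symm_apply _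
  obtain ⟨g', hg'⟩ := Module.Injective.out (R := Γ(X, V)) (Q := Γ(F, V)) a.subtype
    (Submodule.subtype_injective _) g
  let e : F.presheaf.stalk x := F.presheaf.germ V x hxV (g' 1)
  refine ⟨LinearMap.toSpanSingleton (X.presheaf.stalk x) _ e, ?_⟩
  intro j hj
  have hγ : ∀ c (hc : c ∈ a), ψ ⟨γ c, hc⟩ = γ c • e := by
    intro c hc
    refine (hg ⟨c, hc⟩).symm.trans ?_
    rw [← hg' ⟨c, hc⟩, show a.subtype ⟨c, hc⟩ = c • (1 : Γ(X, V)) by simp, map_smul]
    exact stalk_germ_smul F x hxV c (g' 1)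
  let _ := (X.presheaf.algebra_section_stalk (⟨x, hxV⟩ : V))
  haveI := hV.isLocalization_stalk ⟨x, hxV⟩
  obtain ⟨⟨c, d⟩, hcd⟩ := IsLocalization.surj (hV.primeIdealOf ⟨x, hxV⟩).asIdeal.primeCompl j
  change j * γ d.1 = γ c at hcd
  have hu : IsUnit (γ d.1) := IsLocalization.map_units (X.presheaf.stalk x) d
  have hc : c ∈ a := by
    change γ c ∈ J
    rw [← hcd]
    exact J.mul_mem_right _ hj
  refine (LinearMap.toSpanSingleton_apply _ _ e j).trans ?_
  refine hu.smul_left_cancel.1 ?_
  rw [← ψ.map_smul, ← mul_smul, mul_comm, hcd, ← hγ c hc]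
  exact congrArg ψ (Subtype.ext ((mul_comm (γ d.1) j).trans hcd).symm)

section Tilde

open TildeFlasque

variable {R : CommRingCat.{u}} (M : ModuleCat.{u} R)

lemma injective_tilde_top [Module.Injective R M] :
    Module.Injective Γ(Spec R, ⊤) Γ(tilde M, ⊤) := by
  let e := (tilde.isoTop M).toLinearEquiv
  have hsurj : Function.Surjective ((Scheme.ΓSpecIso R).inv) :=
    (ConcreteCategory.bijective_of_isIso (Scheme.ΓSpecIso R).inv).2
  refine ⟨fun {P Q} _ _ _ _ φ hφ g => ?_⟩
  let _ := Module.compHom P (Scheme.ΓSpecIso R).inv.hom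
  let _ := Module.compHom Q (Scheme.ΓSpecIso R).inv.hom
  have hsm : ∀ (r : R) (z : Γ(tilde M, ⊤)), r • z = (Scheme.ΓSpecIso R).inv r • z := fun r z => by
    rw [Scheme.Modules.smul_Spec_def]
    congr 1
  let φ' : P →ₗ[R] Q :=
    { φ.toAddMonoidHom with map_smul' := fun r p => φ.map_smul ((Scheme.ΓSpecIso R).inv r) p }
  let g₁ : P →ₗ[R] Γ(tilde M, ⊤) :=
    { g.toAddMonoidHom with map_smul' := fun r p => (g.map_smul _ p).trans (hsm r _).symm }
  obtain ⟨h, hh⟩ := Module.Injective.out (R := R) (Q := M) φ' hφ (e.symm.toLinearMap ∘ₗ g₁)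
  refine ⟨{ (e.toLinearMap ∘ₗ h).toAddMonoidHom with map_smul' := fun c q => ?_ }, fun p => ?_⟩
  · obtain ⟨r, rfl⟩ := hsurj c
    exact ((e.toLinearMap ∘ₗ h).map_smul r q).trans (hsm r _)
  · exact (congrArg e (hh p)).trans (e.apply_symm_apply _)

/-- The sheaf of an injective module on which elements outside `q` act bijectively and elements of
`q` act nilpotently is supported at `q`. -/
theorem isPointAt_tilde [IsNoetherianRing R] [Module.Injective R M] (q : Spec R)
    (hu : ∀ s : R, s ∉ q.asIdeal → Function.Bijective fun m : M => s • m)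
    (ht : ∀ (m : M), ∀ s ∈ q.asIdeal, ∃ n : ℕ, s ^ n • m = 0) : IsPointAt (tilde M) q := by
  let F := modulesSpecToSheaf.obj (tilde M)
  have hloc : ∀ (W : (Spec R).Opens) (y : Spec R), y ∈ W → ∃ f : R,
      y ∈ PrimeSpectrum.basicOpen f ∧ (PrimeSpectrum.basicOpen f : (Spec R).Opens) ≤ W := by
    intro W y hy
    obtain ⟨_, ⟨f, rfl⟩, hyf, hfW⟩ :=
      Opens.isBasis_iff_nbhd.1 (PrimeSpectrum.isBasis_basic_opens (R := R))
        (U := (W : Opens (PrimeSpectrum R))) hy
    exact ⟨f, hyf, hfW⟩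
  have hzero : ∀ W : (Spec R).Opens, q ∉ W → ∀ z : Γ(tilde M, W), z = 0 := by
    intro W hq z
    refine eq_of_local _ z 0 fun y hy => ?_
    obtain ⟨f, hyf, hfW⟩ := hloc W y hy
    refine ⟨PrimeSpectrum.basicOpen f, hfW, hyf, ?_⟩
    rw [map_zero]
    let L : M →ₗ[R] F.presheaf.obj (op (PrimeSpectrum.basicOpen f)) :=
      (tilde.toOpen M (PrimeSpectrum.basicOpen f)).hom
    have hfq : f ∈ q.asIdeal := by
      by_contra h
      exact hq (hfW h)
    let z' : F.presheaf.obj (op (PrimeSpectrum.basicOpen f)) := res (tilde M) hfW z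
    obtain ⟨⟨m, ⟨_, n, rfl⟩⟩, hm⟩ := IsLocalizedModule.surj (Submonoid.powers f) L z'
    obtain ⟨k, hk⟩ := ht m f hfq
    change f ^ n • z' = L m at hm
    have hu' : Function.Injective fun w : F.presheaf.obj (op (PrimeSpectrum.basicOpen f)) =>
        f ^ (k + n) • w :=
      ((Module.End.isUnit_iff _).mp (IsLocalizedModule.map_units L
        (⟨f ^ (k + n), k + n, rfl⟩ : Submonoid.powers f))).1
    refine hu' (show f ^ (k + n) • z' = f ^ (k + n) • 0 from ?_)
    rw [smul_zero, pow_add, mul_smul, hm, ← map_smul, hk, map_zero]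
  have hinj : ∀ W : (Spec R).Opens, q ∈ W → Function.Bijective (tilde.toOpen M W) := by
    intro W hq
    refine ⟨fun m m' hmm => ?_, fun z => exists_global R M W z⟩
    obtain ⟨f, hqf, hfW⟩ := hloc W q hq
    let L : M →ₗ[R] F.presheaf.obj (op (PrimeSpectrum.basicOpen f)) :=
      (tilde.toOpen M (PrimeSpectrum.basicOpen f)).hom
    have h1 : L m = L m' :=
      (congr($(tilde.toOpen_res M _ _ (homOfLE hfW)) m)).symm.trans
        ((congrArg (F.presheaf.map (homOfLE hfW).op) hmm).trans
          congr($(tilde.toOpen_res M _ _ (homOfLE hfW)) m'))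
    obtain ⟨⟨_, k, rfl⟩, hk⟩ := IsLocalizedModule.exists_of_eq (S := Submonoid.powers f) h1
    exact (hu (f ^ k) fun h => hqf (q.isPrime.mem_of_pow_mem k h)).1 hk
  refine ⟨fun W hq => ⟨fun a b => by rw [hzero W hq a, hzero W hq b]⟩, fun W' W h hq => ?_⟩
  have h2 : (fun m => res (tilde M) h (tilde.toOpen M W m)) = tilde.toOpen M W' :=
    funext fun m => congr($(tilde.toOpen_res M _ _ (homOfLE h)) m)
  refine (Function.Bijective.of_comp_iff _ (hinj W (h hq))).1 ?_
  change Function.Bijective (fun m => res (tilde M) h (tilde.toOpen M W m))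
  rw [h2]
  exact hinj W' hq

/-- ... and is injective as a module on the spectrum. -/
theorem injective_tilde_point [IsNoetherianRing R] [Module.Injective R M] (q : Spec R)
    (hu : ∀ s : R, s ∉ q.asIdeal → Function.Bijective fun m : M => s • m)
    (ht : ∀ (m : M), ∀ s ∈ q.asIdeal, ∃ n : ℕ, s ^ n • m = 0) : Injective (tilde M) := by
  have h := isPointAt_tilde M q hu ht
  haveI := injective_tilde_top M
  haveI := injective_stalk_of_sections (tilde M) (isAffineOpen_top (Spec R)) (x := q) trivial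
    (h.bijective_germ ⊤ trivial)
  exact h.injective

end Tilde

end Groth.CohTwo
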