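import Groth.Agent.HilbStab.Exists
import Groth.Agent.HilbStab.Pure
import Groth.Agent.Variety2.Reg.Pn
import Groth.Agent.Variety2.ProjBasics
import Groth.Agent.PnCoh.AmpleVanishing
import Groth.Agent.Chow.ToPn
import Groth.Agent.EulerDeg.Basic

/-!
Hilbert polynomials on projective space: the `ShStab` form (nonnegative powers of `O(1)`) against
the form with all integer twists; reduced comparison in divided form.
-/

set_option autoImplicit false

universe u

open CategoryTheory CategoryTheory.Limits AlgebraicGeometry Groth.Variety2.Reg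

noncomputable section

namespace Groth.CohTwo.ProjHilb

variable {N : ℕ} {k : Type u} [Field k]

/-- `O(1)` on projective space. -/
abbrev O1 (N : ℕ) (k : Type u) [Field k] : (CohB1.ProjSpace N k).Modules :=
  Twist.twistProjSpace N k 1

theorem isAmple_O1 : CohB1.IsAmple (O1 N k) := Groth.Chow.isAmple_O1 N k

instance : IsProper (CohB1.ProjSpace N k ↘ Spec (CommRingCat.of k)) :=
  Groth.Variety2.isProper_projSpace_toSpec N k

theorem nonempty_twist_iso (E : (CohB1.ProjSpace N k).Modules) (m : ℕ) :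
    Nonempty (ShStab.twist (CohB1.ProjSpace N k) (O1 N k) E m ≅ fT E (m : ℤ)) := by
  obtain ⟨e⟩ := Groth.PnCoh.nonempty_twist_pow (CohB1.polyGrading N k) (gen_one N k) m
  exact ⟨PicGrp.tensorModIso (Iso.refl E) e⟩

/-- The integer form of a Hilbert polynomial. -/
def IsPolyZ (E : (CohB1.ProjSpace N k).Modules) (P : Polynomial ℚ) : Prop :=
  ∀ m : ℤ, (Curv2.euler k (CohB1.ProjSpace N k)
    (CohB1.tensorMod E (Twist.twistProjSpace N k m)) : ℚ) = P.eval (m : ℚ)

theorem isHilbPoly_of_isPolyZ {E : (CohB1.ProjSpace N k).Modules} {P : Polynomial ℚ}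
    (h : IsPolyZ E P) : ShStab.IsHilbPoly k (CohB1.ProjSpace N k) (O1 N k) E P := fun m => by
  rw [EulerDeg.euler_congr (k := k) (nonempty_twist_iso E m).some]
  exact_mod_cast h m

theorem isPolyZ_of_isHilbPoly {E : (CohB1.ProjSpace N k).Modules} (hE : Coh.IsCoh E)
    {P : Polynomial ℚ} (h : ShStab.IsHilbPoly k (CohB1.ProjSpace N k) (O1 N k) E P) :
    IsPolyZ E P := by
  haveI := Groth.HilbStab.isLocallyNoetherian k (X := CohB1.ProjSpace N k)
  intro m
  obtain ⟨P', hP'⟩ := Groth.HilbStab.exists_isHilbPoly k (CohB1.ProjSpace N k) isAmple_O1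
    (isCoh_fT E hE m)
  have hnat : ∀ t : ℕ, (Curv2.euler k (CohB1.ProjSpace N k) (fT E (m + t)) : ℚ) =
      P'.eval (t : ℚ) := fun t => by
    rw [← hP' t, EulerDeg.euler_congr (k := k) (nonempty_twist_iso (fT E m) t).some,
      EulerDeg.euler_congr (k := k) (nonempty_twist_twist E m (t : ℤ) (m + t) rfl).some]
  have heq : P' = Polynomial.taylor (m : ℚ) P := by
    refine Polynomial.eq_of_infinite_eval_eq _ _ (Set.Infinite.mono ?_ (Set.Infinite.image
      (Nat.cast_injective (R := ℚ)).injOn (Set.Ici_infinite (-m).toNat)))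
    rintro _ ⟨t, ht, rfl⟩
    have ht' : 0 ≤ m + t := by simp only [Set.mem_Ici] at ht; omega
    obtain ⟨s, hs⟩ := Int.eq_ofNat_of_zero_le ht'
    change P'.eval (t : ℚ) = _
    rw [← hnat t, Polynomial.taylor_eval, hs,
      ← EulerDeg.euler_congr (k := k) (nonempty_twist_iso E s).some, h s]
    congr 1
    rw [show (s : ℚ) = ((m + t : ℤ) : ℚ) by rw [hs]; norm_num]
    push_cast
    ring
  have := hnat 0
  rw [Nat.cast_zero, add_zero, Nat.cast_zero, heq, Polynomial.taylor_eval, zero_add] at this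
  exact this

theorem isPolyZ_iff {E : (CohB1.ProjSpace N k).Modules} (hE : Coh.IsCoh E) (P : Polynomial ℚ) :
    IsPolyZ E P ↔ ShStab.IsHilbPoly k (CohB1.ProjSpace N k) (O1 N k) E P :=
  ⟨isHilbPoly_of_isPolyZ, isPolyZ_of_isHilbPoly hE⟩

theorem redLE_iff_div {d : ℕ} {P Q : Polynomial ℚ} (hP : 0 < StabCat.alpha d P)
    (hQ : 0 < StabCat.alpha d Q) :
    StabCat.RedLE d P Q ↔ ∃ M : ℤ, ∀ m : ℤ, M ≤ m →
      P.eval (m : ℚ) / StabCat.alpha d P ≤ Q.eval (m : ℚ) / StabCat.alpha d Q := by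
  constructor
  · rintro ⟨M, hM⟩
    refine ⟨M, fun m hm => ?_⟩
    obtain ⟨t, rfl⟩ := Int.eq_ofNat_of_zero_le (show 0 ≤ m by omega)
    have := hM t (by omega)
    rw [Polynomial.eval_smul, Polynomial.eval_smul, smul_eq_mul, smul_eq_mul] at this
    rw [div_le_div_iff₀ hP hQ]
    push_cast
    linarith
  · rintro ⟨M, hM⟩
    refine ⟨M.toNat, fun t ht => ?_⟩
    have := hM (t : ℤ) (by omega)
    rw [div_le_div_iff₀ hP hQ] at this
    rw [Polynomial.eval_smul, Polynomial.eval_smul, smul_eq_mul, smul_eq_mul]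
    push_cast at this
    linarith

theorem redLT_iff_div {d : ℕ} {P Q : Polynomial ℚ} (hP : 0 < StabCat.alpha d P)
    (hQ : 0 < StabCat.alpha d Q) :
    StabCat.RedLT d P Q ↔ ∃ M : ℤ, ∀ m : ℤ, M ≤ m →
      P.eval (m : ℚ) / StabCat.alpha d P < Q.eval (m : ℚ) / StabCat.alpha d Q := by
  constructor
  · rintro ⟨M, hM⟩
    refine ⟨M, fun m hm => ?_⟩
    obtain ⟨t, rfl⟩ := Int.eq_ofNat_of_zero_le (show 0 ≤ m by omega)
    have := hM t (by omega)
    rw [Polynomial.eval_smul, Polynomial.eval_smul, smul_eq_mul, smul_eq_mul] at this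
    rw [div_lt_div_iff₀ hP hQ]
    push_cast
    linarith
  · rintro ⟨M, hM⟩
    refine ⟨M.toNat, fun t ht => ?_⟩
    have := hM (t : ℤ) (by omega)
    rw [div_lt_div_iff₀ hP hQ] at this
    rw [Polynomial.eval_smul, Polynomial.eval_smul, smul_eq_mul, smul_eq_mul]
    push_cast at this
    linarith

end Groth.CohTwo.ProjHilb

namespace Groth.CohTwo.ChainSeries

variable {α : Type*} [PartialOrder α] [BoundedOrder α]

/-- A finite chain through `⊥` and `⊤` as a series, consecutive terms being neighbours in the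
chain. -/
theorem exists_series_of_chain (C : Finset α) (hb : ⊥ ∈ C) (ht : ⊤ ∈ C)
    (hC : IsChain (fun A B : α => A ≤ B) (↑C : Set α)) :
    ∃ s : LTSeries α, s.head = ⊥ ∧ s.last = ⊤ ∧ (∀ A, A ∈ C ↔ ∃ i, s i = A) ∧
      ∀ i : Fin s.length, ∀ D ∈ C, ¬ (s i.castSucc < D ∧ D < s i.succ) := by
  classical
  letI : LinearOrder C :=
    { (inferInstance : PartialOrder C) with
      le_total := fun a b => hC.total a.2 b.2
      toDecidableLE := fun _ _ => Classical.dec _ }
  obtain ⟨n, hn⟩ : ∃ n, C.card = n + 1 := ⟨C.card - 1, by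
    have := Finset.card_pos.2 ⟨_, hb⟩; omega⟩
  let e : Fin (n + 1) ≃o C := Fintype.orderIsoFinOfCardEq C (by simpa using hn)
  have hlt : ∀ i : Fin n, (e i.castSucc : α) < (e i.succ : α) := fun i =>
    show e i.castSucc < e i.succ from e.strictMono (Fin.castSucc_lt_succ (i := i))
  refine ⟨⟨n, fun i => (e i : α), hlt⟩, ?_, ?_, fun A => ?_, fun i D hD h => ?_⟩
  · refine le_antisymm ?_ bot_le
    obtain ⟨j, hj⟩ := e.surjective ⟨⊥, hb⟩
    change (e 0 : α) ≤ ⊥
    have h0 : e 0 ≤ e j := e.monotone (Fin.zero_le j)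
    rw [hj] at h0
    exact h0
  · refine le_antisymm le_top ?_
    obtain ⟨j, hj⟩ := e.surjective ⟨⊤, ht⟩
    change ⊤ ≤ (e (Fin.last n) : α)
    have h0 : e j ≤ e (Fin.last n) := e.monotone (Fin.le_last j)
    rw [hj] at h0
    exact h0
  · refine ⟨fun hA => ?_, ?_⟩
    · obtain ⟨j, hj⟩ := e.surjective ⟨A, hA⟩
      exact ⟨j, congrArg Subtype.val hj⟩
    · rintro ⟨j, rfl⟩
      exact (e j).2
  · obtain ⟨j, hj⟩ := e.surjective ⟨D, hD⟩
    have h1 : e i.castSucc < e j := by rw [hj]; exact h.1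
    have h2 : e j < e i.succ := by rw [hj]; exact h.2
    rw [e.lt_iff_lt] at h1 h2
    simp only [Fin.lt_def, Fin.val_castSucc, Fin.val_succ] at h1 h2
    omega

theorem not_between (s : LTSeries α) (i : Fin s.length) (j : Fin (s.length + 1)) :
    ¬ (s i.castSucc < s j ∧ s j < s i.succ) := fun h => by
  have h1 := s.strictMono.lt_iff_lt.1 h.1
  have h2 := s.strictMono.lt_iff_lt.1 h.2
  simp only [Fin.lt_def, Fin.val_castSucc, Fin.val_succ] at h1 h2
  omega

theorem exists_index (s : LTSeries α) {A B : α} (hA : ∃ i, s i = A) (hB : ∃ i, s i = B)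
    (hAB : A < B) (hbtw : ∀ i, ¬ (A < s i ∧ s i < B)) :
    ∃ i : Fin s.length, s i.castSucc = A ∧ s i.succ = B := by
  obtain ⟨a, rfl⟩ := hA
  obtain ⟨b, rfl⟩ := hB
  have hab := s.strictMono.lt_iff_lt.1 hAB
  have ha : a.val < s.length := by have := b.2; simp only [Fin.lt_def] at hab; omega
  refine ⟨⟨a.val, ha⟩, rfl, ?_⟩
  by_contra hne
  refine hbtw (Fin.succ ⟨a.val, ha⟩) ⟨s.strictMono (by simp [Fin.lt_def]), s.strictMono ?_⟩
  have hne' : (Fin.succ ⟨a.val, ha⟩ : Fin (s.length + 1)) ≠ b := fun e => hne (congrArg s e)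
  simp only [Fin.lt_def, ne_eq, Fin.ext_iff, Fin.val_succ] at hab hne' ⊢
  omega

/-- Two series with the same terms are equal. -/
theorem series_ext (s t : LTSeries α) (h : ∀ A, (∃ i, s i = A) ↔ ∃ i, t i = A) : s = t := by
  classical
  have hlen : s.length = t.length := by
    have h1 : (Finset.univ.image s).card = s.length + 1 := by
      rw [Finset.card_image_of_injective _ s.strictMono.injective]; simp
    have h2 : (Finset.univ.image t).card = t.length + 1 := by
      rw [Finset.card_image_of_injective _ t.strictMono.injective]; simp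
    have h3 : Finset.univ.image s = Finset.univ.image t := by
      ext A; simpa using h A
    rw [h3, h2] at h1; omega
  obtain ⟨n, f, hf⟩ := s
  obtain ⟨m, g, hg⟩ := t
  subst hlen
  have hrange : Set.range f = Set.range g := by ext A; exact h A
  obtain rfl : f = g := (StrictMono.range_inj (LTSeries.strictMono ⟨n, f, hf⟩)
    (LTSeries.strictMono ⟨n, g, hg⟩)).1 hrange
  rfl

end Groth.CohTwo.ChainSeries
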