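import Groth.Agent.CohTwo.ProjTwistVanish

/-!
# Quasi-coherent modules on projective space are quotients of twists of modules from the base
-/

universe u

open CategoryTheory CategoryTheory.Limits AlgebraicGeometry Opposite TopologicalSpace
open Groth.PicAux Groth.Ega2Proj Groth.CohBase Groth.Variety2.Reg Groth.KTheory
open Groth.KTheory.RegKoszul

namespace Groth.CohTwo.ProjTwistEpi

variable {n : ℕ} {T : Scheme.{u}}

/-- The power of a coordinate as a generator of a twist. -/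
noncomputable def E (t : ℕ) (a : ℤ) : Γ(Twist.twistOver n T a, U n T t) :=
  pullSec (prZ n T) _ (pwSec (𝒜 := CohB1.polyGrading n (ULift.{u} ℤ)) (N := a) (Xmem t) a (by simp)
    (U := OZ n t) fun x hx => hx)

theorem gen_E (t : ℕ) (a : ℤ) : Gen (Twist.twistOver n T a) (U n T t) (E (n := n) (T := T) t a) :=
  (gen_pwSec (N := a) (Xmem t) a (by simp) fun x hx => hx).pull (prZ n T)

theorem mulT_E (t : ℕ) (a b : ℤ) (h : b = a + 1) :
    (mulT n T t a b h).app (U n T t) (E t a) = E t b :=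
  (pullSec_map (prZ n T) (mulZ t a b h) _).trans
    (congrArg (pullSec (prZ n T) _) (mulG_pwSec (Xmem t) h fun x hx => hx))

variable (F : (KRR.PY n T).Modules)

theorem P_tmul (t : ℕ) {W : (KRR.PY n T).Opens} (hW : W ≤ U n T t) (y : Γ(F, W)) : ∀ e : ℕ,
    (P F t e).app W (tmulSec y (PicAux.res _ hW (E t ((0 : ℕ) : ℤ)))) =
      tmulSec y (PicAux.res _ hW (E t (e : ℤ)))
  | 0 => P_zero_app F t W _
  | e + 1 => by
    rw [P_succ_app, P_tmul t hW y e]
    refine (op_tmulSec F t _ _ _ W y _).trans (congrArg (tmulSec y) ?_)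
    exact (PicAux.app_res (mulT n T t _ _ _) hW _).trans (congrArg _ (mulT_E t _ _ _))

variable (n T) in
theorem nonempty_pair (e : ℕ) : Nonempty (CohB1.tensorMod (Twist.twistOver n T (e : ℤ))
    (Twist.twistOver n T (-((e : ℕ) : ℤ))) ≅ Twist.twistOver n T ((0 : ℕ) : ℤ)) :=
  ⟨(RegSheaf.nonempty_twistOver_add n T (e : ℤ) (-((e : ℕ) : ℤ))).some ≪≫
    eqToIso (by rw [add_neg_cancel]; rfl)⟩

/-- `F(e) ⊗ O(-e) → F`. -/
noncomputable def untwist (e : ℕ) :
    CohB1.tensorMod (H F e) (Twist.twistOver n T (-((e : ℕ) : ℤ))) ⟶ F :=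
  (exists_associator F (Twist.twistOver n T (e : ℤ)) (Twist.twistOver n T (-((e : ℕ) : ℤ)))).choose.hom ≫
    KoszTw.tensorMap (𝟙 F) (nonempty_pair n T e).some.hom ≫
      ((nonempty_G_iso_twF F _).some ≪≫ (RegSheaf.nonempty_twF_zero n T F).some).hom

/-- The counit on the twist. -/
noncomputable def eps (e : ℕ) :
    (Scheme.Modules.pullback (KRR.pr n T)).obj ((Scheme.Modules.pushforward (KRR.pr n T)).obj (H F e)) ⟶ H F e :=
  (Scheme.Modules.pullbackPushforwardAdjunction (KRR.pr n T)).counit.app (H F e)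

/-- The terms of the presentation. -/
noncomputable abbrev term (j : ULift.{u} ℕ) : (KRR.PY n T).Modules :=
  CohB1.tensorMod ((Scheme.Modules.pullback (KRR.pr n T)).obj
    ((Scheme.Modules.pushforward (KRR.pr n T)).obj (H F (j.down + 1))))
    (Twist.twistOver n T (-((j.down + 1 : ℕ) : ℤ)))

/-- The map of the `e`-th term. -/
noncomputable def piece (e : ℕ) : CohB1.tensorMod ((Scheme.Modules.pullback (KRR.pr n T)).obj
    ((Scheme.Modules.pushforward (KRR.pr n T)).obj (H F e))) (Twist.twistOver n T (-((e : ℕ) : ℤ))) ⟶ F :=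
  KoszTw.tensorMap (eps F e) (𝟙 (Twist.twistOver n T (-((e : ℕ) : ℤ)))) ≫ untwist F e

/-- The presentation. -/
noncomputable def pres : (∐ fun j => term F j) ⟶ F :=
  Sigma.desc fun j : ULift.{u} ℕ => piece F (j.down + 1)

theorem pres_surjective [F.IsQuasicoherent] {V : T.Opens} (hV : IsAffineOpen V) (i : ℕ)
    (s : Γ(F, U n T i ⊓ KRR.pr n T ⁻¹ᵁ V)) :
    ∃ u, (pres F).app (U n T i ⊓ KRR.pr n T ⁻¹ᵁ V) u = s := by
  let A := U n T i ⊓ KRR.pr n T ⁻¹ᵁ V
  have hAU : A ≤ U n T i := inf_le_left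
  let Θ : H F 0 ≅ F := (nonempty_G_iso_twF F _).some ≪≫ (RegSheaf.nonempty_twF_zero n T F).some
  obtain ⟨y, hy⟩ := (tmulSec_bijective (M := F) hAU (gen_E (n := n) (T := T) i ((0 : ℕ) : ℤ))).2 (Θ.inv.app A s)
  obtain ⟨e₀, z₀, hz₀⟩ := Groth.KTheory.RegKoszul.exists_extend F hV i (Θ.inv.app A s)
  let e := e₀ + 1
  let z : Γ(H F e, KRR.pr n T ⁻¹ᵁ V) := (o F i e₀).app _ z₀
  have hy' : tmulSec y (PicAux.res _ hAU (E i ((0 : ℕ) : ℤ))) = Θ.inv.app A s := hy
  have hz : PicAux.res (H F e) (inf_le_right : A ≤ KRR.pr n T ⁻¹ᵁ V) z =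
      tmulSec y (PicAux.res _ hAU (E i (e : ℤ))) := by
    rw [← P_tmul F i hAU y e, hy']
    exact (PicAux.app_res _ _ _).symm.trans
      ((congrArg ((o F i e₀).app A) hz₀).trans (P_succ_app F i e₀ A _).symm)
  let ψ := (nonempty_pair n T e).some
  have hg := (((gen_E (n := n) (T := T) i (e : ℤ)).tensor (gen_E i (-((e : ℕ) : ℤ)))).map ψ.hom).res hAU
  obtain ⟨c, hc⟩ := (hg A le_rfl).2 (PicAux.res _ hAU (E i ((0 : ℕ) : ℤ)))
  let b : Γ(Twist.twistOver n T (-((e : ℕ) : ℤ)), A) := c • PicAux.res _ hAU (E i (-((e : ℕ) : ℤ)))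
  let M := (Scheme.Modules.pushforward (KRR.pr n T)).obj (H F e)
  let w : Γ((Scheme.Modules.pullback (KRR.pr n T)).obj M, A) :=
    PicAux.res _ inf_le_right (pullSec (KRR.pr n T) M (z : Γ(M, V)))
  refine ⟨(Sigma.ι (fun j => term F j) ⟨e₀⟩).app A (tmulSec w b), ?_⟩
  rw [← ConcreteCategory.comp_apply, ← Scheme.Modules.Hom.comp_app, pres, Sigma.ι_desc]
  change (piece F e).app A (tmulSec w b) = s
  rw [piece, Scheme.Modules.Hom.comp_app, ConcreteCategory.comp_apply, tensorMap_app_tmulSec]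
  have hw : (eps F e).app A w = tmulSec y (PicAux.res _ hAU (E i (e : ℤ))) := by
    rw [← hz, PicAux.app_res]
    refine congrArg (PicAux.res (H F e) inf_le_right) ?_
    exact congr(($((Scheme.Modules.pullbackPushforwardAdjunction
      (KRR.pr n T)).right_triangle_components (H F e))).app V z)
  have hb : (𝟙 (Twist.twistOver n T (-((e : ℕ) : ℤ))) : _ ⟶ _).app A b = b := rfl
  change (untwist F e).app A (tmulSec ((eps F e).app A w) ((𝟙 (Twist.twistOver n T (-((e : ℕ) : ℤ))) : _ ⟶ _).app A b)) = s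
  rw [hw, hb, untwist, Scheme.Modules.Hom.comp_app, Scheme.Modules.Hom.comp_app,
    ConcreteCategory.comp_apply, ConcreteCategory.comp_apply,
    (exists_associator F (Twist.twistOver n T (e : ℤ)) (Twist.twistOver n T (-((e : ℕ) : ℤ)))).choose_spec,
    tensorMap_app_tmulSec]
  have hψ : ψ.hom.app A (tmulSec (PicAux.res _ hAU (E i (e : ℤ))) b) = PicAux.res _ hAU (E i ((0 : ℕ) : ℤ)) := by
    rw [← hc]
    show ψ.hom.app A (tmulSec _ (c • _)) = _
    rw [tmulSec_smul_right, Scheme.Modules.Hom.app_smul, PicAux.res_self, ← PicAux.app_res, res_tmulSec]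
  have hid : (𝟙 F : F ⟶ F).app A y = y := rfl
  change Θ.hom.app A (tmulSec ((𝟙 F : F ⟶ F).app A y) (ψ.hom.app A (tmulSec (PicAux.res _ hAU (E i (e : ℤ))) b))) = s
  rw [hid, hψ, hy']
  exact congr(($(Θ.inv_hom_id)).app A s)

theorem epi_pres (hF : Coh.IsQCoh F) : Epi (pres F) := by
  haveI : F.IsQuasicoherent := hF
  refine (QCohMod.epi_iff_stalk (pres F)).mpr fun x t => ?_
  obtain ⟨V, hV, hxV⟩ := Groth.QCohMod.exists_affine_mem (KRR.pr n T x)
  obtain ⟨i, -, hxi⟩ := exists_mem_U x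
  set A := U n T i ⊓ KRR.pr n T ⁻¹ᵁ V
  have hA : IsAffineOpen A := isAffineOpen_piece hV i
  have hxA : x ∈ A := ⟨hxi, hxV⟩
  obtain ⟨O, hxO, m, rfl⟩ := QCohMod.exists_germ F x t
  obtain ⟨f, hfO, hxf⟩ := hA.exists_basicOpen_le (V := O) ⟨x, hxO⟩ hxA
  obtain ⟨k, t', ht'⟩ := QCohMod.exists_pow_smul_eq_res F hA f (PicAux.res F hfO m)
  obtain ⟨u, hu⟩ := pres_surjective F hV i t'
  obtain ⟨v, hv⟩ : IsUnit (resX (KRR.PY n T) ((KRR.PY n T).basicOpen_le f) f ^ k) :=
    IsUnit.pow k (RingedSpace.isUnit_res_basicOpen _ f)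
  refine ⟨QCohMod.germ _ x hxf ((↑v⁻¹ : Γ(KRR.PY n T, (KRR.PY n T).basicOpen f)) •
    PicAux.res _ ((KRR.PY n T).basicOpen_le f) u), ?_⟩
  refine (QCohMod.stalk_map_germ (pres F) x hxf _).trans ?_
  have key : PicAux.res F ((KRR.PY n T).basicOpen_le f) t' =
      (v : Γ(KRR.PY n T, (KRR.PY n T).basicOpen f)) • PicAux.res F hfO m := by
    rw [hv]; exact ht'
  rw [Scheme.Modules.Hom.app_smul, PicAux.app_res, hu, key, ← mul_smul, Units.inv_mul, one_smul]
  exact QCohMod.germ_res F hfO x hxf m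

theorem exists_presentation (hF : Coh.IsQCoh F) :
    ∃ (ι : Type u) (G : ι → T.Modules) (m : ι → ℕ)
      (p : (∐ fun j => CohB1.tensorMod ((Scheme.Modules.pullback (KRR.pr n T)).obj (G j))
        (Twist.twistOver n T (-((m j : ℕ) : ℤ)))) ⟶ F),
      (∀ j, Coh.IsQCoh (G j)) ∧ (∀ j, 0 < m j) ∧ Epi p := by
  haveI : F.IsQuasicoherent := hF
  refine ⟨ULift.{u} ℕ, fun j => (Scheme.Modules.pushforward (KRR.pr n T)).obj (H F (j.down + 1)),
    fun j => j.down + 1, pres F, fun j => ?_, fun j => Nat.succ_pos _, epi_pres F hF⟩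
  haveI : (H F (j.down + 1)).IsQuasicoherent :=
    haveI := KTheory.LocFree.isQCoh (RegSheaf.isFinLocFree_twistOver n T ((j.down + 1 : ℕ) : ℤ))
    Groth.QCohMod.isQCoh_tensorMod
  exact Groth.QCohMod.isQCoh_pushforward _ (KRR.pr n T)

end Groth.CohTwo.ProjTwistEpi
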