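import Groth.Agent.KTheory.RegKoszulBC

/-!
# Very negative twists of modules from the base have cohomology in top degree only
-/

universe u

open CategoryTheory CategoryTheory.Limits AlgebraicGeometry Opposite TopologicalSpace
open Groth.PicAux Groth.CohBase Groth.Variety2.Reg Groth.KTheory
open Groth.KTheory.RegKoszul
open CategoryTheory.Abelian (Ext)

namespace Groth.CohTwo.ProjTwistVanish

section formal

variable {X : Scheme.{u}} {W : X.Opens}

theorem hv_zero_of_mono {M N : X.Modules} (f : M ⟶ N) [Mono f] (h : HV W N 0) : HV W M 0 := by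
  haveI : Mono ((toAbF X).map f) := (shortExact_toAb (cokernel_shortExact f)).mono_f
  refine subsingleton_of_forall_eq 0 fun x => ?_
  obtain ⟨φ, rfl⟩ := (Ext.mk₀_bijective _ _).2 x
  have h0 : (Ext.mk₀ φ).comp (Ext.mk₀ ((toAbF X).map f)) (add_zero 0) = 0 := h.elim _ _
  rw [Ext.mk₀_comp_mk₀, ← Ext.mk₀_zero] at h0
  have h1 : φ = 0 := (cancel_mono ((toAbF X).map f)).mp (by
    rw [zero_comp]; exact (Ext.mk₀_bijective _ _).1 h0)
  rw [h1, Ext.mk₀_zero]
  rfl

variable {G : ℤ → X.Modules}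

/-- The top Koszul term has the bottom module as a retract. -/
theorem exists_retract : ∀ (s : ℕ) (a : ℤ),
    ∃ (i : G (a - s) ⟶ Kosz.obj G s s a) (p : Kosz.obj G s s a ⟶ G (a - s)), i ≫ p = 𝟙 _
  | 0, a => ⟨eqToHom (by simp [Kosz.obj]), eqToHom (by simp [Kosz.obj]), by simp⟩
  | s + 1, a => by
    obtain ⟨i, p, h⟩ := exists_retract s (a - 1)
    refine ⟨eqToHom (congrArg G (by push_cast; ring)) ≫ i ≫ Kosz.ι₂ G s s a,
      Kosz.π₂ G s s a ≫ p ≫ eqToHom (congrArg G (by push_cast; ring)), ?_⟩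
    simp [reassoc_of% h]

variable (op : ∀ (_ : ℕ) (a b : ℤ), b = a + 1 → (G a ⟶ G b)) (s : ℕ)
  (hcomm : ∀ (t t' : ℕ) (a b b' c : ℤ) (hab : b = a + 1) (hab' : b' = a + 1) (hbc : c = b + 1)
    (hbc' : c = b' + 1), op t a b hab ≫ op t' b c hbc = op t' a b' hab' ≫ op t b' c hbc')
  (hiso : ∀ x : X, ∃ i < s, ∀ (a b : ℤ) (h : b = a + 1),
    Function.Bijective ((QCohMod.stalk x).map (op i a b h)))

include hcomm hiso in
theorem hv_cycles_low (a : ℤ) : ∀ (q j : ℕ), q ≤ j →
    (∀ (i q' : ℕ), q' ≤ q → i + q = j + 1 + q' → HV W (G (a - i)) q') →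
    HV W (kernel (Kosz.d op s j a)) q
  | 0, j, _, h => hv_zero_of_mono (kernel.ι (Kosz.d op s j a))
      (hv_kosz s (j + 1) a 0 (h (j + 1) 0 le_rfl (by omega)))
  | q + 1, j, hj, h => by
    obtain ⟨j', rfl⟩ : ∃ j', j = j' + 1 := ⟨j - 1, by omega⟩
    obtain ⟨w, hw⟩ := shortExact_cycles op s hcomm hiso j' a
    exact hVanish_first (shortExact_toAb hw) (hv_kosz s (j' + 2) a _ (h (j' + 2) (q + 1) le_rfl (by omega)))
      (hv_cycles_low a q j' (by omega) fun i q' hq' hi => h i q' (by omega) (by omega))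

include hcomm hiso in
/-- Vanishing below the top degree propagates to lower twists. -/
theorem hv_descend (hs : 2 ≤ s) (c : ℤ) (q : ℕ) (hq : q + 2 ≤ s)
    (h : ∀ (i q' : ℕ), q' ≤ q → 1 ≤ i → i < s → HV W (G (c + i)) q') : HV W (G c) q := by
  obtain ⟨r, rfl⟩ : ∃ r, s = r + 2 := ⟨s - 2, by omega⟩
  obtain ⟨w, hw⟩ := shortExact_cycles op (r + 2) hcomm hiso r (c + (r + 2 : ℕ))
  have hz : IsZero (kernel (Kosz.d op (r + 2) (r + 1) (c + (r + 2 : ℕ)))) := by
    obtain ⟨w', hw'⟩ := shortExact_cycles op (r + 2) hcomm hiso (r + 1) (c + (r + 2 : ℕ))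
    haveI := hw'.epi_g
    exact IsZero.of_epi (toCycles op (r + 2) (Kosz.d_comp_d op hcomm (r + 2)) (r + 1) _)
      (isZero_kosz (r + 2) (r + 3) _ (by omega))
  have h₃ : HV W (kernel (Kosz.d op (r + 2) r (c + (r + 2 : ℕ)))) q :=
    hv_cycles_low op (r + 2) hcomm hiso _ q r (by omega) fun i q' hq' hi => by
      have := h (r + 2 - i) q' hq' (by omega) (by omega)
      rwa [show c + ((r + 2 - i : ℕ) : ℤ) = c + (r + 2 : ℕ) - i by omega] at this
  have h₂ := hVanish_middle (shortExact_toAb hw) (HV.of_isZero hz q) h₃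
  obtain ⟨i, p, hip⟩ := exists_retract (G := G) (r + 2) (c + (r + 2 : ℕ))
  have hG : HV W (G (c + (r + 2 : ℕ) - (r + 2 : ℕ))) q := by
    refine subsingleton_of_forall_eq 0 fun x => ?_
    have h0 : (x : Ext _ _ q).comp (Ext.mk₀ ((toAbF X).map i)) (add_zero q) = 0 := h₂.elim _ _
    have h1 : (x : Ext _ _ q).comp (Ext.mk₀ ((toAbF X).map (i ≫ p))) (add_zero q) = 0 := by
      rw [Functor.map_comp, ← Ext.mk₀_comp_mk₀, ← Ext.comp_assoc_of_second_deg_zero, h0, Ext.zero_comp]
    rw [hip, CategoryTheory.Functor.map_id] at h1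
    exact (Ext.comp_mk₀_id x).symm.trans h1
  rwa [add_sub_cancel_right] at hG

end formal

variable {n : ℕ} {T : Scheme.{u}}

/-- Negative twists of modules from the base vanish outside the top degree. -/
theorem van_twF_pullback_neg (E : T.Modules) (hE : Coh.IsQCoh E) : ∀ {d : ℤ}, d < 0 → ∀ {i : ℕ},
    i ≠ n → RegSheaf.Van n T (KRR.twF n T d ((Scheme.Modules.pullback (KRR.pr n T)).obj E)) i := by
  suffices H : ∀ (e : ℕ) (d : ℤ), d < 0 → -(d + n) ≤ e → ∀ i : ℕ, i ≠ n →
      RegSheaf.Van n T (KRR.twF n T d ((Scheme.Modules.pullback (KRR.pr n T)).obj E)) i from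
    fun {d} hd {i} hi => H (-(d + n)).toNat d hd (Int.self_le_toNat _) i hi
  intro e
  induction e with
  | zero => exact fun d hd he i _ => van_twF_pullback' E hE (Or.inr hd) (Or.inl (by omega))
  | succ e ih =>
    intro d hd he i hi
    by_cases hdn : -(n : ℤ) ≤ d
    · exact van_twF_pullback' E hE (Or.inr hd) (Or.inl hdn)
    by_cases hin : n < i
    · exact van_twF_pullback' E hE (Or.inr hd) (Or.inr hin)
    intro V hV
    refine HV.of_iso (nonempty_G_iso_twF ((Scheme.Modules.pullback (KRR.pr n T)).obj E) d).some ?_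
    refine hv_descend (G := G ((Scheme.Modules.pullback (KRR.pr n T)).obj E))
      (op _) (n + 1) (op_comm _) (op_stalk_bijective _) (by omega) d i (by omega) fun j q hq hj hjn => ?_
    exact HV.of_iso (nonempty_G_iso_twF _ _).some.symm
      (ih (d + j) (by omega) (by omega) q (by omega) V hV)

theorem isQCoh_pullback_twist (E : T.Modules) (hE : Coh.IsQCoh E) (d : ℤ) :
    (RegKoszul.G ((Scheme.Modules.pullback (KRR.pr n T)).obj E) d).IsQuasicoherent := by
  haveI : E.IsQuasicoherent := hE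
  haveI := KTheory.LocFree.isQCoh (RegSheaf.isFinLocFree_twistOver n T d)
  haveI := Groth.QCohMod.isQCoh_pullback_obj (KRR.pr n T) E
  exact Groth.QCohMod.isQCoh_tensorMod

/-- Higher direct images of sums of negative twists of modules from the base. -/
theorem isZero_Rpush_sigma (Y : Scheme.{u}) (n : ℕ) {ι : Type u} (G : ι → Y.Modules)
    (hG : ∀ j, Coh.IsQCoh (G j)) (m : ι → ℕ) (hm : ∀ j, 0 < m j) (i : ℕ) (hi : i ≠ n) :
    IsZero ((Coh.RpushAb (CohB1.ProjSpaceOver.toBase n Y) i).obj (Coh.toAb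
      (∐ fun j => CohB1.tensorMod ((Scheme.Modules.pullback (CohB1.ProjSpaceOver.toBase n Y)).obj (G j))
        (Twist.twistOver n Y (-((m j : ℕ) : ℤ)))))) := by
  let L : (KRR.PY n Y).Modules :=
    ∐ fun j => RegKoszul.G ((Scheme.Modules.pullback (KRR.pr n Y)).obj (G j)) (-((m j : ℕ) : ℤ))
  haveI : L.IsQuasicoherent :=
    haveI := fun j => isQCoh_pullback_twist (n := n) (G j) (hG j) (-((m j : ℕ) : ℤ))
    Groth.QCohMod.isQCoh_sigma _
  let J := injectiveResolution L
  obtain ⟨a⟩ := nonempty_RpushAb_iso_homology (KRR.pr n Y) J i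
  have hv : ∀ V : Y.Opens, IsAffineOpen V → HV (KRR.pr n Y ⁻¹ᵁ V) L i := fun V hV => by
    haveI : IsAffine (V : Scheme.{u}) := hV
    have hqs : QuasiSeparatedSpace ((KRR.pr n Y ⁻¹ᵁ V : (KRR.PY n Y).Opens) : Scheme.{u}) :=
      quasiSeparatedSpace_of_quasiSeparated (KRR.pr n Y ∣_ V)
    refine hv_sigma _ ((KRR.pr n Y).isCompact_preimage hV.isCompact)
      ((isQuasiSeparated_iff_quasiSeparatedSpace _ (KRR.pr n Y ⁻¹ᵁ V).2).2 hqs) _ fun j => ?_
    exact HV.of_iso (nonempty_G_iso_twF _ _).some.symm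
      (van_twF_pullback_neg (G j) (hG j) (by have := hm j; omega) hi V hV)
  have hz := isZero_homology_pushCx (KRR.pr n Y) J i fun x => by
    obtain ⟨U, hU, hx⟩ := Groth.QCohMod.exists_affine_mem x
    exact ⟨U, hU, hx, hv U hU⟩
  haveI : (toAbF Y).Additive := inferInstance
  exact ((toAbF Y).map_isZero hz).of_iso a

end Groth.CohTwo.ProjTwistVanish
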