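import Groth.Agent.CohBase.AffineHomCriterion
import Groth.Agent.CohBase.IdealOfClosed
import Groth.Agent.QCohMod.Local
import Groth.Agent.QCohMod.Category

/-!
Extensions of quasi-coherent modules are quasi-coherent.
-/

universe u

open CategoryTheory CategoryTheory.Limits AlgebraicGeometry Opposite TopologicalSpace

namespace Groth.CohTwo.QCohExt

open Groth.CohBase

variable {X : Scheme.{u}}

local notation "ρ" => Groth.QCohMod.res

theorem surjective_app {S : ShortComplex X.Modules} (hS : S.ShortExact) [S.X₁.IsQuasicoherent]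
    {U : X.Opens} (hU : IsAffineOpen U) : Function.Surjective (S.g.app U) := fun t => by
  obtain ⟨s, hs⟩ := sections_surjective (shortExact_toAb hS) (hVanish_of_isAffineOpen S.X₁ hU 0) t
  exact ⟨s, hs⟩

/-- An extension of quasi-coherent modules is quasi-coherent. -/
theorem isQCoh_of_shortExact {S : ShortComplex X.Modules} (hS : S.ShortExact)
    [S.X₁.IsQuasicoherent] [S.X₃.IsQuasicoherent] : S.X₂.IsQuasicoherent := by
  have := hS.mono_f
  refine Groth.QCohMod.isQCoh_of_affine_cover _ fun x => ?_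
  obtain ⟨_, ⟨U, hU, rfl⟩, hx, -⟩ :=
    X.isBasis_affineOpens.exists_subset_of_mem_open (Set.mem_univ x) isOpen_univ
  refine ⟨U, hU, hx, fun f m => ?_, fun f m hm => ?_⟩
  · have hf := hU.basicOpen f
    obtain ⟨k, c, hc⟩ := Groth.QCohMod.exists_pow_smul_eq_res S.X₃ hU f (S.g.app _ m)
    obtain ⟨b, rfl⟩ := surjective_app hS hU c
    have h0 : S.g.app (X.basicOpen f) (Groth.QCohMod.resFun X (X.basicOpen_le f) f ^ k • m -
        ρ S.X₂ (X.basicOpen_le f) b) = 0 := by
      rw [map_sub, Scheme.Modules.Hom.app_smul, ← Groth.QCohMod.res_app, hc, sub_self]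
    obtain ⟨a, ha⟩ := Groth.QCohMod.exists_app_eq_of_mono_exact hS.exact _ _ h0
    obtain ⟨l, a', ha'⟩ := Groth.QCohMod.exists_pow_smul_eq_res S.X₁ hU f a
    refine ⟨l + k, f ^ l • b + S.f.app U a', ?_⟩
    rw [map_add, Groth.QCohMod.res_smul, Groth.QCohMod.res_app, ha', Scheme.Modules.Hom.app_smul,
      ha, map_pow, smul_sub, ← mul_smul, ← pow_add]
    abel
  · obtain ⟨k, hk⟩ := Groth.QCohMod.exists_pow_smul_eq_zero S.X₃ hU f (S.g.app U m)
      (by rw [Groth.QCohMod.res_app, hm, map_zero])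
    rw [← Scheme.Modules.Hom.app_smul] at hk
    obtain ⟨a, ha⟩ := Groth.QCohMod.exists_app_eq_of_mono_exact hS.exact _ _ hk
    have ha0 : ρ S.X₁ (X.basicOpen_le f) a = 0 := by
      refine (injective_iff_map_eq_zero (S.f.app (X.basicOpen f)).hom).1
        (Groth.QCohMod.app_injective_of_mono S.f (X.basicOpen f)) _ ?_
      rw [← Groth.QCohMod.res_app, ha, Groth.QCohMod.res_smul, hm, smul_zero]
    obtain ⟨l, hl⟩ := Groth.QCohMod.exists_pow_smul_eq_zero S.X₁ hU f a ha0
    refine ⟨l + k, ?_⟩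
    rw [pow_add, mul_smul, ← ha, ← Scheme.Modules.Hom.app_smul, hl, map_zero]

end Groth.CohTwo.QCohExt
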