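import Groth.Agent.CohTwo.PointSupported
import Groth.Agent.QCohMod.Local

/-!
The skyscraper module of a module over the local ring at a point.
-/

universe u

open CategoryTheory CategoryTheory.Limits AlgebraicGeometry TopologicalSpace Opposite

namespace Groth.CohTwo.SkyMod

open Groth.CohTwo

variable {X : Scheme.{u}} (x : X) (E : Type u) [AddCommGroup E] [Module (X.presheaf.stalk x) E]

/-- Sections of the skyscraper: functions on the proofs that the point lies in the open. -/
noncomputable def ab : (Opens X)ᵒᵖ ⥤ AddCommGrpCat.{u} where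
  obj W := AddCommGrpCat.of (PLift (x ∈ W.unop) → E)
  map {W W'} i := AddCommGrpCat.ofHom
    (AddMonoidHom.mk' (fun s h => s ⟨leOfHom i.unop h.down⟩) fun _ _ => rfl)
  map_id W := rfl
  map_comp i j := rfl

noncomputable instance (W : (Opens X)ᵒᵖ) : Module (X.ringCatSheaf.obj.obj W) ((ab x E).obj W) :=
  @Pi.module (PLift (x ∈ W.unop)) (fun _ => E) Γ(X, W.unop) _ _
    (fun h => Module.compHom E (X.presheaf.germ W.unop x h.down).hom)

/-- The skyscraper module. -/
noncomputable def sky : X.Modules where
  val := PresheafOfModules.ofPresheaf (ab x E) fun W W' i r s => by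
    funext h
    change X.presheaf.germ W.unop x (leOfHom i.unop h.down) r • s ⟨leOfHom i.unop h.down⟩ =
      X.presheaf.germ W'.unop x h.down (X.presheaf.map i r) • s ⟨leOfHom i.unop h.down⟩
    congr 1
    exact (TopCat.Presheaf.germ_res_apply X.presheaf i.unop x h.down r).symm
  isSheaf := by
    change TopCat.Presheaf.IsSheaf (X := X.toPresheafedSpace) (ab x E)
    rw [TopCat.Presheaf.isSheaf_iff_isSheafUniqueGluing]
    intro ι U sf hsf
    refine ⟨fun h => sf (Opens.mem_iSup.1 h.down).choose ⟨(Opens.mem_iSup.1 h.down).choose_spec⟩,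
      fun i => funext fun h => ?_, fun t ht => funext fun h => ?_⟩
    · have hi : x ∈ ⨆ j, U j := Opens.mem_iSup.2 ⟨i, h.down⟩
      exact congrFun (hsf (Opens.mem_iSup.1 hi).choose i) ⟨(Opens.mem_iSup.1 hi).choose_spec, h.down⟩
    · exact congrFun (ht (Opens.mem_iSup.1 h.down).choose) ⟨(Opens.mem_iSup.1 h.down).choose_spec⟩

theorem isPointAt_sky : IsPointAt (sky x E) x where
  zero W hW := ⟨fun _ _ => funext fun h => absurd h.down hW⟩
  bij W' W h hx := ⟨fun s t hst => funext fun hW => congrFun hst ⟨hx⟩,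
    fun t => ⟨fun _ => t ⟨hx⟩, funext fun _ => rfl⟩⟩

/-- A constant section. -/
noncomputable def const (W : X.Opens) (e : E) : Γ(sky x E, W) := fun _ => e

/-- The stalk at the point. -/
noncomputable def stalkMap' : E →ₗ[X.presheaf.stalk x] (sky x E).presheaf.stalk x where
  toFun e := (sky x E).presheaf.germ ⊤ x trivial (const x E ⊤ e)
  map_add' e e' := by
    rw [← map_add]
    rfl
  map_smul' r e := by
    obtain ⟨W, hW, b, rfl⟩ := TopCat.Presheaf.exists_germ_eq X.presheaf r
    rw [RingHom.id_apply]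
    rw [← stalk_germ_res (sky x E) x (le_top : W ≤ ⊤) hW,
      ← stalk_germ_res (sky x E) x (le_top : W ≤ ⊤) hW (const x E ⊤ e), ← stalk_germ_smul]
    rfl

theorem bijective_stalkMap' : Function.Bijective (stalkMap' x E) := by
  have hb := (isPointAt_sky x E).bijective_germ ⊤ trivial
  refine hb.comp ⟨fun e e' h => congrFun h ⟨trivial⟩, fun s => ⟨s ⟨trivial⟩, funext fun _ => rfl⟩⟩

/-- The stalk of the skyscraper at the point is the module. -/
noncomputable def stalkEquiv : E ≃ₗ[X.presheaf.stalk x] (sky x E).presheaf.stalk x :=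
  LinearEquiv.ofBijective (stalkMap' x E) (bijective_stalkMap' x E)

theorem injective_stalk_sky [Module.Injective (X.presheaf.stalk x) E] :
    Module.Injective (X.presheaf.stalk x) ((sky x E).presheaf.stalk x) := by
  refine ⟨fun {P Q} _ _ _ _ φ hφ g => ?_⟩
  obtain ⟨h, hh⟩ := Module.Injective.out (R := X.presheaf.stalk x) (Q := E) φ hφ
    ((stalkEquiv x E).symm.toLinearMap ∘ₗ g)
  exact ⟨(stalkEquiv x E).toLinearMap ∘ₗ h,
    fun p => (congrArg (stalkEquiv x E) (hh p)).trans ((stalkEquiv x E).apply_symm_apply _)⟩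

theorem injective_sky [Module.Injective (X.presheaf.stalk x) E] : Injective (sky x E) := by
  haveI := injective_stalk_sky x E
  exact (isPointAt_sky x E).injective

open Groth.QCohMod in
/-- A skyscraper of a module on which the maximal ideal acts locally nilpotently is
quasi-coherent. -/
theorem isQCoh_sky
    (ht : ∀ (e : E), ∀ a ∈ IsLocalRing.maximalIdeal (X.presheaf.stalk x), ∃ n : ℕ, a ^ n • e = 0) :
    (sky x E).IsQuasicoherent := by
  refine isQCoh_of_forall_affine (sky x E) (fun U _ f s => ?_) fun U _ f t ht0 => ?_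
  · by_cases hx : x ∈ X.basicOpen f
    · obtain ⟨t, h⟩ := ((isPointAt_sky x E).bij _ U (X.basicOpen_le f) hx).2 s
      exact ⟨0, t, by rw [pow_zero, one_smul]; exact h⟩
    · exact ⟨0, 0, ((isPointAt_sky x E).zero _ hx).elim _ _⟩
  · by_cases hx : x ∈ U
    · by_cases hxf : x ∈ X.basicOpen f
      · exact ⟨0, by
          rw [((isPointAt_sky x E).bij _ U (X.basicOpen_le f) hxf).1 (ht0.trans (map_zero _).symm),
            smul_zero]⟩
      · obtain ⟨n, hn⟩ := ht ((show PLift (x ∈ U) → E from t) ⟨hx⟩) (X.presheaf.germ U x hx f)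
          ((IsLocalRing.mem_maximalIdeal _).2 fun h => hxf ((X.mem_basicOpen _ x hx).2 h))
        refine ⟨n, funext fun h => ?_⟩
        change X.presheaf.germ U x h.down (f ^ n) • (show PLift (x ∈ U) → E from t) h = 0
        rw [map_pow]
        exact hn
    · exact ⟨0, ((isPointAt_sky x E).zero _ hx).elim _ _⟩

end Groth.CohTwo.SkyMod
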