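import Groth.Agent.Misc6.CohGab

/-!
# Coherent modules with prescribed support on locally Noetherian schemes
-/

universe u

open CategoryTheory CategoryTheory.Limits AlgebraicGeometry TopologicalSpace Opposite

namespace Groth.CohTwo.SupportRealise

open Groth.QCohMod Groth.CohTwo Groth.Misc6.CohGab

variable {X : Scheme.{u}} [IsLocallyNoetherian X]

theorem mem_support_cokernel_idealMul {F : X.Modules} (hF : Coh.IsCoh F) (J : X.IdealSheafData) {x : X}
    (hx : x ∈ CohB1.support F) (hJ : x ∈ (J.support : Set X)) :
    x ∈ CohB1.support (cokernel (Dual3.idealMulι J F)) := by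
  haveI := hF.1
  haveI := isQCoh_idealMul J F
  haveI := finite_stalk F hF.2 x
  let m := IsLocalRing.maximalIdeal (X.presheaf.stalk x)
  intro h
  obtain ⟨V, hV, hxV⟩ := Groth.QCohMod.exists_affine_mem x
  have hsurj : Function.Surjective ((stalk x).map (Dual3.idealMulι J F)) := by
    haveI : Subsingleton ↑((stalk x).obj (cokernel (Dual3.idealMulι J F))) := h
    have z := (AddCommGrpCat.isZero_of_subsingleton ((stalk x).obj (cokernel (Dual3.idealMulι J F)))).of_iso
      (PreservesCokernel.iso (stalk x) (Dual3.idealMulι J F)).symm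
    haveI := Preadditive.epi_of_isZero_cokernel _ z
    exact (AddCommGrpCat.epi_iff_surjective _).1 inferInstance
  have hle : (⊤ : Submodule (X.presheaf.stalk x) ↑(F.presheaf.stalk x)) ≤ m • ⊤ := by
    intro t _
    obtain ⟨w, hw⟩ := hsurj t
    obtain ⟨c, s, hc, hcs⟩ := exists_smul_germ_eq ((Dual3.idealMul J).obj F) hV x hxV w
    have hu := (Scheme.mem_basicOpen X c x hxV).1 hc
    refine (Submodule.smul_mem_iff_of_isUnit _ hu).1 ?_
    have himg := (mem_range_idealMulι_iff J F hV _).1 ⟨s, rfl⟩
    have key : X.presheaf.germ V x hxV c • t = Groth.QCohMod.germ F x hxV ((Dual3.idealMulι J F).app V s) := by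
      rw [← hw]
      show X.presheaf.germ V x hxV c • stalkLin (Dual3.idealMulι J F) x w = _
      rw [← map_smul, hcs]
      exact stalk_map_germ _ _ _ _
    rw [key]
    refine Submodule.smul_induction_on himg (fun a ha z _ => ?_) (fun p q hp hq => ?_)
    · rw [stalk_germ_smul]
      refine Submodule.smul_mem_smul ?_ trivial
      rw [IsLocalRing.mem_maximalIdeal, mem_nonunits_iff]
      intro hunit
      have hxb := (Scheme.mem_basicOpen X a x hxV).2 hunit
      exact (Scheme.mem_zeroLocus_iff _ _ _).1
        ((Scheme.IdealSheafData.mem_support_iff_of_mem (U := ⟨V, hV⟩) hxV).1 hJ) a ha hxb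
    · rw [map_add]; exact add_mem hp hq
  have hbot := Submodule.eq_bot_of_le_smul_of_le_jacobson_bot m (⊤ : Submodule (X.presheaf.stalk x) ↑(F.presheaf.stalk x))
    (Module.Finite.fg_top) hle (IsLocalRing.jacobson_eq_maximalIdeal (⊥ : Ideal _) bot_ne_top).ge
  exact hx ⟨fun p q => by
    have hp : p ∈ (⊤ : Submodule (X.presheaf.stalk x) ↑(F.presheaf.stalk x)) := trivial
    have hq : q ∈ (⊤ : Submodule (X.presheaf.stalk x) ↑(F.presheaf.stalk x)) := trivial
    rw [hbot, Submodule.mem_bot] at hp hq
    rw [hp, hq]⟩

/-- Some coherent module has a given closed set as support. -/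
theorem exists_support_eq (Z : Closeds X) : ∃ F : X.Modules, Coh.IsCoh F ∧ CohB1.support F = (Z : Set X) := by
  let J := Scheme.IdealSheafData.vanishingIdeal Z
  have hO := isCoh_unit (X := X)
  haveI := hO.1
  haveI := isQCoh_idealMul J (Coh.structureModule X)
  have hJ : (J.support : Set X) = Z := Scheme.IdealSheafData.coe_support_vanishingIdeal _
  refine ⟨cokernel (Dual3.idealMulι J (Coh.structureModule X)), isCoh_cokernel _ hO, subset_antisymm ?_ ?_⟩
  · intro x hx
    by_contra hxZ
    exact notMem_support_cokernel _ x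
      (bijective_stalk_idealMulι _ _ (by rw [hJ]; exact hxZ)).2 hx
  · intro x hx
    refine mem_support_cokernel_idealMul hO J ?_ (hJ ▸ hx)
    intro h
    haveI : Subsingleton ↑((Coh.structureModule X).presheaf.stalk x) := h
    exact not_subsingleton (X.presheaf.stalk x) ((bijective_toSpanSingleton_one x).1.subsingleton)

end Groth.CohTwo.SupportRealise
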