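import Groth.Agent.CohBase.CxModel
import Groth.Agent.CohFin.ProjFinite

/-!
`A`-linearity of the comparison `T_p(M) ≅ H^p(X, F ⊗_A M)`, and a finite free model keeping it.
-/

universe u

open CategoryTheory Limits AlgebraicGeometry TopologicalSpace Opposite
open scoped TensorProduct
open Groth.QCohMod (resFun resFun_resFun)

namespace Groth.CohTwo

open Groth.CohBase

variable {A : Type u} [CommRing A] {X : Scheme.{u}} [X.Over (Spec (CommRingCat.of A))]

lemma tensorSec_lTensor_smul (F : X.Modules) (M : ModuleCat.{u} A) (W : X.Opens) (a : A)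
    (z : secA A F W ⊗[A] M) :
    tensorSec F M W ((a • LinearMap.id : M →ₗ[A] M).lTensor _ z) =
      toSec A W a • tensorSec F M W z := by
  induction z using TensorProduct.induction_on with
  | zero => simp
  | add p q hp hq => simp only [map_add, hp, hq, smul_add]
  | tmul s m =>
    rw [LinearMap.lTensor_tmul, tensorSec_tmul, tensorSec_tmul, LinearMap.smul_apply,
      LinearMap.id_apply, tildeSec_smul, PicAux.tmulSec_smul_left]

variable (G : GoodCover X) (F : X.Modules) [F.IsQuasicoherent]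

lemma tensorIsoApp_smul (p : ℕ) (M : ModuleCat.{u} A) (a : A)
    (c : (CohIII.TFun (cxA A G.U F) (p : ℤ)).obj M) :
    tensorIsoApp A G F p M (a • c) = a • tensorIsoApp A G F p M c := by
  obtain ⟨z, rfl⟩ := FlatCxBase.clsT_surjective (cxA A G.U F)
    (FlatCxBase.cochain_next (p : ℤ)) M c
  rw [← map_smul, tensorIsoApp_clsT, tensorIsoApp_clsT]
  refine SecModel.cycToHH_smul (tensorModel G F M) G.hcov (a • LinearMap.id)
    (Coh.toGlobal (X ↘ Spec (CommRingCat.of A)) a) (fun W w => ?_) p z _ ?_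
  · exact tensorSec_lTensor_smul F M W a w
  · change a • z.1 = (a • LinearMap.id (R := A) (M := M)).lTensor _ z.1
    rw [LinearMap.lTensor_smul, LinearMap.lTensor_id, LinearMap.smul_apply, LinearMap.id_apply]

/-- The comparison, linearly. -/
noncomputable def tensorLinIso (p : ℕ) (M : ModuleCat.{u} A) :
    (CohIII.TFun (cxA A G.U F) (p : ℤ)).obj M ≃ₗ[A]
      Coh.HH X ((CohIII.tensorAFunctor A F).obj M) p :=
  (tensorIsoApp A G F p M).toLinearEquiv (tensorIsoApp_smul G F p M)

omit [F.IsQuasicoherent] in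
/-- A finite free complex computing `H^p(X, F ⊗ M)` linearly. -/
theorem exists_linModel [IsNoetherianRing A] [IsProper (X ↘ Spec (CommRingCat.of A))]
    (hF : Coh.IsCoh F) (hfl : FlatMod.IsFlatOver (X ↘ Spec (CommRingCat.of A)) F) :
    ∃ L : CochainComplex (ModuleCat.{u} A) ℤ,
      (∀ i, Module.Finite A (L.X i)) ∧ (∀ i, Module.Free A (L.X i)) ∧
      ∀ p : ℕ, Nonempty (CohIII.TFun L (p : ℤ) ⋙ forget₂ (ModuleCat.{u} A) AddCommGrpCat.{u} ≅
          CohIII.tensorAFunctor A F ⋙ CohIII.HAb X p) ∧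
        ∀ M : ModuleCat.{u} A, Nonempty ((CohIII.TFun L (p : ℤ)).obj M ≃ₗ[A]
          Coh.HH X ((CohIII.tensorAFunctor A F).obj M) p) := by
  have := CohFin.compactSpace_of_proper (X ↘ Spec (CommRingCat.of A))
  have := CohFin.isSeparated_of_proper (X ↘ Spec (CommRingCat.of A))
  have := hF.1
  obtain ⟨G⟩ := exists_goodCover X
  obtain ⟨L, φ, hL, -, hq⟩ := exists_finiteFree_qis A G F hfl fun p =>
    CohFin.hFin_of_proper CohFin.projFinite p X (X ↘ Spec (CommRingCat.of A)) F hF
  exact ⟨L, fun i => (hL i).1, fun i => (hL i).2, fun p =>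
    ⟨⟨Functor.isoWhiskerRight (tFunIso φ p hq) _ ≪≫ tensorIso A G F p⟩, fun M =>
      ⟨((tFunIso φ (p : ℤ) hq).app M).toLinearEquiv.trans (tensorLinIso G F p M)⟩⟩⟩

end Groth.CohTwo
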