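import Groth.Agent.CohTwo.GrLocFree
import Groth.Agent.HilbStab.Scalar
import Mathlib.RingTheory.Filtration
import Mathlib.RingTheory.TensorProduct.Quotient

/-!
# Vanishing of a morphism from vanishing on a closed fibre, by induction on thickenings

`φ : E ⟶ G` with `G` flat over `A`.  If every `ψ : E ⟶ G/mG` which vanishes at the point `x₀` is zero
and `φ` vanishes along an `A`-section through `x₀` near which `G` is free, then `φ(E) ⊆ m^k G` for
all `k`, so `φ` vanishes at the points over `m`.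
-/

set_option autoImplicit false

universe u

open CategoryTheory CategoryTheory.Limits AlgebraicGeometry TensorProduct
open Groth.PicAux Groth.KTheory.LocFree Groth.GrFree

namespace Groth.ThickVanish

section Algebra

variable {A : Type u} [CommRing A] {M : Type u} [AddCommGroup M] [Module A M]

theorem mem_smul_of_flat [Module.Flat A M] {m a : Ideal A} (hm : m.IsMaximal) {ε : A}
    (hε : ε ∉ a) (hmε : ∀ c ∈ m, c * ε ∈ a) (v : M)
    (hv : ε • v ∈ a • (⊤ : Submodule A M)) : v ∈ m • (⊤ : Submodule A M) := by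
  let μ : (A ⧸ m) →ₗ[A] A ⧸ a :=
    Submodule.liftQ m (LinearMap.toSpanSingleton A _ (Ideal.Quotient.mk a ε)) fun c hc => by
      rw [LinearMap.mem_ker, LinearMap.toSpanSingleton_apply, ← Ideal.Quotient.mk_eq_mk,
        ← Submodule.Quotient.mk_smul, Submodule.Quotient.mk_eq_zero]
      exact hmε c hc
  have hμ : Function.Injective μ := by
    rw [← LinearMap.ker_eq_bot]
    refine (Submodule.eq_bot_iff _).2 fun z hz => ?_
    obtain ⟨c, rfl⟩ := Submodule.Quotient.mk_surjective m z
    rw [LinearMap.mem_ker, Submodule.liftQ_apply, LinearMap.toSpanSingleton_apply,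
      ← Ideal.Quotient.mk_eq_mk, ← Submodule.Quotient.mk_smul, Submodule.Quotient.mk_eq_zero] at hz
    rw [Submodule.Quotient.mk_eq_zero]
    by_contra hc
    obtain ⟨d, n, hn, hdn⟩ := hm.exists_inv hc
    refine hε ?_
    have h := a.add_mem (a.mul_mem_left d hz) (hmε n hn)
    rw [smul_eq_mul, ← mul_assoc, ← add_mul, hdn, one_mul] at h
    exact h
  have hinj := Module.Flat.rTensor_preserves_injective_linearMap (M := M) μ hμ
  have h0 : (μ.rTensor M) ((1 : A ⧸ m) ⊗ₜ v) = 0 := by
    rw [LinearMap.rTensor_tmul]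
    have e : μ 1 = ε • (1 : A ⧸ a) := by
      change μ (Submodule.Quotient.mk (1 : A)) = _
      rw [Submodule.liftQ_apply, LinearMap.toSpanSingleton_apply, one_smul, ← map_one (Ideal.Quotient.mk a),
        ← Ideal.Quotient.mk_eq_mk, ← Ideal.Quotient.mk_eq_mk, ← Submodule.Quotient.mk_smul,
        smul_eq_mul, mul_one]
    rw [e, TensorProduct.smul_tmul]
    apply (TensorProduct.quotTensorEquivQuotSMul M a).injective
    rw [map_zero, show (1 : A ⧸ a) = Ideal.Quotient.mk a 1 from rfl,
      TensorProduct.quotTensorEquivQuotSMul_mk_tmul, one_smul]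
    exact (Submodule.Quotient.mk_eq_zero _).mpr hv
  have h1 := congrArg (TensorProduct.quotTensorEquivQuotSMul M m) (hinj (h0.trans (map_zero _).symm))
  rw [map_zero, show (1 : A ⧸ m) = Ideal.Quotient.mk m 1 from rfl,
    TensorProduct.quotTensorEquivQuotSMul_mk_tmul, one_smul] at h1
  exact (Submodule.Quotient.mk_eq_zero _).mp h1

end Algebra

section Scheme

variable {Y : Scheme.{u}}

theorem stalkₗ_scalar (c : Γ(Y, ⊤)) (M : Y.Modules) (y : Y) (t : M.presheaf.stalk y) :
    stalkₗ (HilbStab.scalar c M) y t = Y.presheaf.germ ⊤ y trivial c • t := by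
  obtain ⟨U, hU, v, rfl⟩ := Groth.QCohMod.exists_germ M y t
  refine (Groth.QCohMod.stalk_map_germ _ y hU v).trans ?_
  rw [HilbStab.scalar_app]
  have h := germ_smul_res M (le_top : U ≤ ⊤) (le_refl U) y hU c v
  rwa [res_self] at h

theorem stalkₗ_add_apply {A B : Y.Modules} (f g : A ⟶ B) (y : Y) (t : A.presheaf.stalk y) :
    stalkₗ (f + g) y t = stalkₗ f y t + stalkₗ g y t :=
  congr($((Groth.QCohMod.stalk y).map_add (f := f) (g := g)) t)

/-- A morphism with zero stalk maps is zero. -/
theorem hom_eq_zero {M N : Y.Modules} (f : M ⟶ N) (h : ∀ y t, stalkₗ f y t = 0) : f = 0 := by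
  by_contra hf
  haveI : Epi (kernel.ι f) := (Groth.QCohMod.epi_iff_stalk _).2 fun y t => by
    have hex := (ShortComplex.exact_of_f_is_kernel (ShortComplex.mk (kernel.ι f) f (kernel.condition f))
      (kernelIsKernel f)).map (Groth.QCohMod.stalk y)
    rw [ShortComplex.ab_exact_iff] at hex
    exact hex t (h y t)
  exact hf ((cancel_epi (kernel.ι f)).mp ((kernel.condition f).trans comp_zero.symm))

variable {A : Type u} [CommRing A] (θ : A →+* Γ(Y, ⊤))

/-- The map to the local ring. -/
noncomputable def θy (y : Y) : A →+* Y.presheaf.stalk y :=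
  (Y.presheaf.germ ⊤ y trivial).hom.comp θ

/-- Multiplication by finitely many elements. -/
noncomputable def mulMap (G : Y.Modules) {r : ℕ} (a : Fin r → A) : (∐ fun _ : Fin r => G) ⟶ G :=
  Sigma.desc fun i => HilbStab.scalar (θ (a i)) G

variable [IsNoetherianRing A]

/-- The number of chosen generators. -/
noncomputable def rk (a : Ideal A) : ℕ :=
  (Submodule.fg_iff_exists_fin_generating_family.1 (IsNoetherian.noetherian a)).choose

/-- Chosen generators. -/
noncomputable def gens (a : Ideal A) : Fin (rk a) → A :=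
  (Submodule.fg_iff_exists_fin_generating_family.1 (IsNoetherian.noetherian a)).choose_spec.choose

theorem span_gens (a : Ideal A) : Ideal.span (Set.range (gens a)) = a :=
  (Submodule.fg_iff_exists_fin_generating_family.1 (IsNoetherian.noetherian a)).choose_spec.choose_spec

theorem gens_mem (a : Ideal A) (i : Fin (rk a)) : gens a i ∈ a :=
  (span_gens a).le (Ideal.subset_span ⟨i, rfl⟩)

/-- `G/aG`. -/
noncomputable def modA (G : Y.Modules) (a : Ideal A) : Y.Modules := cokernel (mulMap θ G (gens a))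

/-- The projection to `G/aG`. -/
noncomputable def modAπ (G : Y.Modules) (a : Ideal A) : G ⟶ modA θ G a := cokernel.π _

theorem mulMap_modAπ (G : Y.Modules) (a : Ideal A) : mulMap θ G (gens a) ≫ modAπ θ G a = 0 :=
  cokernel.condition _

instance (G : Y.Modules) (a : Ideal A) : Epi (modAπ θ G a) :=
  inferInstanceAs (Epi (cokernel.π _))

theorem modAπ_surjective (G : Y.Modules) (a : Ideal A) (y : Y) :
    Function.Surjective (stalkₗ (modAπ θ G a) y) :=
  (Groth.QCohMod.epi_iff_stalk _).mp inferInstance y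

/-- The kernel of `G_y → (G/aG)_y` is `a G_y`. -/
theorem stalkₗ_modAπ_eq_zero_iff (G : Y.Modules) (a : Ideal A) (y : Y) (u : G.presheaf.stalk y) :
    stalkₗ (modAπ θ G a) y u = 0 ↔
      u ∈ a.map (θy θ y) • (⊤ : Submodule (Y.presheaf.stalk y) (G.presheaf.stalk y)) := by
  have hj : ∀ i (v : G.presheaf.stalk y),
      stalkₗ (mulMap θ G (gens a)) y (stalkₗ (Sigma.ι (fun _ : Fin (rk a) => G) i) y v) =
        θy θ y (gens a i) • v := fun i v => by
    rw [← LinearMap.comp_apply, ← stalkₗ_comp, mulMap, Sigma.ι_desc, stalkₗ_scalar]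
    rfl
  constructor
  · intro hu
    have hex := (ShortComplex.exact_of_g_is_cokernel
      (ShortComplex.mk (mulMap θ G (gens a)) (cokernel.π _) (cokernel.condition _))
      (cokernelIsCokernel _)).map (Groth.QCohMod.stalk y)
    rw [ShortComplex.ab_exact_iff] at hex
    obtain ⟨w, hw⟩ := hex u hu
    have hw' : stalkₗ (mulMap θ G (gens a)) y w = u := hw
    have e := LinearMap.congr_fun ((congrArg (fun f => stalkₗ f y)
      (PnCoh.sigmaProj_total (fun _ : Fin (rk a) => G))).trans (stalkₗ_id _ y)) w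
    rw [stalkₗ_sum, LinearMap.sum_apply, LinearMap.id_apply] at e
    rw [← hw', ← e, map_sum]
    refine Submodule.sum_mem _ fun i _ => ?_
    rw [stalkₗ_comp, LinearMap.comp_apply, hj]
    exact Submodule.smul_mem_smul (Ideal.mem_map_of_mem _ (gens_mem a i)) Submodule.mem_top
  · intro hu
    have hle : a.map (θy θ y) • (⊤ : Submodule (Y.presheaf.stalk y) (G.presheaf.stalk y)) ≤
        LinearMap.ker (stalkₗ (modAπ θ G a) y) := by
      conv_lhs => rw [← span_gens a, Ideal.map_span]
      rw [Submodule.smul_le]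
      intro c hc v _
      induction hc using Submodule.span_induction generalizing v with
      | mem c hc =>
        obtain ⟨_, ⟨i, rfl⟩, rfl⟩ := hc
        rw [LinearMap.mem_ker, ← hj, ← LinearMap.comp_apply, ← stalkₗ_comp, mulMap_modAπ,
          stalkₗ_zero, LinearMap.zero_apply]
      | zero => rw [zero_smul]; exact Submodule.zero_mem _
      | add p q _ _ hp hq => rw [add_smul]; exact Submodule.add_mem _ (hp v trivial) (hq v trivial)
      | smul c p _ hp => rw [smul_eq_mul, mul_smul]; exact Submodule.smul_mem _ _ (hp v trivial)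
    exact hle hu

variable {E G : Y.Modules} (φ : E ⟶ G) {R : Type u} [CommRing R] {x₀ : Y}
  (ev : Y.presheaf.stalk x₀ →+* R) [IsLocalHom ev] {ι : Type u}
  (b : Module.Basis ι (Y.presheaf.stalk x₀) (G.presheaf.stalk x₀))

/-- The induction step and its conclusion: `φ` lands in `aG` for every `m`-primary `a`. -/
theorem mem_smul_of_fibre (m : Ideal A) (hm : m.IsMaximal)
    (hflat : ∀ y, letI := Module.compHom (G.presheaf.stalk y) (θy θ y); Module.Flat A (G.presheaf.stalk y))
    (hR : ∀ (a : Ideal A) (k : ℕ), m ^ k ≤ a → ∀ ε : A,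
      ev (θy θ x₀ ε) ∈ a.map (ev.comp (θy θ x₀)) → ε ∈ a)
    (hev : ∀ (u : E.presheaf.stalk x₀) (i : ι), ev (b.repr (stalkₗ φ x₀ u) i) = 0)
    (H : ∀ ψ : E ⟶ modA θ G m,
      (∀ u, stalkₗ ψ x₀ u ∈ (IsLocalRing.maximalIdeal (Y.presheaf.stalk x₀)) •
        (⊤ : Submodule (Y.presheaf.stalk x₀) ((modA θ G m).presheaf.stalk x₀))) → ψ = 0)
    (k : ℕ) (y : Y) (u : E.presheaf.stalk y) :
    stalkₗ φ y u ∈ (m ^ k).map (θy θ y) • (⊤ : Submodule (Y.presheaf.stalk y) (G.presheaf.stalk y)) := by
  suffices key : ∀ a : Ideal A, m ^ k ≤ a → ∀ y u, stalkₗ φ y u ∈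
      a.map (θy θ y) • (⊤ : Submodule (Y.presheaf.stalk y) (G.presheaf.stalk y)) from key _ le_rfl y u
  clear y u
  intro a
  induction a using WellFoundedGT.induction with
  | ind a IH => ?_
  intro hka
  by_cases hatop : a = ⊤
  · intro y u
    rw [hatop, Ideal.map_top, Submodule.top_smul]
    trivial
  -- an element killed by `m` modulo `a`
  obtain ⟨ε, hε, hmε⟩ : ∃ ε ∉ a, ∀ c ∈ m, c * ε ∈ a := by
    classical
    have hex : ∃ j, m ^ j ≤ a := ⟨k, hka⟩
    obtain ⟨j, hj⟩ : ∃ j, Nat.find hex = j + 1 := by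
      refine Nat.exists_eq_succ_of_ne_zero fun h0 => hatop (top_le_iff.mp ?_)
      have := Nat.find_spec hex
      rwa [h0, pow_zero, Ideal.one_eq_top] at this
    have hlt : ¬ m ^ j ≤ a := Nat.find_min hex (by omega)
    obtain ⟨ε, hεm, hεa⟩ := Set.not_subset.mp hlt
    refine ⟨ε, hεa, fun c hc => ?_⟩
    have := Nat.find_spec hex
    rw [hj, pow_succ'] at this
    exact this (Ideal.mul_mem_mul hc hεm)
  let a' := a ⊔ Ideal.span {ε}
  have hlt : a < a' := lt_of_le_of_ne le_sup_left fun h => hε (by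
    rw [h]; exact Ideal.mem_sup_right (Ideal.mem_span_singleton_self ε))
  have hP := IH a' hlt (hka.trans le_sup_left)
  -- multiplication by `ε`
  let μ0 : G ⟶ modA θ G a := HilbStab.scalar (θ ε) G ≫ modAπ θ G a
  have hμ0 : ∀ y v, stalkₗ μ0 y v = stalkₗ (modAπ θ G a) y (θy θ y ε • v) := fun y v => by
    rw [stalkₗ_comp, LinearMap.comp_apply, stalkₗ_scalar]; rfl
  have hw : mulMap θ G (gens m) ≫ μ0 = 0 := by
    refine Sigma.hom_ext _ _ fun i => ?_
    rw [mulMap, Sigma.ι_desc_assoc, comp_zero]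
    refine hom_eq_zero _ fun y v => ?_
    rw [stalkₗ_comp, LinearMap.comp_apply, stalkₗ_scalar, hμ0, stalkₗ_modAπ_eq_zero_iff]
    rw [show Y.presheaf.germ ⊤ y trivial (θ (gens m i)) = θy θ y (gens m i) from rfl, smul_smul,
      ← map_mul]
    refine Submodule.smul_mem_smul (Ideal.mem_map_of_mem _ ?_) Submodule.mem_top
    rw [mul_comm]
    exact hmε _ (gens_mem m i)
  let μ : modA θ G m ⟶ modA θ G a := cokernel.desc _ μ0 hw
  have hμπ : modAπ θ G m ≫ μ = μ0 := cokernel.π_desc _ _ _
  have hμ : ∀ y v, stalkₗ μ y (stalkₗ (modAπ θ G m) y v) =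
      stalkₗ (modAπ θ G a) y (θy θ y ε • v) := fun y v => by
    rw [← LinearMap.comp_apply, ← stalkₗ_comp, hμπ, hμ0]
  haveI : Mono μ := by
    refine (Groth.QCohMod.mono_iff_stalk μ).mpr fun y => ?_
    refine (injective_iff_map_eq_zero _).mpr fun z hz => ?_
    obtain ⟨v, rfl⟩ := modAπ_surjective θ G m y z
    have hz' : stalkₗ μ y (stalkₗ (modAπ θ G m) y v) = 0 := hz
    rw [hμ, stalkₗ_modAπ_eq_zero_iff] at hz'
    refine (stalkₗ_modAπ_eq_zero_iff θ G m y v).mpr ?_
    letI := (θy θ y).toAlgebra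
    letI := Module.compHom (G.presheaf.stalk y) (θy θ y)
    haveI : IsScalarTower A (Y.presheaf.stalk y) (G.presheaf.stalk y) :=
      IsScalarTower.of_algebraMap_smul fun _ _ => rfl
    haveI := hflat y
    have e : ∀ I : Ideal A, ∀ w : G.presheaf.stalk y,
        w ∈ I.map (θy θ y) • (⊤ : Submodule (Y.presheaf.stalk y) (G.presheaf.stalk y)) ↔
          w ∈ I • (⊤ : Submodule A (G.presheaf.stalk y)) := by
      intro I w
      rw [← Submodule.restrictScalars_mem A]
      erw [Ideal.smul_restrictScalars]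
      rw [Submodule.restrictScalars_top]
    rw [e] at hz' ⊢
    exact mem_smul_of_flat hm hε hmε v hz'
  -- `φ` modulo `a` factors through `μ`
  have hlift : (φ ≫ modAπ θ G a) ≫ cokernel.π μ = 0 := by
    refine hom_eq_zero _ fun y u => ?_
    have hu := hP y u
    rw [Ideal.map_sup, Ideal.map_span, Set.image_singleton, Submodule.sup_smul] at hu
    obtain ⟨p, hp, q, hq, hpq⟩ := Submodule.mem_sup.mp hu
    rw [Submodule.ideal_span_singleton_smul] at hq
    obtain ⟨v, -, rfl⟩ := hq
    rw [stalkₗ_comp, stalkₗ_comp, LinearMap.comp_apply, LinearMap.comp_apply, ← hpq, map_add,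
      (stalkₗ_modAπ_eq_zero_iff θ G a y p).mpr hp, zero_add]
    change stalkₗ (cokernel.π μ) y (stalkₗ (modAπ θ G a) y (θy θ y ε • v)) = 0
    rw [← hμ, ← LinearMap.comp_apply, ← stalkₗ_comp, cokernel.condition, stalkₗ_zero,
      LinearMap.zero_apply]
  let ψ : E ⟶ modA θ G m := Abelian.monoLift μ (φ ≫ modAπ θ G a) hlift
  have hψμ : ψ ≫ μ = φ ≫ modAπ θ G a := Abelian.monoLift_comp _ _ _
  have hψ : ψ = 0 := by
    refine H ψ fun u => ?_
    obtain ⟨v, hv⟩ := modAπ_surjective θ G m x₀ (stalkₗ ψ x₀ u)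
    rw [← hv]
    have h1 : stalkₗ (modAπ θ G a) x₀ (θy θ x₀ ε • v - stalkₗ φ x₀ u) = 0 := by
      rw [map_sub, ← hμ, hv, ← LinearMap.comp_apply, ← stalkₗ_comp, hψμ, stalkₗ_comp,
        LinearMap.comp_apply, sub_self]
    rw [stalkₗ_modAπ_eq_zero_iff] at h1
    have hcoord : ∀ {w : G.presheaf.stalk x₀}, w ∈ a.map (θy θ x₀) •
        (⊤ : Submodule (Y.presheaf.stalk x₀) (G.presheaf.stalk x₀)) →
        ∀ i, ev (b.repr w i) ∈ a.map (ev.comp (θy θ x₀)) := by
      intro w hw i
      rw [← Ideal.map_map]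
      refine Ideal.mem_map_of_mem _ ?_
      refine Submodule.smul_induction_on hw (fun c hc z _ => ?_) (fun p q hp hq => ?_)
      · rw [map_smul, Finsupp.smul_apply, smul_eq_mul]
        exact Ideal.mul_mem_right _ _ hc
      · rw [map_add, Finsupp.add_apply]
        exact Ideal.add_mem _ hp hq
    have hvi : ∀ i, b.repr v i ∈ IsLocalRing.maximalIdeal (Y.presheaf.stalk x₀) := by
      intro i
      by_contra hni
      rw [IsLocalRing.mem_maximalIdeal, mem_nonunits_iff, not_not] at hni
      have h2 := hcoord h1 i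
      rw [map_sub, map_smul, Finsupp.sub_apply, Finsupp.smul_apply, map_sub, hev u i, sub_zero,
        smul_eq_mul, map_mul] at h2
      exact hε (hR a k hka ε ((Ideal.mul_unit_mem_iff_mem _ (hni.map ev)).mp h2))
    have hvm : v ∈ IsLocalRing.maximalIdeal (Y.presheaf.stalk x₀) •
        (⊤ : Submodule (Y.presheaf.stalk x₀) (G.presheaf.stalk x₀)) := by
      rw [← b.linearCombination_repr v, Finsupp.linearCombination_apply]
      exact Submodule.sum_mem _ fun i _ => Submodule.smul_mem_smul (hvi i) Submodule.mem_top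
    have h3 := Submodule.mem_map_of_mem (f := stalkₗ (modAπ θ G m) x₀) hvm
    rw [Submodule.map_smul''] at h3
    exact (Submodule.smul_mono le_rfl le_top) h3
  intro y u
  rw [← stalkₗ_modAπ_eq_zero_iff, ← LinearMap.comp_apply, ← stalkₗ_comp, ← hψμ, hψ, zero_comp,
    stalkₗ_zero, LinearMap.zero_apply]

/-- Krull: a morphism landing in `m^k G` for all `k` is zero at the points over `m`. -/
theorem stalk_eq_zero_of_forall_pow [IsLocallyNoetherian Y] (hG : Coh.IsCoh G) (m : Ideal A) (y : Y)
    (hy : m.map (θy θ y) ≠ ⊤)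
    (h : ∀ (k : ℕ) u, stalkₗ φ y u ∈ (m ^ k).map (θy θ y) •
      (⊤ : Submodule (Y.presheaf.stalk y) (G.presheaf.stalk y))) (u : E.presheaf.stalk y) :
    stalkₗ φ y u = 0 := by
  haveI := hG.1
  haveI := Groth.QCohMod.finite_stalk G hG.2 y
  have hmem : stalkₗ φ y u ∈ (⨅ k : ℕ, m.map (θy θ y) ^ k •
      (⊤ : Submodule (Y.presheaf.stalk y) (G.presheaf.stalk y))) :=
    (Submodule.mem_iInf _).mpr fun k => by rw [← Ideal.map_pow]; exact h k u
  haveI : IsNoetherianRing (Y.presheaf.stalk y) := inferInstance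
  have hbot := Ideal.iInf_pow_smul_eq_bot_of_isLocalRing (M := G.presheaf.stalk y) (m.map (θy θ y)) hy
  exact (Submodule.mem_bot _).mp (hbot.le hmem)

end Scheme

end Groth.ThickVanish
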