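import Groth.Prelude.Def_Pic13
import Groth.Agent.CohTwo.ProjHilbert
import Groth.Agent.PicAux.PullTensor
import Groth.Agent.FlatStrata.Twist

/-!
Hilbert polynomials with respect to `ι^*O(1)` against all integer twists `Pic13.twistOn`.
-/

set_option autoImplicit false

universe u

open CategoryTheory CategoryTheory.Limits AlgebraicGeometry

noncomputable section

namespace Groth.CohTwo.TwistOnHilb

variable {k : Type u} [Field k] {X : Scheme.{u}} [X.Over (Spec (CommRingCat.of k))] {N : ℕ}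
  (ι : X ⟶ CohB1.ProjSpace N k)

/-- `ι^*O(1)`. -/
abbrev L1 : X.Modules := (Scheme.Modules.pullback ι).obj (Twist.twistProjSpace N k 1)

omit [X.Over (Spec (CommRingCat.of k))] in
theorem isAmple_L1 [IsClosedImmersion ι] : CohB1.IsAmple (L1 ι) :=
  Groth.Chow.isAmple_pullback_of_isAffineHom ι (Groth.Chow.isAmple_O1 N k)

omit [X.Over (Spec (CommRingCat.of k))] in
theorem nonempty_twist_iso (E : X.Modules) (m : ℕ) :
    Nonempty (ShStab.twist X (L1 ι) E m ≅ Pic13.twistOn k ι E (m : ℤ)) := by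
  obtain ⟨e⟩ := Groth.PnCoh.nonempty_twist_pow (CohB1.polyGrading N k)
    (Groth.Variety2.Reg.gen_one N k) m
  obtain ⟨e'⟩ := Groth.PicAux.pullback_tensorPow ι (Twist.twistProjSpace N k 1) m
  exact ⟨PicGrp.tensorModIso (Iso.refl E) (e'.symm ≪≫ (Scheme.Modules.pullback ι).mapIso e)⟩

omit [X.Over (Spec (CommRingCat.of k))] in
theorem nonempty_twistOn_twistOn (E : X.Modules) (a b c : ℤ) (h : a + b = c) :
    Nonempty (Pic13.twistOn k ι (Pic13.twistOn k ι E a) b ≅ Pic13.twistOn k ι E c) := by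
  subst h
  obtain ⟨e⟩ := Ega2Proj.nonempty_tensor_iso (Groth.Variety2.Reg.gen_one N k) a b
  obtain ⟨e'⟩ := Groth.PicAux.pullback_tensorMod ι (Groth.Variety2.Reg.isInvertible_tw a)
    (Groth.Variety2.Reg.isInvertible_tw b)
  exact ⟨(Groth.PicAux.exists_associator E _ _).choose ≪≫
    PicGrp.tensorModIso (Iso.refl E) (e'.symm ≪≫ (Scheme.Modules.pullback ι).mapIso e)⟩

/-- The integer form of a Hilbert polynomial. -/
def IsPolyZ (E : X.Modules) (P : Polynomial ℚ) : Prop :=
  ∀ m : ℤ, (Curv2.euler k X (Pic13.twistOn k ι E m) : ℚ) = P.eval (m : ℚ)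

theorem isHilbPoly_of_isPolyZ {E : X.Modules} {P : Polynomial ℚ} (h : IsPolyZ ι E P) :
    ShStab.IsHilbPoly k X (L1 ι) E P := fun m => by
  rw [EulerDeg.euler_congr (k := k) (nonempty_twist_iso ι E m).some]
  exact_mod_cast h m

theorem isPolyZ_of_isHilbPoly [IsClosedImmersion ι] [IsProper (X ↘ Spec (CommRingCat.of k))]
    {E : X.Modules} (hE : Coh.IsCoh E) {P : Polynomial ℚ}
    (h : ShStab.IsHilbPoly k X (L1 ι) E P) : IsPolyZ ι E P := by
  haveI := Groth.HilbStab.isLocallyNoetherian k (X := X)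
  intro m
  have hcoh : Coh.IsCoh (Pic13.twistOn k ι E m) :=
    Groth.RefRank.isCoh_tensorMod hE
      (Groth.FlatStrata.isCoh_pullback ι (Groth.PnCoh.isCoh_twist N k m))
  obtain ⟨P', hP'⟩ := Groth.HilbStab.exists_isHilbPoly k X (isAmple_L1 ι) hcoh
  have hnat : ∀ t : ℕ, (Curv2.euler k X (Pic13.twistOn k ι E (m + t)) : ℚ) = P'.eval (t : ℚ) :=
    fun t => by
    rw [← hP' t, EulerDeg.euler_congr (k := k) (nonempty_twist_iso ι (Pic13.twistOn k ι E m) t).some,
      EulerDeg.euler_congr (k := k) (nonempty_twistOn_twistOn ι E m (t : ℤ) (m + t) rfl).some]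
  have heq : P' = Polynomial.taylor (m : ℚ) P := by
    refine Polynomial.eq_of_infinite_eval_eq _ _ (Set.Infinite.mono ?_ (Set.Infinite.image
      (Nat.cast_injective (R := ℚ)).injOn (Set.Ici_infinite (-m).toNat)))
    rintro _ ⟨t, ht, rfl⟩
    have ht' : 0 ≤ m + t := by simp only [Set.mem_Ici] at ht; omega
    obtain ⟨s, hs⟩ := Int.eq_ofNat_of_zero_le ht'
    change P'.eval (t : ℚ) = _
    rw [← hnat t, Polynomial.taylor_eval, hs,
      ← EulerDeg.euler_congr (k := k) (nonempty_twist_iso ι E s).some, h s]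
    congr 1
    rw [show (s : ℚ) = ((m + t : ℤ) : ℚ) by rw [hs]; norm_num]
    push_cast
    ring
  have := hnat 0
  rw [Nat.cast_zero, add_zero, Nat.cast_zero, heq, Polynomial.taylor_eval, zero_add] at this
  exact this

end Groth.CohTwo.TwistOnHilb
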