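import Groth.Agent.Misc3Stein.Factor

/-!
# Universal injectivity of sections under base change along closed subschemes
-/

universe u

open CategoryTheory CategoryTheory.Limits AlgebraicGeometry

set_option backward.isDefEq.respectTransparency false

namespace Groth.CohTwo.UnivInjSections

/-- Over an affine base the Stein factor is the spectrum of global functions. -/
theorem universallyInjective_appTop_iff {X S : Scheme.{u}} (f : X ⟶ S) [IsProper f] [IsAffine S] :
    UniversallyInjective (Spec.map f.appTop) ↔ UniversallyInjective f.fromNormalization := by
  haveI : IsAffine f.normalization := isAffine_of_isAffineHom f.fromNormalization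
  haveI : IsIso f.toNormalization.appTop := Groth.Agent.S1340.result f ⊤
  haveI := MorphismProperty.RespectsIso.of_respects_arrow_iso (P := @UniversallyInjective)
  have h1 : f.appTop = f.fromNormalization.appTop ≫ f.toNormalization.appTop := by
    rw [← Scheme.Hom.comp_appTop, f.toNormalization_fromNormalization]
  rw [h1, Spec.map_comp, MorphismProperty.cancel_left_of_respectsIso @UniversallyInjective,
    ← MorphismProperty.cancel_left_of_respectsIso @UniversallyInjective f.normalization.isoSpec.hom,
    Scheme.isoSpec_hom_naturality, MorphismProperty.cancel_right_of_respectsIso @UniversallyInjective]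

/-- Geometric fibres of a proper map with universally injective Stein factor are preconnected. -/
theorem preconnectedSpace_fibre {X S : Scheme.{u}} (f : X ⟶ S) [IsProper f]
    (h : UniversallyInjective f.fromNormalization) (K : Type u) [Field K]
    (t : Spec (CommRingCat.of K) ⟶ S) : PreconnectedSpace ↥(pullback f t) := by
  let a := f.toNormalization
  let g := f.fromNormalization
  haveI : GeometricallyConnected a := Misc3Stein.geometricallyConnected_toNormalization f
  haveI : UniversallyInjective (pullback.snd g t) := MorphismProperty.pullback_snd _ _ h
  haveI : Subsingleton ↥(pullback g t) := (pullback.snd g t).injective.subsingleton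
  let b := pullback.snd a (pullback.fst g t)
  haveI : PreconnectedSpace ↥(pullback a (pullback.fst g t)) := by
    rcases isEmpty_or_nonempty ↥(pullback g t) with he | ⟨⟨w⟩⟩
    · haveI : IsEmpty ↥(pullback a (pullback.fst g t)) := Function.isEmpty b
      exact ⟨by rw [Set.univ_eq_empty_iff.2 ‹_›]; exact isPreconnected_empty⟩
    · have hb := b.isConnected_preimage_singleton w
      rw [show b ⁻¹' {w} = Set.univ from Set.eq_univ_iff_forall.2 fun x => Subsingleton.elim _ _] at hb
      exact (connectedSpace_iff_univ.2 hb).toPreconnectedSpace
  let e := (pullbackRightPullbackFstIso g t a) ≪≫
    pullback.congrHom f.toNormalization_fromNormalization rfl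
  exact e.hom.homeomorph.surjective.denseRange.preconnectedSpace e.hom.homeomorph.continuous

/-- Universal injectivity of the Stein factor is preserved by base change. -/
theorem universallyInjective_fromNormalization_snd {X S T : Scheme.{u}} (f : X ⟶ S) [IsProper f]
    (h : UniversallyInjective f.fromNormalization) (s : T ⟶ S) :
    UniversallyInjective (pullback.snd f s).fromNormalization := by
  let q := pullback.snd f s
  haveI : GeometricallyConnected q.toNormalization := Misc3Stein.geometricallyConnected_toNormalization q
  refine Misc3Stein.universallyInjective_of_subsingleton _ fun K _ t => ?_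
  haveI : PreconnectedSpace ↥(pullback f (t ≫ s)) := preconnectedSpace_fibre f h K (t ≫ s)
  let e₀ := pullbackLeftPullbackSndIso f s t
  haveI : PreconnectedSpace ↥(pullback q t) :=
    e₀.inv.homeomorph.surjective.denseRange.preconnectedSpace e₀.inv.homeomorph.continuous
  let e := (pullbackRightPullbackFstIso q.fromNormalization t q.toNormalization) ≪≫
    pullback.congrHom q.toNormalization_fromNormalization rfl
  haveI : PreconnectedSpace ↥(pullback q.toNormalization (pullback.fst q.fromNormalization t)) :=
    e.inv.homeomorph.surjective.denseRange.preconnectedSpace e.inv.homeomorph.continuous
  haveI : Surjective (pullback.snd q.toNormalization (pullback.fst q.fromNormalization t)) := inferInstance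
  haveI : PreconnectedSpace ↥(pullback q.fromNormalization t) :=
    (pullback.snd q.toNormalization (pullback.fst q.fromNormalization t)).surjective.denseRange.preconnectedSpace
      (pullback.snd q.toNormalization (pullback.fst q.fromNormalization t)).continuous
  exact Misc3Stein.subsingleton_of_integral (pullback.snd q.fromNormalization t)

/-- Universal injectivity of global functions is stable under base change to affines. -/
theorem universallyInjective_appTop_snd {X S T : Scheme.{u}} (f : X ⟶ S) [IsProper f] [IsAffine S] [IsAffine T]
    (h : UniversallyInjective (Spec.map f.appTop)) (s : T ⟶ S) :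
    UniversallyInjective (Spec.map (pullback.snd f s).appTop) :=
  (universallyInjective_appTop_iff _).2
    (universallyInjective_fromNormalization_snd f ((universallyInjective_appTop_iff f).1 h) s)

end Groth.CohTwo.UnivInjSections
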